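import Mathlib
import Cfsg.Agent.H82.SL2

/-! Linear algebra for the simple modules of `SL₂(q)` in the defining characteristic. -/

set_option autoImplicit false

namespace Cfsg.Agent.H50.SL2S

open Polynomial Finset Module

variable {F k : Type*} [Field k]

theorem vand [Fintype F] {z : F → k} (hz : Function.Injective z) {A : Type*} [AddCommGroup A]
    [Module k A] (W : Submodule k A) (c : ℕ → A) {r : ℕ} (hr : r < Fintype.card F)
    (h : ∀ t, ∑ j ∈ range (r + 1), z t ^ j • c j ∈ W) : ∀ j ≤ r, c j ∈ W := fun j hj => by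
  rw [← Subspace.forall_mem_dualAnnihilator_apply_eq_zero_iff]
  intro φ hφ
  have h0 : (∑ i ∈ range (r + 1), monomial i (φ (c i)) : k[X]) = 0 := by
    refine eq_zero_of_natDegree_lt_card_of_eval_eq_zero _ hz (fun t => ?_) (lt_of_le_of_lt ?_ hr)
    · have := (Submodule.mem_dualAnnihilator φ).1 hφ _ (h t)
      simpa [eval_finsetSum, mul_comm] using this
    · exact natDegree_sum_le_of_forall_le _ _ fun i hi =>
        (natDegree_monomial_le _).trans (by simpa [Nat.lt_succ_iff] using hi)
  have := congrArg (coeff · j) h0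
  simpa [finsetSum_coeff, coeff_monomial, Nat.lt_succ_iff, hj] using this

variable {V : Type*} [AddCommGroup V] [Module k V]

theorem charpoly_diag [FiniteDimensional k V] {ι : Type*} [Fintype ι] (b : Basis ι k V)
    (f : Module.End k V) (μ : ι → k) (h : ∀ i, f (b i) = μ i • b i) :
    f.charpoly = ∏ i, (X - C (μ i)) := by
  classical
  rw [← LinearMap.charpoly_toMatrix f b, ← Matrix.charpoly_diagonal]
  congr 1
  ext i j
  rw [LinearMap.toMatrix_apply, h, Matrix.diagonal_apply]
  by_cases e : i = j
  · simp [e]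
  · simp [e, Finsupp.single_apply, Ne.symm e]

theorem charpoly_split [FiniteDimensional k V] [Infinite k] (W : Submodule k V)
    (f : Module.End k V) (h : W ≤ W.comap f) :
    f.charpoly = (f.restrict h).charpoly * (W.mapQ W f h).charpoly := by
  refine Polynomial.funext fun t => ?_
  have h' : W ≤ W.comap (algebraMap k (Module.End k V) t - f) := fun x hx =>
    W.sub_mem (W.smul_mem t hx) (h hx)
  rw [eval_mul, LinearMap.eval_charpoly, LinearMap.eval_charpoly, LinearMap.eval_charpoly,
    LinearMap.det_eq_det_mul_det W _ h']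
  congr 2
  ext x
  rfl

theorem exists_fixed [Nontrivial V] [Finite F] [AddCommGroup F] (p : ℕ) [Fact p.Prime] [CharP k p]
    (hp : ∀ t : F, p • t = 0) (u : F → Module.End k V) (h0 : u 0 = 1)
    (h : ∀ s t, u (s + t) = u s * u t) : ∃ v ≠ 0, ∀ t, u t v = v := by
  classical
  have := Fintype.ofFinite F
  have : CharP (Module.End k V) p :=
    charP_of_injective_algebraMap (algebraMap k (Module.End k V)).injective p
  have hpow : ∀ t (n : ℕ), u t ^ n = u (n • t) := fun t n => by
    induction n with
    | zero => simp [h0]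
    | succ n ih => rw [pow_succ, ih, ← h, succ_nsmul]
  suffices H : ∀ T : Finset F, ∃ v ≠ 0, ∀ t ∈ T, u t v = v by
    obtain ⟨v, h1, h2⟩ := H univ
    exact ⟨v, h1, fun t => h2 t (mem_univ t)⟩
  intro T
  induction T using Finset.induction_on with
  | empty => exact (exists_ne 0).imp fun v hv => ⟨hv, by simp⟩
  | insert a T ha ih =>
    obtain ⟨v, h1, h2⟩ := ih
    have hN : (u a - 1) ^ p = 0 := by
      rw [sub_pow_char_of_commute _ (Commute.one_right _), hpow, hp, h0, one_pow, sub_self]
    have hex : ∃ n : ℕ, ((u a - 1) ^ n : Module.End k V) v = 0 := ⟨p, by simp [hN]⟩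
    obtain ⟨m, hm⟩ : ∃ m, Nat.find hex = m + 1 := Nat.exists_eq_succ_of_ne_zero fun e => by
      have := Nat.find_spec hex
      rw [e] at this
      exact h1 (by simpa using this)
    refine ⟨((u a - 1) ^ m : Module.End k V) v, Nat.find_min hex (by omega), fun t ht => ?_⟩
    rcases mem_insert.1 ht with rfl | ht
    · have := Nat.find_spec hex
      rw [hm, pow_succ', Module.End.mul_apply, LinearMap.sub_apply, sub_eq_zero] at this
      exact this
    · have hc : Commute (u t) ((u a - 1) ^ m) :=
        (Commute.sub_right (show u t * u a = u a * u t by rw [← h, ← h, add_comm])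
          (Commute.one_right _)).pow_right m
      rw [← Module.End.mul_apply, hc.eq, Module.End.mul_apply, h2 t ht]

section Sp

variable {A : Type*} [CommRing A] [Algebra k A]

/-- The span of the `r`-th powers of the linear forms in `a`, `b`. -/
def Sp (k : Type*) [Field k] {A : Type*} [CommRing A] [Algebra k A] (a b : A) (r : ℕ) :
    Submodule k A := Submodule.span k (Set.range fun x : k × k => (x.1 • a + x.2 • b) ^ r)

theorem mem_Sp (a b : A) (r : ℕ) (x y : k) : (x • a + y • b) ^ r ∈ Sp k a b r :=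
  Submodule.subset_span ⟨(x, y), rfl⟩

theorem pow_eq_sum (a b : A) (r : ℕ) (x y : k) : (x • a + y • b) ^ r =
    ∑ j ∈ range (r + 1), y ^ j • (x ^ (r - j) * (r.choose j : k)) • (a ^ (r - j) * b ^ j) := by
  rw [add_comm, add_pow]
  refine sum_congr rfl fun j _ => ?_
  simp only [_root_.smul_pow, mul_pow, Algebra.smul_def, map_mul, map_pow, map_natCast]
  ring

theorem Sp_le {a b : A} {r : ℕ} (p : ℕ) [CharP k p] {W : Submodule k A}
    (h : ∀ j ≤ r, ¬ p ∣ r.choose j → a ^ (r - j) * b ^ j ∈ W) : Sp k a b r ≤ W := by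
  refine Submodule.span_le.2 ?_
  rintro _ ⟨⟨x, y⟩, rfl⟩
  simp only [pow_eq_sum]
  refine W.sum_mem fun j hj => W.smul_mem _ ?_
  by_cases hp : p ∣ r.choose j
  · rw [(CharP.cast_eq_zero_iff k p _).2 hp, mul_zero, zero_smul]
    exact W.zero_mem
  · exact W.smul_mem _ (h j (by simpa [Nat.lt_succ_iff] using hj) hp)

theorem mono_mem [Fintype F] {z : F → k} (hz : Function.Injective z) {a b : A} {r : ℕ}
    (hr : r < Fintype.card F) (p : ℕ) [CharP k p] {W : Submodule k A}
    (h : ∀ t, (a + z t • b) ^ r ∈ W) {j : ℕ} (hj : j ≤ r) (hp : ¬ p ∣ r.choose j) :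
    a ^ (r - j) * b ^ j ∈ W := by
  have := vand hz W (fun j => ((1 : k) ^ (r - j) * (r.choose j : k)) • (a ^ (r - j) * b ^ j)) hr
    (fun t => by rw [← pow_eq_sum, one_smul]; exact h t) j hj
  rwa [W.smul_mem_iff (by simpa [CharP.cast_eq_zero_iff k p] using hp)] at this

theorem Sp_le_Sp {a b a' b' : A} (r : ℕ) {x y z w : k} (h1 : a = x • a' + y • b')
    (h2 : b = z • a' + w • b') : Sp k a b r ≤ Sp k a' b' r := by
  refine Submodule.span_le.2 ?_
  rintro _ ⟨⟨s, t⟩, rfl⟩
  have : s • a + t • b = (s * x + t * z) • a' + (s * y + t * w) • b' := by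
    rw [h1, h2]; module
  simp only [this]
  exact mem_Sp _ _ _ _ _

end Sp

end Cfsg.Agent.H50.SL2S
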