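import Mathlib
import Cfsg.Agent.H50.SL2A

/-! Eigenvalues of non-split semisimple elements on modules of `SL₂(q)` in the defining
characteristic. -/

set_option autoImplicit false

namespace Cfsg.Agent.H50.SL2S

open Polynomial Finset Module H82
open scoped MatrixGroups

variable {F k : Type*} [Field F] [Field k] (ι : F →+* k)

/-- The Weyl element. -/
def ww (F : Type*) [Field F] : SL(2, F) := ⟨!![0, -1; 1, 0], by simp [Matrix.det_fin_two_of]⟩

theorem ent2 : ww F 0 0 = 0 ∧ ww F 0 1 = -1 ∧ ww F 1 0 = 1 ∧ ww F 1 1 = 0 := ⟨rfl, rfl, rfl, rfl⟩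

/-- The lower left entry. -/
def cc : SL(2, F) → k := fun x => ι (x 1 0)

/-- The lower right entry. -/
def dd : SL(2, F) → k := fun x => ι (x 1 1)

/-- Right translation. -/
def RR (k : Type*) [Field k] (g : SL(2, F)) : (SL(2, F) → k) →ₐ[k] (SL(2, F) → k) where
  toFun f x := f (x * g)
  map_one' := rfl
  map_mul' _ _ := rfl
  map_zero' := rfl
  map_add' _ _ := rfl
  commutes' _ := rfl

theorem RR_apply (g : SL(2, F)) (f : SL(2, F) → k) (x : SL(2, F)) : RR k g f x = f (x * g) := rfl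

theorem RR_lin (g : SL(2, F)) (a b : k) : RR k g (a • cc ι + b • dd ι) =
    (a * ι (g 0 0) + b * ι (g 0 1)) • cc ι + (a * ι (g 1 0) + b * ι (g 1 1)) • dd ι := by
  funext x
  simp only [RR_apply, cc, dd, Pi.add_apply, Pi.smul_apply, smul_eq_mul, SL2_mul_apply, map_add,
    map_mul]
  ring

theorem RR_Sp (g : SL(2, F)) (r : ℕ) {f : SL(2, F) → k} (hf : f ∈ Sp k (cc ι) (dd ι) r) :
    RR k g f ∈ Sp k (cc ι) (dd ι) r := by
  refine (Submodule.span_le (p := (Sp k (cc ι) (dd ι) r).comap (RR k g).toLinearMap)).2 ?_ hf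
  rintro _ ⟨⟨x, y⟩, rfl⟩
  show RR k g ((x • cc ι + y • dd ι) ^ r) ∈ Sp k (cc ι) (dd ι) r
  rw [map_pow, RR_lin]
  exact mem_Sp _ _ _ _ _

variable {V : Type*} [AddCommGroup V] [Module k V] (ρ : SL(2, F) →* Module.End k V)

/-- The functions attached to a linear form. -/
def Phi (φ : Dual k V) : V →ₗ[k] (SL(2, F) → k) := LinearMap.pi fun x => φ ∘ₗ ρ x

theorem Phi_apply (φ : Dual k V) (v : V) (x : SL(2, F)) : Phi ρ φ v x = φ (ρ x v) := rfl

theorem Phi_rho (φ : Dual k V) (g : SL(2, F)) (v : V) :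
    Phi ρ φ (ρ g v) = RR k g (Phi ρ φ v) := by
  funext x
  rw [RR_apply, Phi_apply, Phi_apply, map_mul, Module.End.mul_apply]

variable [Fintype F] (p : ℕ) [Fact p.Prime] [CharP k p]

include ι p in
theorem exists_form [Nontrivial V] : ∃ φ : Dual k V, φ ≠ 0 ∧ (∀ t v, φ (ρ (uu t) v) = φ v) ∧
    ∃ r, 0 < r ∧ r < Fintype.card F ∧ ∀ s hs v, φ (ρ (hh s hs) v) = ι s⁻¹ ^ r * φ v := by
  classical
  have := ι.charP ι.injective p
  obtain ⟨φ, h1, h2⟩ := exists_fixed (V := Dual k V) (F := F) p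
    (fun t => by rw [nsmul_eq_mul, CharP.cast_eq_zero, zero_mul]) (fun t => (ρ (uu t)).dualMap)
    (by rw [uu_zero, map_one]; rfl) fun s t => by
      rw [add_comm, uu_add, map_mul]; rfl
  replace h2 : ∀ t v, φ (ρ (uu t) v) = φ v := fun t v => DFunLike.congr_fun (h2 t) v
  let ψ : ℕ → Dual k V := fun r => ∑ s : Fˣ, ι s ^ r • φ ∘ₗ ρ (hh (s : F) s.ne_zero)
  have hψ : ∀ r v, ψ r v = ∑ s : Fˣ, ι s ^ r * φ (ρ (hh (s : F) s.ne_zero) v) := fun r v => by
    simp [ψ]
  have hq : 1 < Fintype.card F := Fintype.one_lt_card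
  obtain ⟨r, hr, h3⟩ : ∃ r ∈ range (Fintype.card F - 1), ψ (r + 1) ≠ 0 := by
    by_contra! H
    refine h1 (LinearMap.ext fun v => ?_)
    have e : ∑ r ∈ range (Fintype.card F - 1), ψ (r + 1) v = 0 :=
      sum_eq_zero fun r hr => by rw [H r hr]; rfl
    simp only [hψ] at e
    rw [sum_comm, sum_eq_single 1 (fun s _ hs => ?_) (by simp)] at e
    · have e1 : hh ((1 : Fˣ) : F) (Units.ne_zero 1) = 1 := by
        apply SL2_ext <;> simp [ent]
      have e2 : ((Fintype.card F - 1 : ℕ) : k) = -1 := by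
        rw [Nat.cast_sub hq.le, ← map_natCast ι, FiniteField.cast_card_eq_zero]; simp
      rw [e1] at e
      simpa [e2] using e
    · rw [← sum_mul]
      simp only [pow_succ', ← mul_sum]
      rw [geom_sum_eq, ← map_pow, FiniteField.pow_card_sub_one_eq_one _ s.ne_zero]
      · simp
      · rw [Ne, ← map_one ι, ι.injective.eq_iff]
        exact fun e => hs (Units.ext e)
  refine ⟨ψ (r + 1), h3, fun t v => ?_, r + 1, r.succ_pos, by have := mem_range.1 hr; omega,
    fun s hs v => ?_⟩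
  · simp only [hψ]
    refine sum_congr rfl fun s _ => ?_
    have : hh (s : F) s.ne_zero * uu t = uu (s * t * s) * hh (s : F) s.ne_zero := by
      apply SL2_ext <;> simp [ent]
    rw [← Module.End.mul_apply, ← map_mul, this, map_mul, Module.End.mul_apply, h2]
  · simp only [hψ, mul_sum]
    symm
    rw [← Equiv.sum_comp (Equiv.mulRight (Units.mk0 s hs))]
    refine sum_congr rfl fun a _ => ?_
    have : hh ((a * Units.mk0 s hs : Fˣ) : F) (Units.ne_zero _) =
        hh (a : F) a.ne_zero * hh s hs := by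
      apply SL2_ext <;> simp [ent, mul_comm]
    rw [Equiv.coe_mulRight, this, map_mul, Module.End.mul_apply, ← mul_assoc, ← mul_pow, ← map_mul]
    congr 3
    simp [mul_comm, hs]

include p in
theorem exists_cc [Nontrivial V] {φ : Dual k V} (hinj : Function.Injective (Phi ρ φ))
    (h1 : ∀ t v, φ (ρ (uu t) v) = φ v) {r : ℕ} (h0 : 0 < r) (hr : r < Fintype.card F)
    (h2 : ∀ s hs v, φ (ρ (hh s hs) v) = ι s⁻¹ ^ r * φ v) :
    ∃ r < Fintype.card F, cc ι ^ r ∈ LinearMap.range (Phi ρ φ) := by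
  classical
  have := ι.charP ι.injective p
  obtain ⟨v, hv, h3⟩ := exists_fixed (V := V) (F := F) p
    (fun t => by rw [nsmul_eq_mul, CharP.cast_eq_zero, zero_mul]) (fun t => ρ (uu t))
    (by rw [uu_zero, map_one]) fun s t => by rw [uu_add, map_mul]
  set A := φ (ρ (ww F) v)
  set B := φ v
  have hf : ∀ x : SL(2, F), φ (ρ x v) =
      ι (x 1 0) ^ r * A + if x 1 0 = 0 then ι (x 1 1) ^ r * B else 0 := fun x => by
    have hd := SL2_det x
    split_ifs with hx
    · rw [hx, mul_zero, sub_zero] at hd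
      have h4 : x 0 0 ≠ 0 := left_ne_zero_of_mul_eq_one hd
      have : x = uu (x 0 1 * x 0 0) * hh (x 0 0) h4 := by
        apply SL2_ext <;> simp [ent, hx, h4, eq_inv_of_mul_eq_one_right hd]
      conv_lhs => rw [this]
      rw [map_mul, Module.End.mul_apply, h1, h2, hx, eq_inv_of_mul_eq_one_right hd]
      simp [h0.ne', B]
    · have : x = uu (x 0 0 / x 1 0) * hh (x 1 0)⁻¹ (inv_ne_zero hx) * ww F *
          uu (x 1 1 / x 1 0) := by
        apply SL2_ext <;> simp only [ent, ent2] <;> field_simp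
        linear_combination -hd
      conv_lhs => rw [this]
      simp only [map_mul, Module.End.mul_apply]
      rw [h1, h2, h3, inv_inv, add_zero]
  have key : ∀ {c : k} {n : ℕ} (w : V), c ≠ 0 → (∀ x, φ (ρ x w) = c * ι (x 1 0) ^ n) →
      cc ι ^ n ∈ LinearMap.range (Phi ρ φ) := fun {c n} w hc h => ⟨c⁻¹ • w, funext fun x => by
    rw [map_smul, Pi.smul_apply, Phi_apply, h, smul_eq_mul, inv_mul_cancel_left₀ hc]; rfl⟩
  have hne : ¬ ∀ x, φ (ρ x v) = 0 := fun h => hv (hinj (by rw [map_zero]; exact funext h))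
  have hT : ∀ x : SL(2, F), φ (ρ x (∑ t, ρ (uu t * ww F) v)) = if x 1 0 = 0 then 0 else
      ι (∑ e : F, e ^ r) * A + ι (-x 1 0) ^ r * B := fun x => by
    simp only [map_sum, ← Module.End.mul_apply, ← map_mul, hf, ent, ent2, sum_add_distrib]
    split_ifs with hx
    · simp [hx, h0.ne', ← map_natCast ι]
    · rw [← sum_mul, sum_eq_single (-x 1 1 / x 1 0) (fun t _ ht => if_neg fun e => ht (by
        field_simp; linear_combination e)) (by simp), if_pos (by field_simp; ring),
        ← Equiv.sum_comp ((Equiv.mulLeft₀ _ hx).trans (Equiv.addRight (x 1 1))) fun e => ι (e ^ r)]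
      simp
  by_cases h4 : r < Fintype.card F - 1
  · refine ⟨r, hr, ?_⟩
    by_cases hB : B = 0
    · refine key v (c := A) (fun hA => hne fun x => ?_) fun x => ?_ <;> simp [hf, hB, mul_comm, *]
    · refine key (∑ t, ρ (uu t * ww F) v) (c := (-1) ^ r * B) (by simpa using hB) fun x => ?_
      rw [hT, FiniteField.sum_pow_lt_card_sub_one _ _ h4]
      split_ifs with hx
      · simp [hx, h0.ne']
      · rw [map_neg, neg_pow]; simp; ring
  · obtain rfl : r = Fintype.card F - 1 := by omega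
    have h5 : ∀ {a : F}, a ≠ 0 → ι a ^ (Fintype.card F - 1) = 1 := fun ha => by
      rw [← map_pow, FiniteField.pow_card_sub_one_eq_one _ ha, map_one]
    by_cases hB : B = A
    · have h6 : ∀ x : SL(2, F), φ (ρ x v) = A := fun x => by
        rw [hf]
        split_ifs with hx
        · have hd := SL2_det x
          rw [hx, mul_zero, sub_zero] at hd
          simp [hx, h0.ne', h5 (right_ne_zero_of_mul_eq_one hd), hB]
        · simp [h5 hx]
      exact ⟨0, by omega, key v (c := A) (fun hA => hne fun x => by rw [h6, hA]) fun x => by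
        simp [h6]⟩
    · refine ⟨_, hr, key (∑ t, ρ (uu t * ww F) v) (c := B - A) (sub_ne_zero.2 hB) fun x => ?_⟩
      have h7 : ∑ e : F, e ^ (Fintype.card F - 1) = -1 := by
        rw [← sum_erase (a := 0) _ (by simp [h0.ne']), sum_congr rfl fun e he =>
          FiniteField.pow_card_sub_one_eq_one e (ne_of_mem_erase he)]
        simp [Nat.cast_sub (Fintype.one_lt_card (α := F)).le]
      rw [hT, h7]
      split_ifs with hx
      · simp [hx, h0.ne']
      · rw [h5 hx, h5 (neg_ne_zero.2 hx)]; simp; ring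

end Cfsg.Agent.H50.SL2S
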