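import Mathlib
import Cfsg.Agent.H50.SL2B

/-! The characteristic polynomial of a non-split semisimple element of `SL₂(q)` on a module in the
defining characteristic. -/

set_option autoImplicit false

namespace Cfsg.Agent.H50.SL2S

open Polynomial Finset Module H82
open scoped MatrixGroups

variable {F k : Type*} [Field F] [Field k] (ι : F →+* k) [Fintype F] (p : ℕ) [Fact p.Prime]
  [CharP k p]

/-- The exponents of the monomials in the simple module of highest weight `r`. -/
def JJ (p r : ℕ) : Finset ℕ := (range (r + 1)).filter fun j => ¬ p ∣ r.choose j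

/-- The characteristic polynomial on the simple module of highest weight `r`. -/
noncomputable def PP (p : ℕ) (θ η : k) (r : ℕ) : k[X] := ∏ j ∈ JJ p r, (X - C (θ ^ (r - j) * η ^ j))

variable {g : SL(2, F)} {θ η : k} (h1 : θ * η = 1) (h2 : θ + η = ι (g 0 0 + g 1 1))
  (h3 : ∀ a, ι a ≠ θ)
include h1 h2 h3

theorem charpoly_simple {V : Type*} [AddCommGroup V] [Module k V] [FiniteDimensional k V]
    [Nontrivial V] (ρ : SL(2, F) →* Module.End k V)
    (hs : ∀ W : Submodule k V, (∀ g, W ≤ W.comap (ρ g)) → W = ⊥ ∨ W = ⊤) :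
    ∃ r < Fintype.card F, (ρ g).charpoly = PP p θ η r := by
  classical
  obtain ⟨φ, h4, h5, r, h6, h7, h8⟩ := exists_form ι ρ p
  have hinj : Function.Injective (Phi ρ φ) := by
    rw [← LinearMap.ker_eq_bot]
    refine (hs _ fun g v hv => ?_).resolve_right fun e => h4 (LinearMap.ext fun v => ?_)
    · rw [Submodule.mem_comap, LinearMap.mem_ker, Phi_rho, LinearMap.mem_ker.1 hv, map_zero]
    · have := congrFun (LinearMap.mem_ker.1 (e.ge (Submodule.mem_top (x := v)))) 1
      simpa [Phi_apply] using this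
  obtain ⟨r, hr, v0, hv0⟩ := exists_cc ι ρ p hinj h5 h6 h7 h8
  refine ⟨r, hr, ?_⟩
  have hle : Sp k (cc ι) (dd ι) r ≤ LinearMap.range (Phi ρ φ) :=
    Sp_le p fun j hj hp => mono_mem ι.injective hr p (fun t => LinearMap.mem_range.2 ⟨ρ (ll t) v0, by
      have := RR_lin ι (ll t) 1 0
      simp only [ent, one_smul, zero_smul, map_one, map_zero, add_zero, one_mul, zero_mul] at this
      rw [Phi_rho, hv0, map_pow, this]⟩) hj hp
  have hge : ∀ v, Phi ρ φ v ∈ Sp k (cc ι) (dd ι) r := fun v => by
    refine ((hs ((Sp k (cc ι) (dd ι) r).comap (Phi ρ φ)) fun g v hv => ?_).resolve_left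
      fun e => ?_).ge (Submodule.mem_top (x := v))
    · rw [Submodule.mem_comap, Submodule.mem_comap, Phi_rho]
      exact RR_Sp ι g r hv
    · have : v0 = 0 := (Submodule.mem_bot k).1 (e ▸ by
        simpa [hv0] using mem_Sp (cc ι) (dd ι) r (1 : k) 0)
      have := congrFun (this ▸ hv0) (ww F)
      simp [cc, ent2] at this
  have hd := congrArg ι (SL2_det g)
  simp only [map_sub, map_mul, map_one, map_add] at hd h2
  set a := ι (g 0 0)
  set b := ι (g 0 1)
  have hθ : θ ≠ 0 := left_ne_zero_of_mul_eq_one h1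
  have h3' : ∀ x, ι x ≠ η := fun x e => h3 x⁻¹ (by
    rw [map_inv₀, e, eq_inv_of_mul_eq_one_left h1])
  have hb : b ≠ 0 := fun e => by
    have : (θ - a) * (θ - ι (g 1 1)) = 0 := by
      rw [e] at hd
      linear_combination θ * h2 - h1 + hd
    rcases mul_eq_zero.1 this with h | h
    exacts [h3 _ (sub_eq_zero.1 h).symm, h3 _ (sub_eq_zero.1 h).symm]
  have hne : η - θ ≠ 0 := fun e => by
    have : (θ - 1) * (θ + 1) = 0 := by linear_combination h1 - θ * e
    rcases mul_eq_zero.1 this with h | h
    exacts [h3 1 (by rw [map_one]; linear_combination -h),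
      h3 (-1) (by rw [map_neg, map_one]; linear_combination -h)]
  set X := b • cc ι + (θ - a) • dd ι with hX
  set Y := b • cc ι + (η - a) • dd ι with hY
  have eX : RR k g X = θ • X := by
    rw [hX, RR_lin, smul_add, smul_smul, smul_smul]
    congr 2
    · ring
    · linear_combination -θ * h2 + h1 - hd
  have eY : RR k g Y = η • Y := by
    rw [hY, RR_lin, smul_add, smul_smul, smul_smul]
    congr 2
    · ring
    · linear_combination -η * h2 + h1 - hd
  have e1 : Sp k X Y r ≤ Sp k (cc ι) (dd ι) r := Sp_le_Sp r hX hY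
  have e2 : Sp k (cc ι) (dd ι) r ≤ Sp k X Y r :=
    Sp_le_Sp r (x := (η - a) / (b * (η - θ))) (y := -(θ - a) / (b * (η - θ)))
      (z := -1 / (η - θ)) (w := 1 / (η - θ))
      (by rw [hX, hY]; match_scalars <;> field_simp <;> ring)
      (by rw [hX, hY]; match_scalars <;> field_simp <;> ring)
  have hm : ∀ j : JJ p r, ∃ v, Phi ρ φ v = X ^ (r - j) * Y ^ (j : ℕ) := fun j => by
    have := mem_filter.1 j.2
    exact hle (e1 (mono_mem ι.injective hr p (fun t => by simpa using mem_Sp X Y r 1 (ι t))
      (by simpa [Nat.lt_succ_iff] using this.1) this.2))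
  choose v hv using hm
  have hX0 : ∀ t, X (ww F * uu t) ≠ 0 := fun t => by
    simp only [hX, cc, dd, Pi.add_apply, Pi.smul_apply, ent, ent2, map_one, smul_eq_mul, mul_one]
    intro e
    by_cases ht : t = 0
    · exact hb (by simpa [ht] using e)
    · have : ι t ≠ 0 := by simpa using ht
      refine h3 (g 0 0 - g 0 1 / t) ?_
      rw [map_sub, map_div₀]
      field_simp
      linear_combination -e
  have hli : LinearIndependent k v := by
    refine LinearIndependent.of_comp (Phi ρ φ) (Fintype.linearIndependent_iff.2 fun m hm j => ?_)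
    let z : F → k := fun t => Y (ww F * uu t) / X (ww F * uu t)
    have hz : Function.Injective z := fun s t e => by
      rw [div_eq_div_iff (hX0 s) (hX0 t)] at e
      simp only [hX, hY, cc, dd, Pi.add_apply, Pi.smul_apply, ent, ent2, map_one, smul_eq_mul,
        mul_one] at e
      refine ι.injective (mul_left_cancel₀ (mul_ne_zero hb hne) ?_)
      linear_combination e
    have := vand hz (⊥ : Submodule k k) (fun j => if h : j ∈ JJ p r then m ⟨j, h⟩ else 0) hr
      (fun t => ?_) j (by simpa [Nat.lt_succ_iff] using (mem_filter.1 j.2).1)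
    · rwa [Submodule.mem_bot, dif_pos j.2] at this
    · have e := congrFun hm (ww F * uu t)
      simp only [Function.comp_apply, hv, Finset.sum_apply, Pi.smul_apply, Pi.mul_apply,
        Pi.pow_apply, smul_eq_mul, Pi.zero_apply] at e
      rw [Submodule.mem_bot, ← sum_subset (show JJ p r ⊆ _ from filter_subset _ _)
        (fun j _ hj => by rw [dif_neg hj, smul_zero]), ← sum_coe_sort]
      refine mul_left_cancel₀ (pow_ne_zero r (hX0 t)) ?_
      rw [mul_zero, mul_sum]
      refine (sum_congr rfl fun j _ => ?_).trans e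
      have hj : (j : ℕ) ≤ r := by simpa [Nat.lt_succ_iff] using (mem_filter.1 j.2).1
      have := hX0 t
      rw [dif_pos j.2, smul_eq_mul, div_pow, ← pow_sub_mul_pow _ hj]
      field_simp
  have hsp : ⊤ ≤ Submodule.span k (Set.range v) := fun x _ => by
    have : Phi ρ φ x ∈ (Submodule.span k (Set.range v)).map (Phi ρ φ) :=
      Sp_le p (fun j hj hp => Submodule.mem_map.2
        ⟨v ⟨j, mem_filter.2 ⟨by simpa [Nat.lt_succ_iff] using hj, hp⟩⟩,
        Submodule.subset_span (Set.mem_range_self _), hv _⟩) (e2 (hge x))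
    obtain ⟨y, hy, e⟩ := this
    exact hinj e ▸ hy
  rw [charpoly_diag (Basis.mk hli hsp) (ρ g) (fun j => θ ^ (r - j) * η ^ (j : ℕ)) fun j => hinj ?_,
    PP, ← prod_coe_sort (JJ p r)]
  rw [Basis.coe_mk, Phi_rho, map_smul, hv, map_mul, map_pow, map_pow, eX, eY, _root_.smul_pow,
    _root_.smul_pow, smul_mul_smul_comm]

universe u

theorem charpoly_eq [Infinite k] (n : ℕ) : ∀ {V : Type u} [AddCommGroup V] [Module k V]
    [FiniteDimensional k V] (ρ : SL(2, F) →* Module.End k V), finrank k V = n →
    ∃ R : List ℕ, (∀ r ∈ R, r < Fintype.card F) ∧ (ρ g).charpoly = (R.map (PP p θ η)).prod := by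
  induction n using Nat.strong_induction_on with
  | _ n ih =>
  intro V _ _ _ ρ hn
  rcases subsingleton_or_nontrivial V with hV | hV
  · refine ⟨[], by simp, ?_⟩
    rw [List.map_nil, List.prod_nil, ← (ρ g).charpoly_monic.natDegree_eq_zero,
      LinearMap.charpoly_natDegree, finrank_zero_of_subsingleton]
  by_cases hs : ∀ W : Submodule k V, (∀ g, W ≤ W.comap (ρ g)) → W = ⊥ ∨ W = ⊤
  · obtain ⟨r, hr, e⟩ := charpoly_simple ι p h1 h2 h3 ρ hs
    exact ⟨[r], by simpa using hr, by simpa using e⟩
  push Not at hs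
  obtain ⟨W, hW, h4, h5⟩ := hs
  let ρ1 : SL(2, F) →* Module.End k W :=
    { toFun := fun g => (ρ g).restrict (hW g)
      map_one' := by ext x; simp
      map_mul' := fun a b => by ext x; simp }
  let ρ2 : SL(2, F) →* Module.End k (V ⧸ W) :=
    { toFun := fun g => W.mapQ W (ρ g) (hW g)
      map_one' := by ext x; simp
      map_mul' := fun a b => by ext x; simp }
  have e := W.finrank_quotient_add_finrank
  have e1 := Submodule.finrank_lt h5
  have e2 : 0 < finrank k W := by
    have := Submodule.nontrivial_iff_ne_bot.2 h4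
    exact finrank_pos
  obtain ⟨R1, a1, b1⟩ := ih _ (hn ▸ e1) ρ1 rfl
  obtain ⟨R2, a2, b2⟩ := ih _ (by omega) ρ2 rfl
  refine ⟨R1 ++ R2, by simpa [or_imp, forall_and] using ⟨a1, a2⟩, ?_⟩
  rw [charpoly_split W _ (hW g), List.map_append, List.prod_append, ← b1, ← b2]
  rfl

end Cfsg.Agent.H50.SL2S
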