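import Mathlib
import Cfsg.Agent.H42.FvDefs
import Cfsg.Agent.H50.SL2C
import Cfsg.Agent.H75.BT

/-! Definitions and statements of the pieces: `E₈(3)` has no maximal subgroup with generalized
Fitting subgroup `L₂(81)`, and no subgroup `L₂(3 ^ 7)`. -/

set_option autoImplicit false

namespace Cfsg.Agent.H50.L81

open Equiv Cfsg.Lie H37 H40 H34 H29 Module H82 H50.SL2S Finset H50.E83
open H42.Fv (al cp Sum2 Clo Pos Supp Ph sg frV)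
open scoped Matrix MatrixGroups

noncomputable abbrev ng (r : Rt) : Rt := C8.R.neg r
noncomputable abbrev ee (r : Rt) : V := eV chevE8 K r
noncomputable abbrev hr (r : Rt) : V := hR chevE8 K r
noncomputable abbrev xx (r : Rt) (t : K) : GK := C8.xg K r t

/-! ### Modules of `SL₂(81)` -/

abbrev F : Type := GaloisField 3 4
noncomputable instance instFintypeF : Fintype F := Fintype.ofFinite _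
noncomputable instance instDecEqF : DecidableEq F := Classical.decEq _
abbrev SL : Type := SL(2, F)

theorem card_F : Fintype.card F = 81 := by
  rw [← Nat.card_eq_fintype_card, GaloisField.card 3 4 (by decide)]; rfl

structure Par where
  κ : F →+* K
  θ : Kˣ
  τ : F
  l : Fˣ
  hθ : IsPrimitiveRoot θ 41
  hτ : κ τ = (θ : K) + ((θ⁻¹ : Kˣ) : K)
  hl : IsPrimitiveRoot l 80

noncomputable def x0 (p : Par) : SL := ⟨!![0, -1; 1, p.τ], by simp [Matrix.det_fin_two_of]⟩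
noncomputable def t0 (p : Par) : SL := hh (p.l : F) p.l.ne_zero
noncomputable def lam (p : Par) : Kˣ := Units.map p.κ.toMonoidHom p.l
noncomputable def zx (p : Par) : Kˣ := p.θ ^ 2
noncomputable def zy (p : Par) : Kˣ := lam p ^ 2

/-- **PAR** -/
def ParStmt : Prop := Nonempty Par ∧ (Subgroup.closure (insert (ww F) (UU F : Set SL)) = ⊤) ∧
  (Subgroup.closure (Set.range (uu (F := F)) ∪ Set.range (ll (F := F))) = ⊤) ∧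
  ∀ p : Par, orderOf (x0 p) = 41 ∧ t0 p ^ 40 = -1 ∧ (t0 p ≠ 1 ∧ t0 p ≠ -1) ∧
  (∀ a, p.κ a ≠ p.θ) ∧ IsPrimitiveRoot (lam p) 80 ∧ IsPrimitiveRoot (zx p) 41 ∧
  IsPrimitiveRoot (zy p) 40 ∧ (∀ s hs, ∃ k : ℕ, hh s hs = t0 p ^ k) ∧
  (∀ s, t0 p * uu s * (t0 p)⁻¹ = uu ((p.l : F) ^ 2 * s)) ∧ ww F * t0 p * (ww F)⁻¹ = (t0 p)⁻¹ ∧
  ww F * ww F = -1

def dS (r : ℕ) : ℕ := (JJ 3 r).card
def EE (n r e : ℕ) : ℕ := ((JJ 3 r).filter fun j => (r / 2 + (n - 1) * j) % n = e).card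
def rot (r : ℕ) : ℕ := 3 * r % 81 + r / 27
def eps (r : ℕ) : ℕ := if r = 0 then 0 else EE 40 r 0 + if r ∈ [4, 12, 36, 28] then 1 else 0
def pw (m : ℕ → ℕ) : ℕ := m 4 + m 12 + m 36 + m 28
def nf (r : ℕ) : ℕ := if r ∈ [0, 8, 20, 24, 56, 60, 72] then 1 else if r = 80 then 3 else 0
def SE (m : ℕ → ℕ) (n e : ℕ) : ℕ := ∑ a ∈ range 41, m (2 * a) * EE n (2 * a) e

/-- The right regular representation. -/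
noncomputable def reg : SL →* Module.End K (SL → K) where
  toFun g := (RR K g).toLinearMap
  map_one' := LinearMap.ext fun f => funext fun x => congrArg f (mul_one x)
  map_mul' g h := LinearMap.ext fun f => funext fun x => congrArg f (mul_assoc x g h).symm

theorem reg_apply (g : SL) (f : SL → K) : reg g f = RR K g f := rfl

noncomputable def SP (p : Par) (r : ℕ) : Submodule K (SL → K) := Sp K (cc p.κ) (dd p.κ) r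
noncomputable def mono (p : Par) (r j : ℕ) : SL → K := cc p.κ ^ (r - j) * dd p.κ ^ j

section
variable {W : Type} [AddCommGroup W] [Module K W] (ρ : SL →* Module.End K W)

def Inv (U : Submodule K W) : Prop := ∀ g, ∀ v ∈ U, ρ g v ∈ U

noncomputable def dm (g : SL) (η : K) (U : Submodule K W) : ℕ :=
  finrank K (U ⊓ Module.End.eigenspace (ρ g) η : Submodule K W)

/-- The weight spaces. -/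
noncomputable def Wt (p : Par) (e : ℕ) : Submodule K W :=
  Module.End.eigenspace (ρ (t0 p)) ((zy p : K) ^ e)

def Mult (p : Par) (U : Submodule K W) (m : ℕ → ℕ) : Prop :=
  (∀ e < 41, dm ρ (x0 p) ((zx p : K) ^ e) U = SE m 41 e) ∧
    ∀ e < 40, dm ρ (t0 p) ((zy p : K) ^ e) U = SE m 40 e

def Step (p : Par) (U U' : Submodule K W) (r : ℕ) : Prop :=
  r < 81 ∧ Even r ∧ U ≤ U' ∧ Inv ρ U' ∧ ∃ Φ : W →ₗ[K] (SL → K),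
    (∀ g, ∀ v ∈ U', Φ (ρ g v) = reg g (Φ v)) ∧ U'.map Φ = SP p r ∧ ∀ v ∈ U', Φ v = 0 ↔ v ∈ U

inductive Ser (p : Par) : Submodule K W → List ℕ → Prop
  | nil : Ser p ⊥ []
  | cons {U U' : Submodule K W} {L : List ℕ} {r : ℕ} : Ser p U L → Step ρ p U U' r → Ser p U' (r :: L)

/-- The fixed vectors of a set of elements. -/
def Fx (S : Set SL) : Submodule K W where
  carrier := {v | ∀ g ∈ S, ρ g v = v}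
  add_mem' ha hb g hg := by rw [map_add, ha g hg, hb g hg]
  zero_mem' g _ := map_zero _
  smul_mem' c v hv g hg := by rw [map_smul, hv g hg]

/-- The raising operators: `ρ (uu t) = ∑ c, κ t ^ c • Aop c`. -/
noncomputable def Aop (p : Par) (c : ℕ) : Module.End K W :=
  if c = 0 then 1 else -∑ t : F, p.κ t ^ (80 - c) • ρ (uu t)

/-- The lowering operators. -/
noncomputable def Bop (p : Par) (c : ℕ) : Module.End K W := ρ (ww F) * Aop ρ p c * ρ (ww F)⁻¹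

/-- The graded cocycles with values in `U`. -/
def Zg (p : Par) (U : Submodule K W) : Submodule K (Fin 4 → W) where
  carrier := {m | (∀ i : Fin 4, m i ∈ U ⊓ Wt ρ p (3 ^ (i : ℕ))) ∧
    (∀ i j : Fin 4, Aop ρ p (3 ^ (i : ℕ)) (m j) = Aop ρ p (3 ^ (j : ℕ)) (m i)) ∧
    ∀ i : Fin 4, Aop ρ p (3 ^ (i : ℕ)) (Aop ρ p (3 ^ (i : ℕ)) (m i)) = 0}
  add_mem' := fun {a b} ha hb => ⟨fun i => Submodule.add_mem _ (ha.1 i) (hb.1 i), fun i j => by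
    simp only [Pi.add_apply, map_add, ha.2.1 i j, hb.2.1 i j], fun i => by
    simp only [Pi.add_apply, map_add, ha.2.2 i, hb.2.2 i, add_zero]⟩
  zero_mem' := ⟨fun _ => Submodule.zero_mem _, fun i j => by simp, fun i => by simp⟩
  smul_mem' c a ha := ⟨fun i => Submodule.smul_mem _ c (ha.1 i), fun i j => by
    simp only [Pi.smul_apply, map_smul, ha.2.1 i j], fun i => by
    simp only [Pi.smul_apply, map_smul, ha.2.2 i, smul_zero]⟩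

/-- An invariant non-degenerate symmetric form. -/
def Form (B : LinearMap.BilinForm K W) : Prop := (∀ a b, B a b = B b a) ∧
  (∀ a, (∀ b, B a b = 0) → a = 0) ∧ ∀ g a b, B (ρ g a) (ρ g b) = B a b

/-- A semilinear injective map commuting with the action. -/
def Semi (fr : W → W) : Prop := (∀ a b, fr (a + b) = fr a + fr b) ∧
  (∀ (c : K) a, fr (c • a) = c ^ 3 • fr a) ∧ Function.Injective fr ∧ ∀ g a, fr (ρ g a) = ρ g (fr a)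

/-- The data produced by the pressure argument. -/
def Prs (p : Par) (m : ℕ → ℕ) (M M' : Submodule K W) (L L' : List ℕ) : Prop :=
  Ser ρ p M L ∧ Ser ρ p M' L' ∧ (∀ r < 81, Even r → m r = L.count r + L'.count r) ∧
  L.count 0 = 0 ∧ 1 ≤ L.count 4 ∧ L.count 12 = L.count 4 ∧ L.count 36 = L.count 4 ∧
  L.count 28 = L.count 4 ∧ ∀ N, Inv ρ N → N ⊓ Wt ρ p 0 = ⊥ → N ≤ M
end

/-- A statement for all finite dimensional modules on which `-1` acts trivially. -/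
def All (X : ∀ (W : Type) [AddCommGroup W] [Module K W], (SL →* Module.End K W) → Prop) : Prop :=
  ∀ (W : Type) [AddCommGroup W] [Module K W] [FiniteDimensional K W] (ρ : SL →* Module.End K W),
    ρ (-1) = 1 → X W ρ

/-- **MONO** -/
def MonoStmt : Prop := ∀ p : Par,
  (∃ cf : ℕ → Dual K (SL → K), ∀ r < 81, ∀ i ≤ r, ∀ j, cf j (mono p r i) = if j = i then 1 else 0) ∧
  ∀ r < 81, (∀ f, f ∈ SP p r ↔ ∃ c : ℕ → K, f = ∑ j ∈ JJ 3 r, c j • mono p r j) ∧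
    finrank K (SP p r) = dS r ∧ Inv reg (SP p r)

/-- **MONA** -/
def MonaStmt : Prop := ∀ p : Par, ∀ r < 81, ∀ j ≤ r,
    (∀ t, reg (uu t) (mono p r j) =
      ∑ i ∈ range (j + 1), ((j.choose i : K) * p.κ t ^ (j - i)) • mono p r i) ∧
    (∀ s hs, reg (hh s hs) (mono p r j) = p.κ s ^ (r + 78 * j) • mono p r j) ∧
    reg (ww F) (mono p r j) = (-1 : K) ^ j • mono p r (r - j) ∧
    (∀ c ≤ 80, Aop reg p c (mono p r j) = (j.choose c : K) • mono p r (j - c)) ∧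
    (Even r → mono p r j ∈ Wt reg p ((r / 2 + 39 * j) % 40))

/-- **EIGX** -/
def EigxStmt : Prop := ∀ p : Par, ∀ r < 81, Even r → ∀ e < 41,
  dm reg (x0 p) ((zx p : K) ^ e) (SP p r) = EE 41 r e

/-- **EIGT** -/
def EigtStmt : Prop := ∀ p : Par, ∀ r < 81, Even r → ∀ e < 40,
  dm reg (t0 p) ((zy p : K) ^ e) (SP p r) = EE 40 r e

/-- **SER** -/
def SerStmt : Prop := ∀ p : Par, All fun _ _ _ ρ =>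
  (∀ U U', Inv ρ U → Inv ρ U' → U < U' → ∃ U'' r, Step ρ p U U'' r ∧ U'' ≤ U') ∧
  (∀ U L, Ser ρ p U L → Inv ρ U ∧ ∀ r ∈ L, r < 81 ∧ Even r) ∧
  ∀ U L U', Ser ρ p U L → U ≤ U' → Inv ρ U' → ∃ L', Ser ρ p U' (L' ++ L)

/-- **MULT** -/
def MultStmt : Prop := ∀ p : Par, All fun _ _ _ ρ => ∀ U L, Ser ρ p U L →
  Mult ρ p U fun r => L.count r

/-- **UNI** -/
def UniStmt : Prop := ∀ m m' : ℕ → ℕ, (∀ e < 41, SE m 41 e = SE m' 41 e) →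
  (∀ e < 40, SE m 40 e = SE m' 40 e) → ∀ r < 81, Even r → m r = m' r

/-- **FR** -/
def FrStmt : Prop := ∀ p : Par, All fun _ _ _ ρ => ∀ fr, Semi ρ fr → ∀ U m, (∀ v ∈ U, fr v ∈ U) →
  Mult ρ p U m → ∀ r < 81, Even r → m (rot r) = m r

/-- **PERP** -/
def PerpStmt : Prop := ∀ p : Par, All fun _ _ _ ρ => ∀ B, Form ρ B → ∀ M m m1 m2, Inv ρ M →
  Mult ρ p ⊤ m → Mult ρ p M m1 → Mult ρ p (B.orthogonal M) m2 →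
    ∀ r < 81, Even r → m r = m1 r + m2 r

/-- **AOP** -/
def AopStmt : Prop := ∀ p : Par, All fun _ _ _ ρ =>
  (∀ t, ρ (uu t) = ∑ c ∈ range 81, p.κ t ^ c • Aop ρ p c) ∧
  (∀ a ≤ 80, ∀ b ≤ 80, Aop ρ p a * Aop ρ p b =
    if a + b ≤ 80 then (((a + b).choose a : ℕ) : K) • Aop ρ p (a + b) else 0) ∧
  (∀ c ≤ 80, ∀ e, ∀ v ∈ Wt ρ p e, Aop ρ p c v ∈ Wt ρ p (e + c)) ∧
  (∀ e, Wt ρ p (e + 40) = Wt ρ p e) ∧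
  (∀ e ≤ 40, ∀ v ∈ Wt ρ p e, ρ (ww F) v ∈ Wt ρ p (40 - e)) ∧
  (∀ c ≤ 80, ∀ e, ∀ v ∈ Wt ρ p (e + c), Bop ρ p c v ∈ Wt ρ p e) ∧
  (∀ U, Inv ρ U → ∀ c, ∀ v ∈ U, Aop ρ p c v ∈ U ∧ Bop ρ p c v ∈ U) ∧
  (∀ v, (∀ i < 4, Aop ρ p (3 ^ i) v = 0) ↔ v ∈ Fx ρ (UU F)) ∧
  (∀ v, v ∈ Fx ρ (BB F) ↔ v ∈ Fx ρ (UU F) ∧ v ∈ Wt ρ p 0) ∧ ρ (ww F) * ρ (ww F) = 1

/-- **COC** -/
def CocStmt : Prop := ∀ p : Par, ∀ r < 81, Even r → finrank K (Zg reg p (SP p r)) ≤ eps r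

/-- **Z1** -/
def Z1Stmt : Prop := ∀ p : Par, All fun _ _ _ ρ => ∀ U L, Ser ρ p U L →
  finrank K (Zg ρ p U) ≤ (L.map eps).sum

/-- **ZZ** -/
def ZzStmt : Prop := ∀ p : Par, All fun _ _ _ ρ => Fx ρ (BB F) = ⊥ → ∀ U L, Ser ρ p U L →
  L.count 0 ≤ pw fun r => L.count r

/-- **BFIX** -/
def BfixStmt : Prop := ∀ p : Par, All fun _ _ _ ρ => Fx ρ Set.univ = ⊥ →
  (∀ L, Ser ρ p ⊤ L → 80 ∉ L) → Fx ρ (BB F) = ⊥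

/-- **HW** -/
def HwStmt : Prop := ∀ p : Par, All fun W _ _ ρ => ∀ U L, Ser ρ p U L → ∀ e, 0 < e → e < 40 →
  finrank K (U ⊓ Fx ρ (UU F) ⊓ Wt ρ p e : Submodule K W) ≤ L.count (2 * e)

/-- **NFX** -/
def NfxStmt : Prop := ∀ p : Par, All fun W _ _ ρ => ∀ U L, Ser ρ p U L →
  (0 ∈ L → U ⊓ Fx ρ {t0 p, ww F} ≠ ⊥) ∧
    finrank K (U ⊓ Fx ρ {t0 p, ww F} : Submodule K W) ≤ (L.map nf).sum

/-- **PR1** -/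
def Pr1Stmt : Prop := ∀ p : Par, All fun _ _ _ ρ => ∀ fr, Semi ρ fr → ∃ M, Inv ρ M ∧
  (∀ v ∈ M, fr v ∈ M) ∧ M ⊓ Fx ρ {t0 p, ww F} = ⊥ ∧
    ∀ M', Inv ρ M' → M' ⊓ Fx ρ {t0 p, ww F} = ⊥ → M' ≤ M

/-- **PRS** -/
def PrsStmt : Prop := ∀ p : Par, All fun _ _ _ ρ => ∀ B fr, Form ρ B → Semi ρ fr →
  Fx ρ (BB F) = ⊥ → ∀ m, Mult ρ p ⊤ m → m 0 ≠ 0 → (∀ r ∈ [8, 20, 24, 56, 60, 72, 80], m r = 0) →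
    ∃ M M' L L', Prs ρ p m M M' L L'

/-- **G1** -/
def G1Stmt : Prop := ∀ p : Par, All fun W _ _ ρ => Fx ρ (BB F) = ⊥ → ∀ U, Inv ρ U →
  ∑ i ∈ range 4, finrank K (U ⊓ Wt ρ p (3 ^ i) : Submodule K W) ≤
    finrank K (U ⊓ Wt ρ p 0 : Submodule K W) →
  ∀ i < 4, ∀ v ∈ U ⊓ Wt ρ p (3 ^ i), Aop ρ p (3 ^ i) (Aop ρ p (3 ^ i) v) = 0 ∧
    ∀ j < 4, j ≠ i → Aop ρ p (3 ^ j) v = 0

/-- **GEN** -/
def GenStmt : Prop := ∀ p : Par, All fun _ _ _ ρ => ∀ e, 0 < e → e < 40 →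
  ∀ v ∈ Fx ρ (UU F) ⊓ Wt ρ p e, Bop ρ p e v = 0 → Bop ρ p (e + 40) v = 0 →
    ∃ N, Inv ρ N ∧ v ∈ N ∧ N ⊓ Wt ρ p 0 = ⊥

def mm (i r : ℕ) : ℕ :=
  (([[0, 1, 1, 1, 0, 0, 1, 1, 0, 1, 0, 0, 0, 1, 1, 0, 0, 0, 1, 0, 4, 1, 0, 1, 0, 0, 0, 1, 0, 1, 0, 1, 0, 0, 0, 0, 0, 1, 0, 1, 0],
    [0, 2, 0, 2, 0, 0, 0, 2, 1, 2, 0, 1, 0, 0, 0, 0, 1, 1, 0, 1, 2, 2, 0, 2, 1, 0, 0, 2, 0, 2, 0, 0, 1, 1, 0, 0, 0, 0, 0, 0, 0],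
    [0, 2, 2, 2, 0, 2, 2, 1, 1, 2, 0, 1, 0, 0, 2, 2, 1, 1, 2, 1, 2, 1, 0, 1, 1, 0, 0, 2, 0, 1, 0, 0, 1, 1, 0, 0, 0, 0, 0, 0, 0],
    [2, 3, 0, 3, 0, 4, 0, 0, 2, 3, 1, 0, 0, 0, 0, 4, 2, 0, 0, 0, 4, 0, 0, 0, 2, 0, 0, 3, 0, 0, 1, 0, 2, 0, 0, 0, 0, 0, 0, 0, 0],
    [4, 1, 1, 1, 0, 0, 1, 0, 0, 1, 0, 0, 0, 2, 1, 0, 0, 0, 1, 0, 0, 0, 0, 0, 0, 0, 0, 1, 0, 0, 0, 2, 0, 0, 0, 0, 0, 2, 0, 2, 0],
    [6, 5, 0, 5, 1, 0, 0, 0, 0, 5, 1, 0, 1, 0, 0, 0, 0, 0, 0, 0, 8, 0, 0, 0, 0, 0, 0, 5, 1, 0, 1, 0, 0, 0, 0, 0, 1, 0, 0, 0, 0],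
    [28, 1, 8, 1, 0, 8, 8, 0, 0, 1, 0, 0, 0, 0, 8, 8, 0, 0, 8, 0, 1, 0, 0, 0, 0, 0, 0, 1, 0, 0, 0, 0, 0, 0, 0, 0, 0, 0, 0, 0, 0],
    [248, 0, 0, 0, 0, 0, 0, 0, 0, 0, 0, 0, 0, 0, 0, 0, 0, 0, 0, 0, 0, 0, 0, 0, 0, 0, 0, 0, 0, 0, 0, 0, 0, 0, 0, 0, 0, 0, 0, 0, 0],
    [0, 2, 1, 2, 0, 0, 1, 2, 1, 2, 0, 0, 0, 0, 1, 0, 1, 0, 1, 0, 4, 2, 0, 2, 1, 0, 0, 2, 0, 2, 0, 0, 1, 0, 0, 0, 0, 0, 0, 0, 0],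
    [0, 2, 1, 2, 0, 2, 1, 0, 0, 2, 0, 1, 0, 0, 1, 2, 0, 1, 1, 1, 0, 0, 0, 0, 0, 2, 0, 2, 0, 0, 0, 0, 0, 1, 0, 2, 0, 0, 0, 0, 0]] :
      List (List ℕ)).getD i []).getD (r / 2) 0

/-- The composition factors are those of the case `i`. -/
def Chr {W : Type} [AddCommGroup W] [Module K W] (ρ : SL →* Module.End K W) (p : Par) (i : ℕ) : Prop :=
  ∀ L, Ser ρ p ⊤ L → ∀ r < 81, Even r → L.count r = mm i r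

/-- **G2A** -/
def G2aStmt : Prop := ∀ p : Par, All fun W _ _ ρ => Fx ρ (BB F) = ⊥ → ∀ M M' L L',
  Prs ρ p (mm 6) M M' L L' →
    finrank K (M ⊓ Wt ρ p 2 : Submodule K W) = 1 ∧ finrank K (M ⊓ Wt ρ p 14 : Submodule K W) = 1 ∧
    finrank K (M' ⊓ Wt ρ p 2 : Submodule K W) = 7 ∧
    finrank K (M' ⊓ Wt ρ p 33 : Submodule K W) ≤ 1 ∧ M' ⊓ Wt ρ p 2 ≤ Fx ρ (UU F) ∧
    M' ⊓ Wt ρ p 14 ≤ Fx ρ (UU F) ∧ ∀ v ∈ M' ⊓ Wt ρ p 39, Bop ρ p 2 v = 0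

/-- **G2** -/
def G2Stmt : Prop := ∀ p : Par, All fun _ _ _ ρ => Fx ρ (BB F) = ⊥ → ∀ M M' L L',
  ¬ Prs ρ p (mm 6) M M' L L'

/-- **FIXNE** -/
def FixneStmt : Prop := ∀ p : Par, All fun _ _ _ ρ => ∀ B fr, Form ρ B → Semi ρ fr →
  ∀ i, 3 ≤ i → i < 7 → Chr ρ p i → Fx ρ Set.univ ≠ ⊥

/-! ### Semisimple elements -/

def cnt (s : ℕ) (f : Rt → ℤ) (e : ℕ) : ℕ := (if e = 0 then 8 else 0) + z0 s fun r => f r - e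

def pat41 (i e : ℕ) : ℕ :=
  (([[8, 5, 7, 5, 6, 6, 7, 6, 6, 5, 6, 6, 6, 7, 5, 6, 6, 6, 7, 6, 6, 6, 6, 7, 6, 6, 6, 5, 7, 6, 6, 6, 5, 6, 6, 7, 6, 6, 5, 7, 5],
    [8, 6, 5, 6, 7, 7, 5, 6, 6, 6, 6, 6, 7, 5, 6, 7, 6, 6, 5, 6, 6, 6, 6, 5, 6, 6, 7, 6, 5, 7, 6, 6, 6, 6, 6, 5, 7, 7, 6, 5, 6],
    [8, 6, 6, 6, 5, 5, 6, 6, 7, 6, 7, 7, 5, 6, 6, 5, 6, 7, 6, 6, 6, 6, 6, 6, 7, 6, 5, 6, 6, 5, 7, 7, 6, 7, 6, 6, 5, 5, 6, 6, 6],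
    [8, 6, 6, 6, 6, 6, 6, 6, 6, 6, 6, 6, 6, 6, 6, 6, 6, 6, 6, 6, 6, 6, 6, 6, 6, 6, 6, 6, 6, 6, 6, 6, 6, 6, 6, 6, 6, 6, 6, 6, 6],
    [8, 6, 6, 6, 6, 6, 6, 7, 5, 6, 5, 5, 6, 6, 6, 6, 7, 5, 6, 7, 7, 7, 7, 6, 5, 7, 6, 6, 6, 6, 5, 5, 6, 5, 7, 6, 6, 6, 6, 6, 6],
    [8, 7, 6, 7, 6, 6, 6, 5, 6, 7, 6, 6, 6, 6, 7, 6, 5, 6, 6, 5, 5, 5, 5, 6, 6, 5, 6, 7, 6, 6, 6, 6, 7, 6, 5, 6, 6, 6, 7, 6, 7],
    [16, 2, 8, 2, 7, 7, 8, 6, 6, 2, 6, 6, 7, 8, 2, 7, 6, 6, 8, 6, 6, 6, 6, 8, 6, 6, 7, 2, 8, 7, 6, 6, 2, 6, 6, 8, 7, 7, 2, 8, 2],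
    [16, 6, 2, 6, 8, 8, 2, 6, 7, 6, 7, 7, 8, 2, 6, 8, 6, 7, 2, 6, 6, 6, 6, 2, 7, 6, 8, 6, 2, 8, 7, 7, 6, 7, 6, 2, 8, 8, 6, 2, 6],
    [16, 6, 6, 6, 2, 2, 6, 7, 8, 6, 8, 8, 2, 6, 6, 2, 7, 8, 6, 7, 7, 7, 7, 6, 8, 7, 2, 6, 6, 2, 8, 8, 6, 8, 7, 6, 2, 2, 6, 6, 6],
    [16, 7, 6, 7, 6, 6, 6, 8, 2, 7, 2, 2, 6, 6, 7, 6, 8, 2, 6, 8, 8, 8, 8, 6, 2, 8, 6, 7, 6, 6, 2, 2, 7, 2, 8, 6, 6, 6, 7, 6, 7],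
    [16, 8, 7, 8, 6, 6, 7, 2, 6, 8, 6, 6, 6, 7, 8, 6, 2, 6, 7, 2, 2, 2, 2, 7, 6, 2, 6, 8, 7, 6, 6, 6, 8, 6, 2, 7, 6, 6, 8, 7, 8],
    [32, 1, 1, 1, 9, 9, 1, 8, 8, 1, 8, 8, 9, 1, 1, 9, 8, 8, 1, 8, 8, 8, 8, 1, 8, 8, 9, 1, 1, 9, 8, 8, 1, 8, 8, 1, 9, 9, 1, 1, 1],
    [32, 1, 9, 1, 8, 8, 9, 1, 8, 1, 8, 8, 8, 9, 1, 8, 1, 8, 9, 1, 1, 1, 1, 9, 8, 1, 8, 1, 9, 8, 8, 8, 1, 8, 1, 9, 8, 8, 1, 9, 1],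
    [32, 8, 1, 8, 1, 1, 1, 8, 9, 8, 9, 9, 1, 1, 8, 1, 8, 9, 1, 8, 8, 8, 8, 1, 9, 8, 1, 8, 1, 1, 9, 9, 8, 9, 8, 1, 1, 1, 8, 1, 8],
    [32, 8, 8, 8, 1, 1, 8, 9, 1, 8, 1, 1, 1, 8, 8, 1, 9, 1, 8, 9, 9, 9, 9, 8, 1, 9, 1, 8, 8, 1, 1, 1, 8, 1, 9, 8, 1, 1, 8, 8, 8],
    [32, 9, 8, 9, 8, 8, 8, 1, 1, 9, 1, 1, 8, 8, 9, 8, 1, 1, 8, 1, 1, 1, 1, 8, 1, 1, 8, 9, 8, 8, 1, 1, 9, 1, 1, 8, 8, 8, 9, 8, 9],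
    [248, 0, 0, 0, 0, 0, 0, 0, 0, 0, 0, 0, 0, 0, 0, 0, 0, 0, 0, 0, 0, 0, 0, 0, 0, 0, 0, 0, 0, 0, 0, 0, 0, 0, 0, 0, 0, 0, 0, 0, 0]] :
      List (List ℕ)).getD i []).getD e 0

def pat4 (i e : ℕ) : ℕ :=
  (([[60, 64, 60, 64], [64, 64, 56, 64], [66, 56, 70, 56], [70, 56, 66, 56], [82, 56, 54, 56],
    [92, 64, 28, 64], [120, 0, 128, 0], [134, 56, 2, 56], [136, 0, 112, 0], [248, 0, 0, 0]] :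
      List (List ℕ)).getD i []).getD e 0

def rep (i : ℕ) : List ℕ := [[1, 1, 1, 1, 1, 3, 1, 2], [1, 2, 2, 1, 1, 1, 1, 1],
  [3, 1, 1, 1, 1, 1, 1, 1], [3, 0, 0, 3, 1, 0, 1, 0], [5, 0, 0, 1, 0, 2, 0, 1],
  [7, 0, 0, 0, 0, 1, 2, 6], [3, 0, 0, 0, 0, 1, 1, 7]].getD i []

noncomputable def ff (i : ℕ) : Rt → ℤ := vN C8 (rep i)

/-- The quadratic form of the inverse Cartan matrix. -/
def qf (a : List ℕ) : ℕ := ∑ i ∈ range 8, ∑ j ∈ range 8,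
  (([[4, 5, 7, 10, 8, 6, 4, 2], [5, 8, 10, 15, 12, 9, 6, 3], [7, 10, 14, 20, 16, 12, 8, 4],
    [10, 15, 20, 30, 24, 18, 12, 6], [8, 12, 16, 24, 20, 15, 10, 5], [6, 9, 12, 18, 15, 12, 8, 4],
    [4, 6, 8, 12, 10, 8, 6, 3], [2, 3, 4, 6, 5, 4, 3, 2]] : List (List ℕ)).getD i []).getD j 0 *
      a.getD i 0 * a.getD j 0

/-- **QF** -/
def QfStmt : Prop := ∀ a : List ℕ, ∑ r, vN C8 a r ^ 2 = 60 * (qf a : ℤ)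

/-- **X41** -/
def X41Stmt : Prop := ∀ f, IsAdd C8.R f → ∀ w ∈ C8.S.W, (∀ r, (f (w r) : ZMod 41) = 3 * f r) →
  ∃ i < 17, ∀ e < 41, cnt 41 f e = pat41 i e

/-- **Y4** -/
def Y4Stmt : Prop := ∀ f, IsAdd C8.R f →
  ∃ i < 10, ∀ e < 4, ∑ k ∈ range 10, cnt 40 f (4 * k + e) = pat4 i e

/-- **Y40** -/
def Y40Stmt : Prop := ∀ f, IsAdd C8.R f → ∀ i < 10, (∀ e < 40, cnt 40 f e = SE (mm i) 40 e) →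
  (i < 7 ∧ ∃ u ∈ C8.S.W, Rp C8 40 (rep i) fun r => f (u r)) ∨ ∀ r, (f r : ZMod 40) = 0

/-- **ENUM** -/
def EnumStmt : Prop := ∀ m : ℕ → ℕ, (∀ r < 81, Even r → m (rot r) = m r) → ∀ i < 17,
  (∀ e < 41, SE m 41 e = pat41 i e) → ∀ j < 10,
  (∀ e < 4, ∑ k ∈ range 10, SE m 40 (4 * k + e) = pat4 j e) →
    ∃ i < 10, ∀ r < 81, Even r → m r = mm i r

noncomputable def rho (ψ : SL →* G0) : SL →* Module.End K V := act.comp (ι.comp ψ)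

theorem rho_apply (ψ : SL →* G0) (s : SL) (v : V) : rho ψ s v = act (ι (ψ s)) v := rfl

/-- **KIT** -/
def KitStmt : Prop := (∃ B, ∀ ψ : SL →* G0, Form (rho ψ) B ∧ Semi (rho ψ) frV) ∧
  (∀ (g : G0) (s : ℕ) (ζ : Kˣ) (h : GK) (f : Rt → ℤ), IsPrimitiveRoot ζ s → Lab C8 ζ h f →
    IsConj h (ι g) → ∀ e < s,
      finrank K (⊤ ⊓ Module.End.eigenspace (act (ι g)) ((ζ : K) ^ e) : Submodule K V) = cnt s f e) ∧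
  (∀ (ζ : Kˣ) (h : GK) (f : Rt → ℤ), Lab C8 ζ h f → ∀ v : V,
    (∀ i, act h v (Sum.inl i) = v (Sum.inl i)) ∧
      ∀ r, act h v (Sum.inr r) = ((ζ ^ f r : Kˣ) : K) * v (Sum.inr r)) ∧
  Function.Injective act

def Ker (ψ : SL →* G0) : Prop := ∀ s, ψ s = 1 ↔ s = 1 ∨ s = -1

/-- **CHAR** -/
def CharStmt : Prop := ∀ ψ, Ker ψ → ∀ p : Par, ∃ i < 7, Chr (rho ψ) p i ∧
  ∃ t, Lab C8 (zy p) t (ff i) ∧ IsConj t (ι (ψ (t0 p)))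

/-- **FRAME** -/
def FrameStmt : Prop := ∀ (y : G0) (s : ℕ) (ζ : Kˣ) (t : GK) (f : Rt → ℤ), s.Coprime 3 →
  IsPrimitiveRoot ζ s → Lab C8 ζ t f → IsConj t (ι y) → ∀ n ∈ P8.N,
    (∀ r, (f (P8.ν n r) : ZMod s) = 3 * f r) → ∃ g : GK, g⁻¹ * Ph g = n ∧ g⁻¹ * ι y * g = t

/-- **ZEL** -/
def ZelStmt : Prop :=
  (∀ g n : GK, g⁻¹ * Ph g = n → (∀ a : G0, sg n (g⁻¹ * ι a * g) = g⁻¹ * ι a * g) ∧
    ∀ b, sg n b = b → ∃ a : G0, g⁻¹ * ι a * g = b) ∧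
  (∀ g n : GK, g⁻¹ * Ph g = n → n ∈ P8.N → ∀ χ : Rt → ℤ, IsAdd C8.R χ →
    (∀ r, (χ (P8.ν n r) : ZMod 2) = χ r) → ∃ z : G0, Lab C8 (-1) (g⁻¹ * ι z * g) χ) ∧
  (∀ w ∈ C8.S.W, ∃ n ∈ P8.N, P8.ν n = w) ∧
  ∀ n b v, act (sg n b) (act n (frV v)) = act n (frV (act b v))

/-! ### Groups -/

def Emb (H : Subgroup G0) (ψ : SL →* G0) : Prop :=
  Ker ψ ∧ (∀ s, ψ s ∈ H) ∧ (∀ h ∈ H, ∀ s, ∃ s', h * ψ s * h⁻¹ = ψ s') ∧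
    ∀ h ∈ H, (∀ s, Commute h (ψ s)) → h = 1

/-- **RED** -/
def RedStmt.{u} : Prop := ∀ (E : Type u) [Field E] [Fintype E], Fintype.card E = 81 →
  ∀ H : Subgroup G0, Nonempty (Cfsg.generalizedFittingSubgroup H ≃* PSL(2, E)) → ∃ ψ, Emb H ψ

/-- **CH1** -/
def Ch1Stmt : Prop := ∀ H ψ, Emb H ψ → ∀ p : Par, ∀ g ∈ H, Commute g (ψ (t0 p)) →
  (∀ t, ∃ t', g * ψ (uu t) * g⁻¹ = ψ (uu t') ∨ g * ψ (uu t) * g⁻¹ = ψ (ll t')) ∧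
    ∀ t, ∃ t', g * ψ (ll t) * g⁻¹ = ψ (uu t') ∨ g * ψ (ll t) * g⁻¹ = ψ (ll t')

/-- **CH2** -/
def Ch2Stmt : Prop := ∀ H ψ, Emb H ψ → ∀ p : Par, ∀ g ∈ H, Commute g (ψ (t0 p)) →
  ∃ c c' : F, ∀ t, g * ψ (uu t) * g⁻¹ = ψ (uu (c * t)) ∧ g * ψ (ll t) * g⁻¹ = ψ (ll (c' * t))

/-- **CH** -/
def ChStmt : Prop := ∀ H ψ, Emb H ψ → ∀ p : Par, ∀ g ∈ H, Commute g (ψ (t0 p)) →
  (∃ k : ℕ, g ^ 2 = ψ (t0 p) ^ k) ∧ (g ^ 2 = 1 → g = 1 ∨ g = ψ (t0 p) ^ 20)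

/-- **NRM** -/
def NrmStmt : Prop := ∀ H ψ, IsCoatom H → Emb H ψ →
  (∀ g : G0, (∀ s, Commute g (ψ s)) → g = 1) ∧
  (Fx (rho ψ) Set.univ ≠ ⊥ → ∀ g : G0, (∀ v ∈ Fx (rho ψ) Set.univ, act (ι g) v = v) → g ∈ H)

/-- **DATZ** -/
def DatzStmt : Prop := ∀ i ∈ [3, 5, 6], ∃ w ∈ C8.S.W, (∀ r, (ff i (w r) : ZMod 40) = 3 * ff i r) ∧
  ∃ χ : Rt → ℤ, IsAdd C8.R χ ∧ (∀ r, (χ (w r) : ZMod 2) = χ r) ∧
    (∀ r, (ff i r : ZMod 40) = 0 → Even (χ r)) ∧ (∃ r, Odd (χ r)) ∧ ∃ r, Odd (χ r + ff i r)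

/-- The statement of a case. -/
def Case (i : ℕ) : Prop := ∀ H ψ, IsCoatom H → Emb H ψ → ∀ p : Par, Chr (rho ψ) p i →
  ∀ t, Lab C8 (zy p) t (ff i) → IsConj t (ι (ψ (t0 p))) → False

/-- **CASEZ** -/
def CasezStmt : Prop := ∀ i ∈ [3, 5, 6], Case i

/-! ### The case `E` -/

/-- The four orthogonal roots. -/
noncomputable def aa (i : Fin 4) : Rt := C8.R.simple (![1, 2, 6, 4] i : Fin 8)

/-- **DATE** -/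
def DateStmt : Prop :=
  (∀ r, (ff 4 r : ZMod 40) = 0 ↔ ∃ i, r = aa i ∨ r = ng (aa i)) ∧
  (∀ i j, i ≠ j → C8.R.pair (aa i) (aa j) = 0 ∧ aa i ≠ aa j ∧ aa i ≠ ng (aa j)) ∧
  (∃ w ∈ C8.S.W, (∀ r, (ff 4 (w r) : ZMod 40) = 3 * ff 4 r) ∧ ∀ i, w (aa i) = aa (i + 1)) ∧
  ∀ w ∈ C8.S.W, (∀ r, (ff 4 (w r) : ZMod 40) = -ff 4 r) → ∀ i, w (aa i) = aa i ∨ w (aa i) = ng (aa i)

/-- The vector with coordinates `x` in the `i`-th copy of `sl₂`. -/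
noncomputable def sv (i : Fin 4) (x : K × K × K) : V :=
  x.1 • ee (aa i) + x.2.1 • ee (ng (aa i)) + x.2.2 • hr (aa i)

/-- The centre of the fixed subalgebra. -/
def Zc (h : V) : Prop := h ∈ Cart ∧ ∀ i, al (aa i) h = 0

/-- **NE0** -/
def Ne0Stmt : Prop := ∃ n ∈ P8.N, (∀ r, (ff 4 (P8.ν n r) : ZMod 40) = 3 * ff 4 r) ∧
  (∀ i t, sg n (xx (aa i) t) = xx (aa (i + 1)) (t ^ 3) ∧
    sg n (xx (ng (aa i)) t) = xx (ng (aa (i + 1))) (t ^ 3)) ∧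
  ∀ i x, act n (frV (sv i x)) = sv (i + 1) (x.1 ^ 3, x.2.1 ^ 3, x.2.2 ^ 3)

noncomputable def Um (t : K) (x : K × K × K) : K × K × K :=
  (x.1 - 2 * t * x.2.2 - t ^ 2 * x.2.1, x.2.1, x.2.2 + t * x.2.1)
noncomputable def Lm (t : K) (x : K × K × K) : K × K × K :=
  (x.1, x.2.1 + 2 * t * x.2.2 - t ^ 2 * x.1, x.2.2 - t * x.1)
noncomputable def wd : List (Bool × K) → K × K × K → K × K × K
  | [], x => x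
  | (b, t) :: L, x => if b then Um t (wd L x) else Lm t (wd L x)
noncomputable def gw (i : Fin 4) (L : List (Bool × K)) : GK :=
  (L.map fun q => xx (if q.1 then aa i else ng (aa i)) q.2).prod

/-- **GWA** -/
def GwaStmt : Prop :=
  (∀ i L, (∀ x, act (gw i L) (sv i x) = sv i (wd L x)) ∧
    (∀ j x, j ≠ i → act (gw i L) (sv j x) = sv j x) ∧ (∀ h, Zc h → act (gw i L) h = h) ∧
    ∀ j L', j ≠ i → Commute (gw i L) (gw j L')) ∧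
  (∀ (h : V) (x : Fin 4 → K × K × K), Zc h → h + ∑ i, sv i (x i) = 0 → h = 0 ∧ ∀ i, x i = 0) ∧
  ∀ (ζ : Kˣ) t, IsPrimitiveRoot ζ 40 → Lab C8 ζ t (ff 4) → (∀ i L, Commute t (gw i L)) ∧
    ∀ v, act t v = v ↔ ∃ (h : V) (x : Fin 4 → K × K × K), Zc h ∧ v = h + ∑ i, sv i (x i)

/-- **F3** -/
def F3Stmt : Prop := ∀ x : K × K × K, (∃ c : K, (x.1 ^ 81, x.2.1 ^ 81, x.2.2 ^ 81) = c • x) →
  ∃ L : List (Bool × K), (∀ q ∈ L, q.2 ^ 81 = q.2) ∧ wd L x = x ∧ ∃ y, wd L (wd L y) ≠ y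

/-- **NE** -/
def NeStmt : Prop := ∀ (ζ : Kˣ) t, IsPrimitiveRoot ζ 40 → Lab C8 ζ t (ff 4) →
  ∀ b : GK, b * t * b⁻¹ = t⁻¹ → (∀ h, Zc h → Zc (act b h)) ∧ ∀ i x, ∃ y, act b (sv i x) = sv i y

/-- **LINE** -/
def LinStmt : Prop := ∀ (ζ : Kˣ) t, IsPrimitiveRoot ζ 40 → Lab C8 ζ t (ff 4) → ∀ n b : GK,
  (∀ i x, act n (frV (sv i x)) = sv (i + 1) (x.1 ^ 3, x.2.1 ^ 3, x.2.2 ^ 3)) → sg n b = b →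
  finrank K (Fix {t, b}) ≤ 4 → ∃ a : K × K × K,
    (∃ c : K, (a.1 ^ 81, a.2.1 ^ 81, a.2.2 ^ 81) = c • a) ∧ ∀ i x, act b (sv i x) = sv i x →
      ∃ c : K, x = c • (a.1 ^ 3 ^ (i : ℕ), a.2.1 ^ 3 ^ (i : ℕ), a.2.2 ^ 3 ^ (i : ℕ))

/-- **TWE** -/
def TweStmt : Prop := ∃ n ∈ P8.N, (∀ r, (ff 4 (P8.ν n r) : ZMod 40) = 3 * ff 4 r) ∧
  ∀ (ζ : Kˣ) t, IsPrimitiveRoot ζ 40 → Lab C8 ζ t (ff 4) → ∀ b : GK, b * t * b⁻¹ = t⁻¹ →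
    sg n b = b → finrank K (Fix {t, b}) ≤ 4 → ∃ g : GK, sg n g = g ∧ Commute g t ∧
      (∀ v ∈ Fix {t, b}, act g v = v) ∧ ∃ v, act t v = v ∧ act (g ^ 2) v ≠ v

/-- **CASEE** -/
def CaseeStmt : Prop := Case 4

/-! ### The regular cases -/

/-- **BT1** -/
def Bt1Stmt : Prop := ∀ D : Subgroup G0, IsPGroup 3 D → D ≠ ⊥ → ∀ y : G0,
  (∀ d ∈ D, y⁻¹ * d * y ∈ D) → ∃ (g : GK) (Q P : Subgroup GK), P8.B ≤ P ∧ Q ≤ P8.Up ∧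
    (∀ a ∈ P, ∀ q ∈ Q, a * q * a⁻¹ ∈ Q) ∧ (∀ d ∈ D, g⁻¹ * ι d * g ∈ Q) ∧ g⁻¹ * ι y * g ∈ P

/-- **BT2** -/
def Bt2Stmt : Prop := ∀ (ζ : Kˣ) t f, IsPrimitiveRoot ζ 40 → Lab C8 ζ t f →
  (∀ r, (f r : ZMod 40) ≠ 0) → ∀ P : Subgroup GK, P8.B ≤ P → ∀ g : GK, g⁻¹ * t * g ∈ P →
    ∃ n ∈ P8.N, n⁻¹ * g ∈ P

def Ind (A : Set Rt) : Set Rt := {r | r ∈ A ∧ ¬ ∃ s ∈ A, ∃ s' ∈ A, Sum2 s s' r}
def Pt (A : Set Rt) : Prop := Clo A ∧ ∃ l : Rt → ℤ, IsAdd C8.R l ∧ ∀ r ∈ A, 0 < l r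
def Top (A : Set Rt) : Set Rt := {r | ∀ s ∈ A, r ≠ ng s ∧ ¬ ∃ t, Sum2 s r t}
def Uq (A : Set Rt) (a b c : Rt) : Prop :=
  a ∈ Ind A ∧ b ∈ Ind A ∧ Sum2 a b c ∧ ∀ s ∈ A, ∀ s' ∈ A, Sum2 s s' c → s = a ∨ s = b
def DD (X : Set GK) : Set Rt := {r | ∃ x ∈ X, ∃ h ∈ Cart, act x h (Sum.inr r) ≠ 0}
def cl (D : Set Rt) : Set Rt := {r | ∀ A, Clo A → D ⊆ A → r ∈ A}
/-- `c` is the coefficient of `x` at the root `a`. -/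
def Cf (A : Set Rt) (a : Rt) (x : GK) (c : K) : Prop :=
  ∀ v, Supp A v → act x v (Sum.inr a) = v (Sum.inr a) - c * al a v

def Good (f : Rt → ℤ) (w : Perm Rt) (m : ℕ → ℕ) (A : Set Rt) : Prop :=
  Pt A ∧ (∀ r ∈ A, w r ∈ A) ∧ (∀ r ∈ Ind A, ∃ k < 4, (f r : ZMod 40) = 3 ^ k) ∧
  (∀ e : ℕ, 0 < e → e < 40 → (Top A ∩ {r | (f r : ZMod 40) = e}).ncard ≤ m (2 * e)) ∧
  ∀ a b c, Uq A a b c → (f a : ZMod 40) = f b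

/-- **SUP** -/
def SupStmt : Prop := ∀ n ∈ P8.N, ∀ X : Set GK, (∀ x ∈ X, n⁻¹ * x * n ∈ P8.Up) →
  Pt (cl (DD X)) ∧ (∀ x ∈ X, x ∈ P8.U (cl (DD X))) ∧ Ind (cl (DD X)) ⊆ DD X

/-- **WST** -/
def WstStmt : Prop := ∀ n ∈ P8.N, ∀ X : Set GK, (∀ x ∈ X, sg n x = x) →
  ∀ r ∈ cl (DD X), P8.ν n r ∈ cl (DD X)

/-- **ADD** -/
def AddStmt : Prop := ∀ A, Pt A →
  (∀ x ∈ P8.U A, ∀ v, Supp A v → Supp A (act x v) ∧ cp (act x v) = cp v) ∧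
  (∀ a ∈ Ind A, ∀ x ∈ P8.U A, ∃ c, Cf A a x c) ∧
  (∀ a x c c', Cf A a x c → Cf A a x c' → c = c') ∧
  ∀ a x c, ∀ y ∈ P8.U A, ∀ c', Cf A a x c → Cf A a y c' → Cf A a (x * y) (c + c')

/-- **CF** -/
def CfStmt : Prop := ∀ a b c, Sum2 a b c → (∃ ε : K, ε ≠ 0 ∧ ∀ (t : K) (v : V),
    act (xx a t) v (Sum.inr c) = v (Sum.inr c) + ε * t * v (Sum.inr b)) ∧
  ∃ h ∈ Cart, al a h = 0 ∧ al b h ≠ 0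

/-- **EXC** -/
def ExcStmt : Prop := ∀ A, Pt A → ∀ a b c, Uq A a b c → ∀ x ∈ P8.U A, ∀ y ∈ P8.U A, Commute x y →
  ∀ α β α' β', Cf A a x α → Cf A b x β → Cf A a y α' → Cf A b y β' → α * β' = α' * β

/-- **POL** -/
def PolStmt : Prop := ∀ p : Par,
  (∀ (c : F → K) (e : ℤ), (∀ s s', c (s + s') = c s + c s') → (∃ s, c s ≠ 0) →
    (∀ s, c ((p.l : F) ^ 2 * s) = ((zy p ^ e : Kˣ) : K) * c s) →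
      ∃ k < 4, (e : ZMod 40) = 3 ^ k ∧ ∃ γ : K, γ ≠ 0 ∧ ∀ s, c s = γ * p.κ s ^ 3 ^ k) ∧
  ∀ k < 4, ∀ k' < 4, (∀ s s', p.κ s ^ 3 ^ k * p.κ s' ^ 3 ^ k' = p.κ s' ^ 3 ^ k * p.κ s ^ 3 ^ k') →
    k = k'

/-- **TOP** -/
def TopStmt : Prop := (∀ A, ∀ r ∈ Top A, ∀ x ∈ P8.U A, act x (ee r) = ee r) ∧
  (∀ (S : Set Rt) (U : Submodule K V), (∀ r ∈ S, ee r ∈ U) → S.ncard ≤ finrank K U) ∧
  ∀ z χ, Lab C8 (-1) z χ → ∀ A, (∀ r ∈ A, Even (χ r)) → ∀ x ∈ P8.U A, Commute z x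

/-- **IND** -/
def IndStmt : Prop := ∀ (p : Par) (u : F → GK) (t : GK) (f : Rt → ℤ) (A : Set Rt),
  Lab C8 (zy p) t f → (∀ s s', u (s + s') = u s * u s') →
  (∀ s, t * u s * t⁻¹ = u ((p.l : F) ^ 2 * s)) → Pt A → (∀ s, u s ∈ P8.U A) →
  Ind A ⊆ DD (Set.range u) → (∀ r ∈ Ind A, ∃ k < 4, (f r : ZMod 40) = 3 ^ k) ∧
    ∀ a b c, Uq A a b c → (f a : ZMod 40) = f b

/-- **GOOD** -/
def GoodStmt : Prop := ∀ ψ, Ker ψ → ∀ (p : Par) (i : ℕ), Chr (rho ψ) p i →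
  (∀ r, (ff i r : ZMod 40) ≠ 0) → ∀ g : GK, ∀ n ∈ P8.N, g⁻¹ * Ph g = n →
  Lab C8 (zy p) (g⁻¹ * ι (ψ (t0 p)) * g) (ff i) →
    ∃ A, Good (ff i) (P8.ν n) (mm i) A ∧ ∀ s, g⁻¹ * ι (ψ (uu s)) * g ∈ P8.U A

/-- **COMB** -/
def CombStmt (i : ℕ) : Prop := ∃ w ∈ C8.S.W, (∀ r, (ff i (w r) : ZMod 40) = 3 * ff i r) ∧
  ∀ A, Good (ff i) w (mm i) A → ∃ χ : Rt → ℤ, IsAdd C8.R χ ∧ (∀ r, (χ (w r) : ZMod 2) = χ r) ∧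
    (∃ r, Odd (χ r)) ∧ ∀ r ∈ A, Even (χ r)

/-- **STW** -/
def StwStmt : Prop := ∀ i < 3, (∀ r, (ff i r : ZMod 40) ≠ 0) ∧
  ∀ w ∈ C8.S.W, (∀ r, (ff i (w r) : ZMod 40) = ff i r) → w = 1

/-- **NEG** -/
def NgStmt : Prop := ∀ i < 3, ∀ (ζ : Kˣ) t, IsPrimitiveRoot ζ 40 → Lab C8 ζ t (ff i) →
  ∀ b : GK, b * t * b⁻¹ = t⁻¹ → ∀ z χ, Lab C8 (-1) z χ → Commute z b

/-- **CASEA** -/
def CaseaStmt : Prop := ∀ i < 3, Case i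

/-! ### `L₂(3 ^ 7)` -/

noncomputable def f7 : Rt → ℤ := vN C8 [535, 21, 36, 439, 324, 122, 181, 1]

/-- **N7A** -/
def N7aStmt : Prop := ∀ (x : G0) (ζ : Kˣ), x ^ 547 = 1 → x ≠ 1 → IsPrimitiveRoot ζ 547 →
  ∃ μ : ℕ, 0 < μ ∧ μ < 547 ∧ ∃ h, Lab C8 ζ h (fun r => μ * f7 r) ∧ IsConj h (ι x)

/-- **N7C** -/
def N7cStmt : Prop := ∀ μ : ℕ, 0 < μ → μ < 547 → ∃ r₀ : Rt, ∀ r < 2187, Even r →
  (∃ j ∈ JJ 3 r, ((r : ZMod 547) - 2 * j) = μ * f7 r₀) →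
    ∃ j ∈ JJ 3 r, ((r : ZMod 547) - 2 * j) ≠ 0 ∧ ∀ s : Rt, ((r : ZMod 547) - 2 * j) ≠ μ * f7 s

/-- **N7** -/
def N7Stmt.{u} : Prop := ∀ (E : Type u) [Field E] [Fintype E], Fintype.card E = 3 ^ 7 →
  ∀ φ : PSL(2, E) →* G0, ¬ Function.Injective φ

end Cfsg.Agent.H50.L81
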