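import Mathlib
import Cfsg.Agent.H42.ACKit
import Cfsg.Agent.H76.AlBase

/-! Project AC: elementary abelian subgroups of rank four. -/

set_option autoImplicit false

namespace Cfsg.Agent.H50.AC

open Cfsg Subgroup Cfsg.Agent.H8 Cfsg.Agent.H28 Cfsg.Agent.H42.AL Cfsg.Agent.H76.Al
open Cfsg.Agent.H42.AS (om)
open Cfsg.Agent.H76.AsPre (comm_of_sq)
open Cfsg.Agent.H83 (card_le_two_mul_of_mul_mem)
open scoped Pointwise commutatorElement

universe u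

variable {G : Type u} [Group G] {D : RD G}

theorem tp_mem' (h : D.Rel) {B : Subgroup G} {u : G} (hu : u ∈ B) : Tp D B u false false :=
  ⟨u⁻¹, inv_mem hu, 1, 1, by rw [inv_mul_cancel]; exact St_K h (one_mem _)⟩

theorem exists_sub' (h : D.Rel) {F : Subgroup G} (hU : F ≤ normalizer (D.U : Set G))
    (Fsq : ∀ x ∈ F, x * x = 1) (p : Bool → Bool → Prop) (h0 : p false false)
    (hm : ∀ b f b' f', p b f → p b' f' → p (xor b b') (xor f f')) :
    ∃ H : Subgroup G, ∀ g, g ∈ H ↔ g ∈ F ∧ ∃ b f, p b f ∧ Tp D D.U g b f :=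
  ⟨{ carrier := {g | g ∈ F ∧ ∃ b f, p b f ∧ Tp D D.U g b f}
     one_mem' := ⟨one_mem _, _, _, h0, tp_mem' h (one_mem _)⟩
     mul_mem' := fun ⟨ha, _, _, p1, t1⟩ ⟨hb, _, _, p2, t2⟩ =>
       ⟨mul_mem ha hb, _, _, hm _ _ _ _ p1 p2, t1.mul t2 (hU ha)⟩
     inv_mem' := fun {g} hg => by rwa [inv_eq_of_mul_eq_one_right (Fsq g hg.1)] }, fun _ => Iff.rfl⟩

set_option synthInstance.maxSize 2048 in
set_option synthInstance.maxHeartbeats 100000 in
theorem f4_aux' : ∀ a b a' b' : F4, (a = 0 ∨ a' = 0 ∨ a = a') → (b = 0 ∨ b' = 0 ∨ b = b') →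
    (a = 0 ∨ b = 0) → (a' = 0 ∨ b' = 0) → (a + a' = 0 ∨ b + b' = 0) → ¬ (a = 0 ∧ b = 0) →
    ¬ (a' = 0 ∧ b' = 0) → a + a' = 0 ∧ b + b' = 0 := by decide

/-- An element of `N ∩ N(V)` normalizes `U`. -/
theorem normU_of [Finite G] (hF : D.Fa) {g : G} (hN : g ∈ D.N)
    (hV : g ∈ normalizer (D.V : Set G)) : g ∈ normalizer (D.U : Set G) := by
  obtain ⟨b, f, ht⟩ := tp_of (hF.par.nU g hN hV)
  obtain ⟨l, m, -, -, -, ha⟩ := ht.act hF
  refine mem_normalizer_fintype fun x hx => ?_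
  obtain ⟨a, b', c, rfl⟩ := mem_U hF hx
  obtain ⟨c', e⟩ := ha a b' c
  rw [e]
  cases b
  · exact uu_U _ _ _
  · exact uu_U _ _ _

theorem rk : RkStmt.{u} := by
  intro G _ _ D hF hK F hN hV Fsq hc
  have h := hF.rel
  have hU : F ≤ normalizer (D.U : Set G) := fun g hg => normU_of hF (hN hg) (hV hg)
  have tp : ∀ g ∈ F, ∃ b f, Tp D D.U g b f := fun g hg => tp_of (hF.par.nU g (hN hg) (hV hg))
  obtain ⟨F0, m0⟩ := exists_sub' h hU Fsq (fun b f => b = false ∧ f = false) ⟨rfl, rfl⟩ (by decide)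
  obtain ⟨F1, m1⟩ := exists_sub' h hU Fsq (fun _ f => f = false) rfl (by decide)
  have h0 : ∀ g ∈ F0, g ∈ D.U := fun g hg => by
    obtain ⟨hg, _, _, ⟨rfl, rfl⟩, ht⟩ := (m0 g).1 hg
    obtain ⟨u, hu, k, hk, rfl⟩ := ht.triv hF (U_A h) (hU hg) (by
      rw [show 4 = 2 * 2 from rfl, pow_mul, pow_two g, Fsq g hg, one_pow])
    rw [hK, mem_bot] at hk
    rwa [hk, mul_one]
  have c0 : Nat.card F0 ≤ Nat.card ↥(F ⊓ D.U) :=
    card_le_of_le fun g hg => ⟨((m0 g).1 hg).1, h0 g hg⟩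
  have fx : ∀ g ∈ F, ∀ x ∈ F, g * x * g⁻¹ = x := fun g hg x hx => by
    rw [comm_of_sq Fsq hg hx, mul_inv_cancel_right]
  have cV : ∀ g ∈ F, ∀ b, Tp D D.U g b true → Nat.card ↥(F ⊓ D.V) ≤ 2 := fun g hg b ht => by
    obtain ⟨l, m, l0, m0, hv, -⟩ := ht.act hF
    have := card_le_two_mul_of_mul_mem (A := ⊥) (B := F ⊓ D.V) bot_le fun x hx y hy x1 y1 => by
      obtain ⟨a, rfl⟩ := (mem_V h).1 hx.2
      obtain ⟨c, rfl⟩ := (mem_V h).1 hy.2
      have k : ∀ l a c : F4, l * pw true a = a → l * pw true c = c → a ≠ 0 → c ≠ 0 → a = c := by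
        decide
      rw [k _ a c (v_inj h ((hv a).symm.trans (fx g hg _ hx.1)))
        (v_inj h ((hv c).symm.trans (fx g hg _ hy.1)))
        (fun e => x1 (by rw [e, v0 h]; exact one_mem _))
        (fun e => y1 (by rw [e, v0 h]; exact one_mem _)), v_sq h]
      exact one_mem _
    simpa using this
  have cS : ∀ g ∈ F, ∀ f, Tp D D.U g true f → F ⊓ D.U ≤ F ⊓ D.V := fun g hg f ht x hx => by
    obtain ⟨l, m, l0, m0, -, ha⟩ := ht.act hF
    obtain ⟨a, b, c, rfl⟩ := mem_U hF hx.2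
    obtain ⟨c', e⟩ := ha a b c
    have e1 := uu_inj h ((fx g hg _ hx.1).symm.trans e)
    have k : ∀ f, pw f 0 = 0 := by decide
    refine ⟨hx.1, (uu_mem_V h).2 ?_⟩
    rcases (uu_sq h).1 (Fsq _ hx.1) with rfl | rfl
    · exact ⟨rfl, by rw [e1.2.1, k, mul_zero]⟩
    · exact ⟨by rw [e1.1, k, mul_zero], rfl⟩
  have cF : ∀ g ∈ F, Tp D D.U g false true →
      Nat.card ↥(F ⊓ D.U) ≤ 2 * Nat.card ↥(F ⊓ D.V) := fun g hg ht => by
    obtain ⟨l, m, l0, m0, -, ha⟩ := ht.act hF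
    refine card_le_two_mul_of_mul_mem (inf_le_inf_left _ V_U) fun x hx y hy x1 y1 => ?_
    obtain ⟨a, b, c, rfl⟩ := mem_U hF hx.2
    obtain ⟨a', b', c', rfl⟩ := mem_U hF hy.2
    obtain ⟨_, e⟩ := ha a b c
    obtain ⟨_, e'⟩ := ha a' b' c'
    have e1 := uu_inj h ((fx g hg _ hx.1).symm.trans e)
    have e2 := uu_inj h ((fx g hg _ hy.1).symm.trans e')
    have h1 := F.mul_mem hx.1 hy.1
    refine ⟨h1, ?_⟩
    have h2 := Fsq _ h1
    rw [uu_mul h] at h2 ⊢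
    have k : ∀ l a c : F4, a = l * pw true a → c = l * pw true c → a = 0 ∨ c = 0 ∨ a = c := by
      decide
    exact (uu_mem_V h).2 (f4_aux' _ _ _ _ (k _ _ _ e1.1 e2.1) (k _ _ _ e1.2.1 e2.2.1)
      ((uu_sq h).1 (Fsq _ hx.1)) ((uu_sq h).1 (Fsq _ hy.1)) ((uu_sq h).1 h2)
      (fun e => x1 ⟨hx.1, (uu_mem_V h).2 e⟩) fun e => y1 ⟨hy.1, (uu_mem_V h).2 e⟩)
  have hall : F ≤ F0 := by
    by_contra hn
    by_cases htt : ∃ g ∈ F, Tp D D.U g true true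
    · obtain ⟨g, hg, ht⟩ := htt
      have c1 : Nat.card F ≤ 2 * Nat.card F1 := card_le_two_mul_of_mul_mem
        (fun x hx => ((m1 x).1 hx).1) fun x hx y hy x1 y1 => by
          obtain ⟨b, f, p1⟩ := tp x hx
          obtain ⟨b', f', p2⟩ := tp y hy
          refine (m1 _).2 ⟨mul_mem hx hy, _, _, ?_, p1.mul p2 (hU hx)⟩
          cases f
          · exact absurd ((m1 _).2 ⟨hx, _, _, rfl, p1⟩) x1
          cases f'
          · exact absurd ((m1 _).2 ⟨hy, _, _, rfl, p2⟩) y1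
          rfl
      have c2 : Nat.card F1 ≤ 2 * Nat.card F0 := card_le_two_mul_of_mul_mem
        (fun x hx => let ⟨h1, _, _, h2, h3⟩ := (m0 x).1 hx; (m1 x).2 ⟨h1, _, _, h2.2, h3⟩)
        fun x hx y hy x1 y1 => by
          obtain ⟨hx, b, f, rfl, p1⟩ := (m1 x).1 hx
          obtain ⟨hy, b', f', rfl, p2⟩ := (m1 y).1 hy
          refine (m0 _).2 ⟨mul_mem hx hy, _, _, ⟨?_, rfl⟩, p1.mul p2 (hU hx)⟩
          cases b
          · exact absurd ((m0 _).2 ⟨hx, _, _, ⟨rfl, rfl⟩, p1⟩) x1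
          cases b'
          · exact absurd ((m0 _).2 ⟨hy, _, _, ⟨rfl, rfl⟩, p2⟩) y1
          rfl
      have c3 := card_le_of_le (cS g hg _ ht)
      have c4 := cV g hg _ ht
      omega
    have c1 : Nat.card F ≤ 2 * Nat.card F0 := card_le_two_mul_of_mul_mem
      (fun x hx => ((m0 x).1 hx).1) fun x hx y hy x1 y1 => by
        obtain ⟨b, f, p1⟩ := tp x hx
        obtain ⟨b', f', p2⟩ := tp y hy
        have p3 := p1.mul p2 (hU hx)
        cases b <;> cases f <;> cases b' <;> cases f' <;>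
          first
          | exact absurd ((m0 _).2 ⟨hx, _, _, ⟨rfl, rfl⟩, p1⟩) x1
          | exact absurd ((m0 _).2 ⟨hy, _, _, ⟨rfl, rfl⟩, p2⟩) y1
          | exact (m0 _).2 ⟨mul_mem hx hy, _, _, ⟨rfl, rfl⟩, p3⟩
          | exact (htt ⟨_, hx, p1⟩).elim
          | exact (htt ⟨_, hy, p2⟩).elim
          | exact (htt ⟨_, mul_mem hx hy, p3⟩).elim
    obtain ⟨g, hg, hg'⟩ := SetLike.not_le_iff_exists.1 hn
    obtain ⟨b, f, p1⟩ := tp g hg
    cases b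
    · cases f
      · exact hg' ((m0 _).2 ⟨hg, _, _, ⟨rfl, rfl⟩, p1⟩)
      have c3 := cF g hg p1
      have c4 := cV g hg _ p1
      omega
    · have c3 := card_le_of_le ((cS g hg _ p1).trans inf_le_right)
      rw [card_V h] at c3
      omega
  have FU : F ≤ D.U := fun x hx => h0 x (hall hx)
  by_cases h1 : F ≤ D.E1
  · exact .inl (eq_of_le_of_card_ge h1 (by rwa [card_E1 h]))
  refine .inr (eq_of_le_of_card_ge (fun y hy => ?_) (by rwa [card_E2 h]))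
  obtain ⟨x, hx, hx'⟩ := SetLike.not_le_iff_exists.1 h1
  obtain ⟨a, b, c, rfl⟩ := mem_U hF (FU hx)
  obtain ⟨a', b', c', rfl⟩ := mem_U hF (FU hy)
  have h2 := Fsq _ (F.mul_mem hx hy)
  rw [uu_mul h] at h2
  have k : ∀ a b a' b' : F4, (a = 0 ∨ b = 0) → (a' = 0 ∨ b' = 0) → (a + a' = 0 ∨ b + b' = 0) →
      b ≠ 0 → a' = 0 := by decide
  rw [k _ _ _ _ ((uu_sq h).1 (Fsq _ hx)) ((uu_sq h).1 (Fsq _ hy)) ((uu_sq h).1 h2)
    fun e => hx' ((mem_E1 h).2 ⟨a, c, by rw [e]⟩)]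
  exact (mem_E2 h).2 ⟨_, _, rfl⟩

end Cfsg.Agent.H50.AC
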