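import Mathlib
import Cfsg.Agent.H50.AcRk
import Cfsg.Agent.H65.AlPar

/-! Project AC: the cases where the central elements `χ x` are involutions. -/

set_option autoImplicit false
set_option linter.unusedSectionVars false
set_option synthInstance.maxSize 2048

namespace Cfsg.Agent.H50.AC

open Cfsg Subgroup Cfsg.Agent.H8 Cfsg.Agent.H28 Cfsg.Agent.H42.AL Cfsg.Agent.H76.Al
open Cfsg.Agent.H42.AS (om)
open Cfsg.Agent.H42.AC (te te2 cent_N cent_N' kna conj_K conj_A K_N)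
open Cfsg.Agent.H72.ASB (one_of_add sq_of_add inv_of_add)
open scoped Pointwise commutatorElement

universe u

theorem cmm {G : Type u} [Group G] {S : Subgroup G} {a b : G} (ha : a ∈ S) (hb : b ∈ S) :
    ⁅a, b⁆ ∈ S := mul_mem (mul_mem (mul_mem ha hb) (inv_mem ha)) (inv_mem hb)

theorem cross {H : Type u} [Group H] {B : RD H} (h : B.Rel) {F F' : Subgroup H}
    (h1 : F = B.E1 ∨ F = B.E2) (h2 : F' = B.E1 ∨ F' = B.E2) {a b : H} (ha : a ∈ F) (hb : b ∈ F')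
    (e : ⁅a, b⁆ = 1) : (∀ b' ∈ F', ⁅a, b'⁆ = 1) ∨ ∀ a' ∈ F, ⁅a', b⁆ = 1 := by
  rcases h1 with rfl | rfl <;> rcases h2 with rfl | rfl
  · refine .inl fun b' hb' => ?_
    obtain ⟨s, t, rfl⟩ := (mem_E1 h).1 ha
    obtain ⟨s', t', rfl⟩ := (mem_E1 h).1 hb'
    simp [comm_uu h, v0 h]
  · obtain ⟨s, t, rfl⟩ := (mem_E1 h).1 ha
    obtain ⟨s', t', rfl⟩ := (mem_E2 h).1 hb
    rw [comm_uu h, mul_zero, zero_add] at e
    rcases mul_eq_zero.1 (v_eq_one h e) with rfl | rfl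
    · refine .inl fun b' hb' => ?_
      obtain ⟨s, t, rfl⟩ := (mem_E2 h).1 hb'
      simp [comm_uu h, v0 h]
    · refine .inr fun b' hb' => ?_
      obtain ⟨s, t, rfl⟩ := (mem_E1 h).1 hb'
      simp [comm_uu h, v0 h]
  · obtain ⟨s, t, rfl⟩ := (mem_E2 h).1 ha
    obtain ⟨s', t', rfl⟩ := (mem_E1 h).1 hb
    rw [comm_uu h, mul_zero, add_zero] at e
    rcases mul_eq_zero.1 (v_eq_one h e) with rfl | rfl
    · refine .inl fun b' hb' => ?_
      obtain ⟨s, t, rfl⟩ := (mem_E1 h).1 hb'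
      simp [comm_uu h, v0 h]
    · refine .inr fun b' hb' => ?_
      obtain ⟨s, t, rfl⟩ := (mem_E2 h).1 hb'
      simp [comm_uu h, v0 h]
  · refine .inl fun b' hb' => ?_
    obtain ⟨s, t, rfl⟩ := (mem_E2 h).1 ha
    obtain ⟨s', t', rfl⟩ := (mem_E2 h).1 hb'
    simp [comm_uu h, v0 h]

variable {G H : Type u} [Group G] [Finite G] [Group H] [Finite H] {D : RD G} {B : RD H}
  {p : G → H} {χ : F4 → G} (L : Lf D B p χ) (h2 : ∀ x, χ x ^ 2 = 1)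
include L

theorem BK : B.K = ⊥ := L.cov.faith

theorem allN (x : H) : x ∈ B.N := L.cov.allN x

theorem vA (t : F4) : D.xv t ∈ D.A := by
  have : D.xv t = D.nb * D.xe t * D.nb⁻¹ := by rw [L.nbe, mul_inv_cancel_right]
  exact this ▸ mul_mem (mul_mem nb_A (xe_A t)) (inv_mem nb_A)

theorem UA : D.U ≤ D.A := U_ind xe_A xb_A (vA L)

theorem χAA (x : F4) : χ x ∈ D.A := UA L (L.χA x)

theorem χc (x : F4) {a : G} (ha : a ∈ D.A) : a * χ x = χ x * a := K_comm (L.χK x) ha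

theorem pU {y : G} (hy : y ∈ D.U) : p y ∈ B.U := by
  induction hy using closure_induction with
  | mem x hx =>
    rcases hx with (⟨t, rfl⟩ | ⟨t, rfl⟩) | ⟨t, rfl⟩
    · exact L.pe t ▸ xe_U t
    · exact L.pb t ▸ xb_U t
    · exact L.pv t ▸ xv_U t
  | one => exact L.cov.one ▸ one_mem _
  | mul x y hx hy a b =>
    rw [L.cov.mul _ (le_normalizer (UA L hx)) _ (le_normalizer (UA L hy))]; exact mul_mem a b
  | inv x hx a => rw [L.cov.inv (le_normalizer (UA L hx))]; exact inv_mem a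

theorem liftU {y : H} (hy : y ∈ B.U) : ∃ x ∈ D.U, p x = y := by
  obtain ⟨a, b, c, rfl⟩ := mem_U L.fa hy
  refine ⟨D.xe a * D.xb b * D.xv c, uu_U _ _ _, ?_⟩
  rw [L.cov.mul _ (le_normalizer (mul_mem (xe_A _) (xb_A _))) _ (le_normalizer (vA L _)),
    L.cov.mul _ (le_normalizer (xe_A _)) _ (le_normalizer (xb_A _)), L.pe, L.pb, L.pv]
  rfl

theorem vK_inj {s t : F4} {k k' : G} (hk : k ∈ D.K) (hk' : k' ∈ D.K)
    (e : D.xv s * k = D.xv t * k') : s = t := by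
  have := congrArg p e
  rw [L.cov.mulK (le_normalizer (vA L s)) hk, L.cov.mulK (le_normalizer (vA L t)) hk', L.pv,
    L.pv] at this
  exact v_inj L.fa.rel this

include h2

theorem χadd (x y : F4) : χ (x + y) = χ x * χ y := by rw [L.χadd, h2, mul_one]

theorem χsq (x : F4) : χ x * χ x = 1 := by rw [← pow_two, h2]

theorem Uv {y : G} (hy : y ∈ D.U) (s : F4) : y * D.xv s = D.xv s * y := by
  have : D.U ≤ centralizer {D.xv s} := U_ind
    (fun t => mem_centralizer_singleton_iff.2 (by rw [L.ve, h2, mul_one]))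
    (fun t => mem_centralizer_singleton_iff.2 (by rw [L.vb, h2, mul_one]))
    fun t => mem_centralizer_singleton_iff.2 (by rw [← L.vv, ← L.vv, add_comm])
  exact mem_centralizer_singleton_iff.1 (this hy)

theorem cbe (t s : F4) : ⁅D.xb t, D.xe s⁆ = D.xv (t * s) * χ (t * s ^ 2) := by
  rw [commutatorElement_def, L.be, mul_inv_cancel_right, mul_assoc,
    ← χc L _ (inv_mem (xe_A s)), ← mul_assoc, Uv L h2 (xe_U s), mul_inv_cancel_right]

theorem χ_comm (x : F4) : χ x ∈ ⁅D.U, D.U⁆ := by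
  have k : ∀ x : F4, x * om ^ 2 * om = x ∧ x * om * om ^ 2 = x ∧
      x * om ^ 2 * om ^ 2 + x * om * (om ^ 2) ^ 2 = x := by decide
  have e : ⁅D.xb (x * om ^ 2), D.xe om⁆ * ⁅D.xb (x * om), D.xe (om ^ 2)⁆ = χ x := by
    rw [cbe L h2, cbe L h2, (k x).1, (k x).2.1, mul_assoc, ← mul_assoc (χ _), ← χc L _ (vA L x),
      mul_assoc, ← χadd L h2, (k x).2.2, ← mul_assoc, sq_of_add L.vv, one_mul]
  exact e ▸ mul_mem (commutator_mem_commutator (xb_U _) (xe_U _))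
    (commutator_mem_commutator (xb_U _) (xe_U _))

/-- If `U ≤ N'` then `χ x` is an inner involution for `A'`. -/
theorem adj {g : G} (hg : g ∉ D.N) (hU : ∀ y ∈ D.U, g⁻¹ * y * g ∈ D.N) {x : F4} (hx : χ x ≠ 1) :
    ∃ y ∈ D.A, ∃ k ∈ D.K, y * (g⁻¹ * χ x * g) * y⁻¹ = D.xv 1 * k := by
  have hN := hU _ (L.χA x)
  have c1 : g⁻¹ * χ x * g ∈ ⁅D.N, D.N⁆ := by
    have := mem_map_of_mem (MulAut.conj g⁻¹).toMonoidHom (χ_comm L h2 x)
    rw [map_commutator] at this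
    have hle : D.U.map (MulAut.conj g⁻¹).toMonoidHom ≤ D.N := by
      rintro _ ⟨y, hy, rfl⟩
      simpa using hU y hy
    simpa using commutator_mono hle hle this
  have s2 : p (g⁻¹ * χ x * g) * p (g⁻¹ * χ x * g) = 1 := by
    rw [← L.cov.mul _ hN _ hN, show g⁻¹ * χ x * g * (g⁻¹ * χ x * g) = g⁻¹ * (χ x * χ x) * g by
      group, χsq L h2, mul_one, inv_mul_cancel, L.cov.one]
  obtain ⟨a, ha, k, hk, e⟩ := L.fa.par.comm2 _ (L.cov.comm c1) ⟨1, by rwa [pow_one, pow_two]⟩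
  rw [BK L, mem_bot] at hk
  rw [hk, mul_one] at e
  obtain ⟨y, hy, e1⟩ := L.fa.glob.inv _ (e ▸ ha) s2 fun e0 =>
    hg (te2 L.cov.std (L.χK x) ((L.cov.ker _ hN).1 e0) (χsq L h2 x) hx)
  obtain ⟨y, hy', rfl⟩ := (L.cov.img _).1 hy
  have hn : y * (g⁻¹ * χ x * g) * y⁻¹ ∈ D.N :=
    mul_mem (mul_mem (le_normalizer hy') hN) (inv_mem (le_normalizer hy'))
  rw [← L.cov.cj (le_normalizer hy') hN, ← L.pv] at e1
  exact ⟨y, hy', _, (L.cov.eq_iff (le_normalizer (vA L 1)) hn).1 e1.symm, by group⟩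

theorem vk_sq {k : G} (hk : k ∈ D.K) (k2 : k * k = 1) (s : F4) :
    D.xv s * k * (D.xv s * k) = 1 := by
  rw [mul_assoc, ← mul_assoc k, ← K_comm hk (vA L s), mul_assoc, k2, mul_one, sq_of_add L.vv]

theorem vk_ne {k : G} (hk : k ∈ D.K) {s : F4} (hs : s ≠ 0) : D.xv s * k ≠ 1 := fun e =>
  hs (vK_inj L hk (one_mem _) (by rw [e, one_of_add L.vv, mul_one]))

theorem U_vk {k y : G} (hk : k ∈ D.K) (hy : y ∈ D.U) (s : F4) :
    y * (D.xv s * k) = D.xv s * k * y := by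
  rw [← mul_assoc, Uv L h2 hy, mul_assoc, K_comm hk (UA L hy), mul_assoc]

/-- The first normalization. -/
theorem step1 (hI : In D) {x : F4} (hx : χ x ≠ 1) : ∃ g, g ∉ D.N ∧
    (∃ k ∈ D.K, k * k = 1 ∧ g⁻¹ * (D.xv 1 * k) * g ∈ D.K) ∧
    (∃ k ∈ D.K, g⁻¹ * χ x * g = D.xv 1 * k) ∧ ∀ y ∈ D.U, g * y * g⁻¹ ∈ D.N := by
  obtain ⟨g, hg, k, hk, k2, hu⟩ := hI
  obtain ⟨y, hy, k', hk', e⟩ := adj L h2 hg (fun y hy => cent_N' L.cov.std hu
    (vk_sq L h2 hk k2 1) (vk_ne L h2 hk one_ne_zero) (U_vk L h2 hk hy 1)) hx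
  have yN : y ∈ D.N := le_normalizer hy
  have e' : (g * y⁻¹)⁻¹ * χ x * (g * y⁻¹) = D.xv 1 * k' := by rw [← e]; group
  refine ⟨g * y⁻¹, fun h => hg ((mul_mem_cancel_right (inv_mem yN)).1 h), ⟨k, hk, k2, ?_⟩,
    ⟨k', hk', e'⟩, fun z hz => ?_⟩
  · have := conj_K L.cov.std yN hu
    rwa [show (g * y⁻¹)⁻¹ * (D.xv 1 * k) * (g * y⁻¹) = y * (g⁻¹ * (D.xv 1 * k) * g) * y⁻¹ by group]
  · refine cent_N L.cov.std (L.χK x) (n := 1) (h2 x) hx ?_
    generalize g * y⁻¹ = w at e'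
    calc w * z * w⁻¹ * χ x = w * (z * (w⁻¹ * χ x * w)) * w⁻¹ := by group
      _ = w * (w⁻¹ * χ x * w * z) * w⁻¹ := by rw [e', U_vk L h2 hk' hz]
      _ = _ := by group

theorem xa' (hI : In D) {x : F4} (hx : χ x ≠ 1) : ∃ g, (∃ a ∈ D.A, g * a * g⁻¹ ∉ D.N) ∧
    ∀ z ∈ D.A, z ∈ D.K → Odd (orderOf z) → g⁻¹ * z * g ∈ D.K := by
  obtain ⟨g, hg, ⟨k, hk, k2, hu⟩, ⟨k', hk', e⟩, hU⟩ := step1 L h2 hI hx
  have cN : g⁻¹ * χ x * g ∈ D.N := e ▸ mul_mem (le_normalizer (vA L 1)) (K_N hk')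
  refine ⟨g, kna L.cov.std hg (L.χK x) (n := 1) (h2 x) hx cN, fun z hz zK zo => ?_⟩
  have zN : g⁻¹ * z * g ∈ D.N := cent_N' L.cov.std hu (vk_sq L h2 hk k2 1)
    (vk_ne L h2 hk one_ne_zero)
    (by rw [← mul_assoc, ← K_comm zK (vA L 1), mul_assoc, K_comm hk hz, mul_assoc])
  have pc : p (g⁻¹ * χ x * g) = B.xv 1 := by
    rw [e, L.cov.mulK (le_normalizer (vA L 1)) hk', L.pv]
  have c1 : p (g⁻¹ * z * g) * B.xv 1 = B.xv 1 * p (g⁻¹ * z * g) := by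
    rw [← pc, ← L.cov.mul _ zN _ cN, ← L.cov.mul _ cN _ zN]
    congr 1
    calc g⁻¹ * z * g * (g⁻¹ * χ x * g) = g⁻¹ * (z * χ x) * g := by group
      _ = _ := by rw [χc L x hz]; group
  have nU := normU_of L.fa (allN L _) (H65.AL.NV_of L.fa.rel L.fa.glob (allN L _) c1)
  have odd1 : ∀ w : H, w ^ orderOf z = 1 → w ^ 4 = 1 → w = 1 := fun w e1 e2 =>
    orderOf_eq_one_iff.1 (Nat.eq_one_of_dvd_coprimes
      (Nat.Coprime.pow_right 2 zo.coprime_two_right) (orderOf_dvd_of_pow_eq_one e1)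
      (orderOf_dvd_of_pow_eq_one e2))
  have cjp : ∀ w : G, w ^ orderOf z = 1 → (g⁻¹ * w * g) ^ orderOf z = 1 := fun w hw => by
    have := conj_pow (a := g⁻¹) (b := w) (i := orderOf z)
    rw [inv_inv] at this
    rw [this, hw, mul_one, inv_mul_cancel]
  obtain ⟨t, k0, hk0, e0⟩ := L.fa.par.cU (p (g⁻¹ * z * g)) (allN L _) fun y hy => by
    obtain ⟨y, hy', rfl⟩ := liftU L hy
    have yN : y ∈ D.N := le_normalizer (UA L hy')
    have hz' : g * y * g⁻¹ * z * (g * y * g⁻¹)⁻¹ ∈ D.A := conj_A (hU y hy') hz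
    have hc : Commute (g * y * g⁻¹ * z * (g * y * g⁻¹)⁻¹) z⁻¹ := K_comm (inv_mem zK) hz'
    have e1 : (g * y * g⁻¹ * z * (g * y * g⁻¹)⁻¹ * z⁻¹) ^ orderOf z = 1 := by
      rw [hc.mul_pow, conj_pow, inv_pow, pow_orderOf_eq_one]; group
    have e2 := cjp _ e1
    rw [show g⁻¹ * (g * y * g⁻¹ * z * (g * y * g⁻¹)⁻¹ * z⁻¹) * g = ⁅y, g⁻¹ * z * g⁆ by
      simp only [commutatorElement_def]; group] at e2
    have e3 := L.cov.two (cmm yN zN) e2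
    rw [L.cov.cm yN zN] at e3
    have m : ⁅p y, p (g⁻¹ * z * g)⁆ ∈ B.U := by
      rw [commutatorElement_def, mul_assoc, mul_assoc, ← mul_assoc (p (g⁻¹ * z * g))]
      exact mul_mem hy ((mem_normalizer_iff.1 nU _).1 (inv_mem hy))
    exact (commutatorElement_eq_one_iff_mul_comm.1 (odd1 _ e3 (U_four L.fa m))).symm
  rw [BK L, mem_bot] at hk0
  rw [hk0, mul_one] at e0
  exact (L.cov.ker _ zN).1 (odd1 _ (L.cov.two zN (cjp z (pow_orderOf_eq_one z)))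
    (U_four L.fa (e0 ▸ xv_U t)))

omit L h2 in
theorem xa : XAStmt.{u} := fun _ _ _ _ _ _ _ _ _ _ L h2 ⟨_, hx⟩ hI => xa' L h2 hI hx

/-! ### The double cover -/

section two

variable {x0 x1 : F4} (h0 : x0 ≠ 0) (e0 : χ x0 = 1) (h1 : χ x1 ≠ 1)
include h0 e0 h1

theorem χ_cases (x : F4) : χ x = 1 ∨ χ x = χ x1 := by
  have k : ∀ a b x : F4, a ≠ 0 → b ≠ 0 → b ≠ a → x = 0 ∨ x = a ∨ x = b ∨ x = a + b := by decide
  rcases k x0 x1 x h0 (fun e => h1 (e ▸ L.χ0)) (fun e => h1 (e ▸ e0)) with rfl | rfl | rfl | rfl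
  exacts [.inl L.χ0, .inl e0, .inr rfl, .inr (by rw [χadd L h2, e0, one_mul])]

theorem N_c {n : G} (hn : n ∈ D.N) : n * χ x1 * n⁻¹ = χ x1 := by
  have := L.gen _ (conj_A hn (χAA L x1)) (conj_K L.cov.std hn (L.χK x1)) 1
    (by rw [conj_pow, pow_one, h2]; group)
  obtain ⟨x, e⟩ := (H72.ASB.mem_closure_range (χadd L h2)).1 this
  rcases χ_cases L h2 h0 e0 h1 x with e1 | e1
  · exact absurd (conj_eq_one_iff.1 (e.trans e1)) h1
  · exact e.trans e1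

theorem core {g k k3 : G} (hg : g ∉ D.N) (hk : k ∈ D.K) (hk3 : k3 ∈ D.K)
    (e1 : g⁻¹ * χ x1 * g = D.xv 1 * k) (e3 : g * χ x1 * g⁻¹ = D.xv 1 * k3) : False := by
  have hs := L.cov.std
  have hU : ∀ y ∈ D.U, g⁻¹ * y * g ∈ D.N := fun y hy => cent_N' hs (x := g * χ x1 * g⁻¹)
    (by rw [show g⁻¹ * (g * χ x1 * g⁻¹) * g = χ x1 by group]; exact L.χK x1) (by rw [conj_mul, χsq L h2]; group)
    (fun e => h1 (conj_eq_one_iff.1 e)) (by rw [e3, U_vk L h2 hk3 hy])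
  have rN : g⁻¹ * D.rho * g ∉ D.N := fun hr => by
    have a1 := N_c L h2 h0 e0 h1 hr
    have a2 : D.rho * (D.xv 1 * k3) * D.rho⁻¹ = D.xv 1 * k3 := by
      rw [← e3]
      calc _ = g * (g⁻¹ * D.rho * g * χ x1 * (g⁻¹ * D.rho * g)⁻¹) * g⁻¹ := by group
        _ = _ := by rw [a1]
    rw [← mul_assoc, L.rv, mul_assoc (D.xv _), K_comm hk3 rho_A, ← mul_assoc,
      mul_inv_cancel_right] at a2
    exact absurd (vK_inj L hk3 hk3 a2) (by decide)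
  obtain ⟨J, mJ⟩ : ∃ J : Subgroup G, ∀ x, x ∈ J ↔ g⁻¹ * x * g ∈ D.K :=
    ⟨MulAut.conj g • D.K, fun x => mem_conj_smul⟩
  have cJ : χ x1 ∉ J := fun h => hg (te2 hs (L.χK x1) ((mJ _).1 h) (χsq L h2 x1) h1)
  have vU : ∀ s y, D.xv s * χ y ∈ D.U := fun s y => mul_mem (xv_U s) (L.χA y)
  have vmul : ∀ s y s' y', D.xv s * χ y * (D.xv s' * χ y') = D.xv (s + s') * χ (y + y') :=
    fun s y s' y' => by
      rw [L.vv, χadd L h2, mul_assoc, ← mul_assoc (χ y), ← χc L y (vA L s')]; group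
  have rot : ∀ r, r ≠ 0 → ∀ y, D.xv r * χ y ∈ J → D.xv (om ^ 2 * r) * χ y ∈ J → False :=
    fun r hr y a b => by
      have a2 : D.rho * (D.xv r * χ y) * D.rho⁻¹ = D.xv (om ^ 2 * r) * χ y := by
        rw [← mul_assoc, L.rv, mul_assoc (D.xv _), χc L y rho_A, ← mul_assoc, mul_inv_cancel_right]
      rw [← a2] at b
      refine rN (inv_mem_iff.1 (te2 hs ((mJ _).1 a) (g := (g⁻¹ * D.rho * g)⁻¹) ?_ ?_ ?_))
      · have := (mJ _).1 b
        rwa [show (g⁻¹ * D.rho * g)⁻¹⁻¹ * (g⁻¹ * (D.xv r * χ y) * g) * (g⁻¹ * D.rho * g)⁻¹ =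
          g⁻¹ * (D.rho * (D.xv r * χ y) * D.rho⁻¹) * g by group]
      · calc _ = g⁻¹ * (D.xv r * χ y * (D.xv r * χ y)) * g := by group
          _ = 1 := by rw [vk_sq L h2 (L.χK y) (χsq L h2 y)]; group
      · intro e
        refine vk_ne L h2 (L.χK y) hr ?_
        calc _ = g * (g⁻¹ * (D.xv r * χ y) * g) * g⁻¹ := by group
          _ = 1 := by rw [e]; group
  have two : ∀ r r', r ≠ 0 → r' ≠ 0 → r ≠ r' → ∀ y y', χ y = χ y' → D.xv r * χ y ∈ J →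
      D.xv r' * χ y' ∈ J → False := fun r r' a b c y y' e m m' => by
    have k : ∀ r r' : F4, r ≠ 0 → r' ≠ 0 → r ≠ r' → r' = om ^ 2 * r ∨ r = om ^ 2 * r' := by decide
    rcases k r r' a b c with rfl | rfl
    · exact rot _ a y m (e ▸ m')
    · exact rot _ b y (e ▸ m') m
  have J0 : ∀ s s', s ≠ 0 → s' ≠ 0 → ∀ y y', D.xv s * χ y ∈ J → D.xv s' * χ y' ∈ J → s = s' :=
    fun s s' a b y y' m m' => by
      by_contra c
      have k : ∀ s s' : F4, s ≠ 0 → s' ≠ 0 → s ≠ s' → s + s' ≠ 0 ∧ s ≠ s + s' ∧ s' ≠ s + s' := by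
        decide
      obtain ⟨k1, k2, k3⟩ := k s s' a b c
      have m2 := mul_mem m m'
      rw [vmul] at m2
      rcases χ_cases L h2 h0 e0 h1 y with q | q
      · exact two _ _ b k1 k3 _ _ (by rw [χadd L h2, q, one_mul]) m' m2
      rcases χ_cases L h2 h0 e0 h1 y' with q' | q'
      · exact two _ _ a k1 k2 _ _ (by rw [χadd L h2, q', mul_one]) m m2
      · exact two _ _ a b c _ _ (q.trans q'.symm) m m'
  have no1 : ∀ t, (∀ s, ⁅D.xb s, D.xe t⁆ ∈ J) → t = 0 := fun t h => by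
    by_contra t0
    have k : ∀ t : F4, t ≠ 0 → 1 * t ≠ 0 ∧ om * t ≠ 0 ∧ 1 * t ≠ om * t := by decide
    exact (k t t0).2.2 (J0 _ _ (k t t0).1 (k t t0).2.1 _ _ (cbe L h2 _ _ ▸ h 1)
      (cbe L h2 _ _ ▸ h om))
  have no2 : ∀ t, (∀ s, ⁅D.xb t, D.xe s⁆ ∈ J) → t = 0 := fun t h => by
    by_contra t0
    have k : ∀ t : F4, t ≠ 0 → t * 1 ≠ 0 ∧ t * om ≠ 0 ∧ t * 1 ≠ t * om := by decide
    exact (k t t0).2.2 (J0 _ _ (k t t0).1 (k t t0).2.1 _ _ (cbe L h2 _ _ ▸ h 1)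
      (cbe L h2 _ _ ▸ h om))
  have cjJ : ∀ y ∈ D.U, ∀ a ∈ J, y * a * y⁻¹ ∈ J := fun y hy a ha => by
    have := conj_K hs (hU y hy) ((mJ a).1 ha)
    rwa [mJ, show g⁻¹ * (y * a * y⁻¹) * g = g⁻¹ * y * g * (g⁻¹ * a * g) * (g⁻¹ * y * g)⁻¹ by group]
  have cz : ∀ a ∈ D.U, ∀ b ∈ D.U, ∀ s y, ⁅a, b * (D.xv s * χ y)⁆ = ⁅a, b⁆ := fun a ha b hb s y => by
    have := U_vk L h2 (L.χK y) (inv_mem ha) s
    generalize D.xv s * χ y = z at this
    calc ⁅a, b * z⁆ = a * b * (z * a⁻¹) * z⁻¹ * b⁻¹ := by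
          simp only [commutatorElement_def]; group
      _ = _ := by rw [← this, commutatorElement_def]; group
  have Je : ∀ t s y, D.xe t * (D.xv s * χ y) ∈ J → t = 0 := fun t s y m => no1 t fun r => by
    rw [← cz _ (xb_U r) _ (xe_U t) s y]
    exact mul_mem (cjJ _ (xb_U r) _ m) (inv_mem m)
  have Jb : ∀ t s y, D.xb t * (D.xv s * χ y) ∈ J → t = 0 := fun t s y m => no2 t fun r => by
    rw [← commutatorElement_inv, ← cz _ (xe_U r) _ (xb_U t) s y]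
    exact inv_mem (mul_mem (cjJ _ (xe_U r) _ m) (inv_mem m))
  obtain ⟨l, hl⟩ : ∃ l, ∀ s, D.xv s * χ (l * s) ∈ J → s = 0 := by
    by_cases h : ∃ s, s ≠ 0 ∧ D.xv s * χ (0 * s) ∈ J
    · obtain ⟨s0, a, m⟩ := h
      refine ⟨x1 * s0 ^ 2, fun s m' => ?_⟩
      by_contra b
      obtain rfl := J0 _ _ a b _ _ m m'
      have m2 := mul_mem m m'
      have k : ∀ x s : F4, s ≠ 0 → s + s = 0 ∧ 0 * s + x * s ^ 2 * s = x := by decide
      rw [vmul, (k x1 _ a).1, (k x1 _ a).2, one_of_add L.vv, one_mul] at m2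
      exact cJ m2
    · exact ⟨0, fun s m => by_contra fun b => h ⟨s, b, m⟩⟩
  obtain ⟨f, hf⟩ : ∃ f : G → H, ∀ x, f x = p (g⁻¹ * x * g) := ⟨_, fun _ => rfl⟩
  have fmul : ∀ a ∈ D.U, ∀ b ∈ D.U, f (a * b) = f a * f b := fun a ha b hb => by
    rw [hf, hf, hf, ← L.cov.mul _ (hU a ha) _ (hU b hb)]
    congr 1
    group
  have fker : ∀ a ∈ D.U, f a = 1 ↔ a ∈ J := fun a ha => by
    rw [hf, mJ]; exact L.cov.ker _ (hU a ha)
  have fcm : ∀ a ∈ D.U, ∀ b ∈ D.U, f ⁅a, b⁆ = ⁅f a, f b⁆ := fun a ha b hb => by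
    rw [hf, hf, hf, ← L.cov.cm (hU a ha) (hU b hb)]
    congr 1
    simp only [commutatorElement_def]
    group
  have fc : f (χ x1) = B.xv 1 := by
    rw [hf, e1, L.cov.mulK (le_normalizer (vA L 1)) hk, L.pv]
  have key : ∀ x : F4 → G, (∀ s t, x (s + t) = x s * x t) → (∀ t, x t ∈ D.U) →
      (∀ t s y, x t * (D.xv s * χ y) ∈ J → t = 0) → ∃ F : Subgroup H, (F = B.E1 ∨ F = B.E2) ∧
        ∀ z, z ∈ F ↔ ∃ t s, f (x t * (D.xv s * χ (l * s))) = z := fun x xa xU xJ => by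
    have mU : ∀ t s, x t * (D.xv s * χ (l * s)) ∈ D.U := fun t s => mul_mem (xU t) (vU _ _)
    have pm : ∀ t s t' s', x t * (D.xv s * χ (l * s)) * (x t' * (D.xv s' * χ (l * s'))) =
        x (t + t') * (D.xv (s + s') * χ (l * (s + s'))) := fun t s t' s' => by
      rw [xa, mul_add, ← vmul, mul_assoc, ← mul_assoc _ (x t'), ← U_vk L h2 (L.χK _) (xU t')]
      group
    let θ : Multiplicative (F4 × F4) →* H := MonoidHom.mk'
      (fun a => f (x a.toAdd.1 * (D.xv a.toAdd.2 * χ (l * a.toAdd.2)))) fun a b => by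
        rw [← fmul _ (mU _ _) _ (mU _ _), pm]; rfl
    have inj : Function.Injective θ := (injective_iff_map_eq_one θ).2 fun a ha => by
      have m := (fker _ (mU _ _)).1 ha
      have t0 := xJ _ _ _ m
      rw [t0, one_of_add xa, one_mul] at m
      exact Multiplicative.toAdd.injective (Prod.ext t0 (hl _ m))
    refine ⟨θ.range, rk H B L.fa (BK L) _ (fun z _ => allN L z) ?_ ?_ ?_, fun z =>
      ⟨fun ⟨a, e⟩ => ⟨_, _, e⟩, fun ⟨t, s, e⟩ => ⟨Multiplicative.ofAdd (t, s), e⟩⟩⟩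
    · rintro _ ⟨a, rfl⟩
      refine H65.AL.NV_of L.fa.rel L.fa.glob (allN L _) ?_
      change f _ * _ = _ * f _
      rw [← fc, ← fmul _ (mU _ _) _ (L.χA _), ← fmul _ (L.χA _) _ (mU _ _), χc L _ (UA L (mU _ _))]
    · rintro _ ⟨a, rfl⟩
      have k : ∀ a : F4 × F4, a + a = 0 := by decide
      rw [← map_mul, show a * a = 1 from k a.toAdd, map_one]
    · have := Nat.card_congr (MonoidHom.ofInjective inj).toEquiv
      rw [← this, Nat.card_congr Multiplicative.toAdd, Nat.card_prod, H76.Al.card_F4]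
  obtain ⟨F1, q1, m1⟩ := key D.xe L.ee xe_U Je
  obtain ⟨F2, q2, m2⟩ := key D.xb L.bb xb_U Jb
  have z0 : D.xv 0 * χ (l * 0) = 1 := by rw [mul_zero, L.χ0, one_of_add L.vv, mul_one]
  have eF : ∀ t, f (D.xe t) ∈ F1 := fun t => (m1 _).2 ⟨t, 0, by rw [z0, mul_one]⟩
  have bF : ∀ t, f (D.xb t) ∈ F2 := fun t => (m2 _).2 ⟨t, 0, by rw [z0, mul_one]⟩
  obtain ⟨t, s, e⟩ := (m1 (B.xv 1)).1 (by
    rcases q1 with rfl | rfl
    exacts [xv_E1 1, xv_E2 1])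
  have m : D.xe t * (D.xv s * χ (l * s + x1)) ∈ J := by
    rw [← fker _ (mul_mem (xe_U t) (vU _ _)), χadd L h2, ← mul_assoc (D.xv s), ← mul_assoc,
      fmul _ (mul_mem (xe_U t) (vU _ _)) _ (L.χA _), e, fc, v_sq L.fa.rel]
  obtain rfl := Je _ _ _ m
  rw [one_of_add L.ee, one_mul] at m
  have s0 : s ≠ 0 := by
    rintro rfl
    rw [mul_zero, zero_add, one_of_add L.vv, one_mul] at m
    exact cJ m
  obtain ⟨x, hx, ex⟩ : ∃ x, x ≠ 0 ∧ χ (l * s + x1) = χ x := by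
    rcases χ_cases L h2 h0 e0 h1 (l * s + x1) with q | q
    · exact ⟨x0, h0, q.trans e0.symm⟩
    · exact ⟨x1, fun e => h1 (e ▸ L.χ0), q⟩
  have k : ∀ s x : F4, s ≠ 0 → x ≠ 0 → ∃ a b, a ≠ 0 ∧ b ≠ 0 ∧ a * b = s ∧ a * b ^ 2 = x := by decide
  obtain ⟨a, b, a0, b0, rfl, rfl⟩ := k s x s0 hx
  rw [ex, ← cbe L h2, ← fker _ (cmm (xb_U a) (xe_U b)), fcm _ (xb_U a) _ (xe_U b)] at m
  rcases cross L.fa.rel q2 q1 (bF a) (eF b) m with h | h
  · exact a0 (no2 a fun r => (fker _ (cmm (xb_U a) (xe_U r))).1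
      ((fcm _ (xb_U a) _ (xe_U r)).trans (h _ (eF r))))
  · exact b0 (no1 b fun r => (fker _ (cmm (xb_U r) (xe_U b))).1
      ((fcm _ (xb_U r) _ (xe_U b)).trans (h _ (bF r))))

end two

omit L h2 in
theorem x2 : X2Stmt.{u} := by
  rintro G H _ _ _ _ D B p χ L h2 ⟨x1, h1⟩ ⟨x0, h0, e0⟩ hI
  obtain ⟨g, hg, -, ⟨k, hk, e1⟩, hU⟩ := step1 L h2 hI h1
  obtain ⟨y, hy, k3, hk3, e3⟩ := adj L h2 (g := g⁻¹) (fun h => hg (inv_mem_iff.1 h))
    (fun y hy => by simpa using hU y hy) h1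
  refine core L h2 h0 e0 h1 (g := y * g)
    (fun h => hg ((mul_mem_cancel_left (le_normalizer hy)).1 h)) hk hk3 ?_ ?_
  · rw [← e1]
    calc _ = g⁻¹ * (y⁻¹ * (χ x1 * y)) * g := by group
      _ = _ := by rw [← χc L x1 hy]; group
  · rw [← e3]; group

end Cfsg.Agent.H50.AC
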