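import Mathlib
import Cfsg.Agent.H50.Models

/-! Stars, the fourth leaf of a claw, and local connectedness. -/

set_option autoImplicit false

namespace Cfsg.Agent.H50

open Cfsg

variable {G : Type*} [Group G] {E : Set G}

theorem leaf_aux_1 {D : Set G} (hD : FS D)  {c p q r : G}
    (hc : c ∈ D) (hp : p ∈ D) (hq : q ∈ D) (hr : r ∈ D)
    (h1 : ¬ Commute c p)
    (h2 : ¬ Commute c q)
    (h3 : ¬ Commute c r)
    (h4 : Commute p q)
    (h5 : p ≠ q)
    (h6 : Commute p r)
    (h7 : p ≠ r)
    (h8 : Commute q r)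
    (h9 : q ≠ r)
    : Commute ((p * c * p) * ((q * c * q) * r * (q * c * q)) * (p * c * p)) p := by
  exact ((commute_iff_conj_eq (hD.sq _ (hD.conj _ (hD.conj _ hp _ hc) _ (hD.conj _ (hD.conj _ hq _ hc) _ hr)))).2 (Eng.check_sound hD (R := Eng.R0) (X := Eng.X0) Eng.X0_sound [c, p, q, r, (p * c * p), (q * c * q), ((q * c * q) * r * (q * c * q)), ((p * c * p) * ((q * c * q) * r * (q * c * q)) * (p * c * p)), (q * (p * c * p) * q), (r * (q * (p * c * p) * q) * r)]
    (by simp only [List.forall_mem_cons]; exact ⟨hc, hp, hq, hr, (hD.conj _ hp _ hc), (hD.conj _ hq _ hc), (hD.conj _ (hD.conj _ hq _ hc) _ hr), (hD.conj _ (hD.conj _ hp _ hc) _ (hD.conj _ (hD.conj _ hq _ hc) _ hr)), (hD.conj _ hq _ (hD.conj _ hp _ hc)), (hD.conj _ hr _ (hD.conj _ hq _ (hD.conj _ hp _ hc))), by simp⟩) (by simp) 10 0x0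
    0x1300014000130000905000400401c000120000c000120000805000000001800001000110000d000060500040000100000f0001000002000070500000080140000000000000000000e0300040100000000000000000070000b0a0014008000000000000000000000070300000140080000000000000060000a0a0010004000000000000000000000060300000100040000000000000000000504000800800c00000000000000000004090000000009000000000000000000030900000000050000000000000000000000001c0180100000000000000000000000001800c01400000000000000000000000014000008000000000000000000000000100000040000000000000000000000000c00c0080000000000000000000000000000800100000000000000000000000000004001000000000000000000000200080080080000000000000000000002000400400400000000000000000000020000000000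
    22 rfl [(1, 0, 1, 0), (1, 0, 2, 0), (0, 2, 3, 3), (0, 1, 0, 4), (0, 2, 0, 5), (0, 5, 3, 6), (0, 4, 6, 7)] [(0, 7, 1, 1)] [21]
    ⟨hD.br _ hc _ hp h1, hD.br _ hc _ hq h2, (commute_iff_conj_eq (hD.sq _ hq)).1 h8, rfl, rfl, rfl, rfl, trivial⟩ (by decide +kernel)).1)

theorem leaf_aux_2 {D : Set G} (hD : FS D)  {c p q r : G}
    (hc : c ∈ D) (hp : p ∈ D) (hq : q ∈ D) (hr : r ∈ D)
    (h1 : ¬ Commute c p)
    (h2 : ¬ Commute c q)
    (h3 : ¬ Commute c r)
    (h4 : Commute p q)
    (h5 : p ≠ q)
    (h6 : Commute p r)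
    (h7 : p ≠ r)
    (h8 : Commute q r)
    (h9 : q ≠ r)
    : Commute ((p * c * p) * ((q * c * q) * r * (q * c * q)) * (p * c * p)) q := by
  exact ((commute_iff_conj_eq (hD.sq _ (hD.conj _ (hD.conj _ hp _ hc) _ (hD.conj _ (hD.conj _ hq _ hc) _ hr)))).2 (Eng.check_sound hD (R := Eng.R0) (X := Eng.X0) Eng.X0_sound [c, p, q, r, (p * c * p), (q * c * q), ((q * c * q) * r * (q * c * q)), ((p * c * p) * ((q * c * q) * r * (q * c * q)) * (p * c * p)), (q * (p * c * p) * q), (r * (q * (p * c * p) * q) * r)]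
    (by simp only [List.forall_mem_cons]; exact ⟨hc, hp, hq, hr, (hD.conj _ hp _ hc), (hD.conj _ hq _ hc), (hD.conj _ (hD.conj _ hq _ hc) _ hr), (hD.conj _ (hD.conj _ hp _ hc) _ (hD.conj _ (hD.conj _ hq _ hc) _ hr)), (hD.conj _ hq _ (hD.conj _ hp _ hc)), (hD.conj _ hr _ (hD.conj _ hq _ (hD.conj _ hp _ hc))), by simp⟩) (by simp) 10 0x0
    0x1300012000130000805000800801c000000000000000000110300080200100000f0000c0000f00007050020020018000000000000009000100a00200080100000000000000000000e090000010009000090000d0000b00006050020004014000000000300005000020c00000080110000000000000050000a0a00100040000000000000000000000404000400400c0000000000000000000304000400400800000000000000000001090000000005000000000000000000000000200100080000000000000000000000001c0180100000000000000000000000001800c01400000000000000000000000014000008000000000000000000000000100000040000000000000000000000000c00c00400000000000000000000000008008004000000000000000000000000000080010000000000000000000000000000400100000000000000000000020000000000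
    21 rfl [(1, 0, 1, 0), (1, 0, 2, 0), (0, 1, 2, 2), (0, 1, 3, 3), (0, 1, 0, 4), (0, 2, 0, 5), (0, 5, 3, 6), (0, 4, 6, 7), (0, 2, 4, 8)] [(0, 7, 2, 2)] [20]
    ⟨hD.br _ hc _ hp h1, hD.br _ hc _ hq h2, (commute_iff_conj_eq (hD.sq _ hp)).1 h4, (commute_iff_conj_eq (hD.sq _ hp)).1 h6, rfl, rfl, rfl, rfl, rfl, trivial⟩ (by decide +kernel)).1)

theorem leaf_aux_3 {D : Set G} (hD : FS D)  {c p q r : G}
    (hc : c ∈ D) (hp : p ∈ D) (hq : q ∈ D) (hr : r ∈ D)
    (h1 : ¬ Commute c p)
    (h2 : ¬ Commute c q)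
    (h3 : ¬ Commute c r)
    (h4 : Commute p q)
    (h5 : p ≠ q)
    (h6 : Commute p r)
    (h7 : p ≠ r)
    (h8 : Commute q r)
    (h9 : q ≠ r)
    : Commute ((p * c * p) * ((q * c * q) * r * (q * c * q)) * (p * c * p)) r := by
  exact ((commute_iff_conj_eq (hD.sq _ (hD.conj _ (hD.conj _ hp _ hc) _ (hD.conj _ (hD.conj _ hq _ hc) _ hr)))).2 (Eng.check_sound hD (R := Eng.R0) (X := Eng.X0) Eng.X0_sound [c, p, q, r, (p * c * p), (q * c * q), ((q * c * q) * r * (q * c * q)), ((p * c * p) * ((q * c * q) * r * (q * c * q)) * (p * c * p)), (q * (p * c * p) * q), (r * (q * (p * c * p) * q) * r)]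
    (by simp only [List.forall_mem_cons]; exact ⟨hc, hp, hq, hr, (hD.conj _ hp _ hc), (hD.conj _ hq _ hc), (hD.conj _ (hD.conj _ hq _ hc) _ hr), (hD.conj _ (hD.conj _ hp _ hc) _ (hD.conj _ (hD.conj _ hq _ hc) _ hr)), (hD.conj _ hq _ (hD.conj _ hp _ hc)), (hD.conj _ hr _ (hD.conj _ hq _ (hD.conj _ hp _ hc))), by simp⟩) (by simp) 10 0x0
    0x1800015000180001905000c00c01c00000000000000b000170a001c0100180001300016000080000a05000c014018000000000a00014000100c000001801100000000000000a000120a001801400c0001100004000110000f0500140140100000f0000e0000f000110500100100140000000000000000000a03000c018014000000000600009000030c000000c0150000000000000090000d0a0014008000000000000500007000030c000000c0110000000000000070000c0a00100040000000000000000000000404000400400800000000000000000002090000000009000000000000000000010900000000050000000000000000000000001c0180100000000000000000000000001800c0140000000000000000000000001400000800000000000000000000020014014014000000000000000000000000100000040000000000000000000000000c00c0080000000000000000000000000c00c004000000000000000000000000080080040000000000000000000000000000c001000000000000000000000000000080010000000000000000000000000000400100000000000000000000020000000000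
    27 rfl [(1, 0, 1, 0), (1, 0, 2, 0), (1, 0, 3, 0), (0, 1, 2, 2), (0, 1, 3, 3), (0, 2, 3, 3), (0, 1, 0, 4), (0, 2, 0, 5), (0, 5, 3, 6), (0, 4, 6, 7)] [(0, 7, 3, 3)] [26]
    ⟨hD.br _ hc _ hp h1, hD.br _ hc _ hq h2, hD.br _ hc _ hr h3, (commute_iff_conj_eq (hD.sq _ hp)).1 h4, (commute_iff_conj_eq (hD.sq _ hp)).1 h6, (commute_iff_conj_eq (hD.sq _ hq)).1 h8, rfl, rfl, rfl, rfl, trivial⟩ (by decide +kernel)).1)

theorem leaf_aux_4 {D : Set G} (hD : FS D)  {c p q r : G}
    (hc : c ∈ D) (hp : p ∈ D) (hq : q ∈ D) (hr : r ∈ D)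
    (h1 : ¬ Commute c p)
    (h2 : ¬ Commute c q)
    (h3 : ¬ Commute c r)
    (h4 : Commute p q)
    (h5 : p ≠ q)
    (h6 : Commute p r)
    (h7 : p ≠ r)
    (h8 : Commute q r)
    (h9 : q ≠ r)
    : ((p * c * p) * ((q * c * q) * r * (q * c * q)) * (p * c * p)) ≠ p := by
  exact ((Eng.check_sound hD (R := Eng.R0) (X := Eng.X0) Eng.X0_sound [c, p, q, r, (p * c * p), (q * c * q), ((q * c * q) * r * (q * c * q)), ((p * c * p) * ((q * c * q) * r * (q * c * q)) * (p * c * p)), (q * (p * c * p) * q), (r * (q * (p * c * p) * q) * r)]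
    (by simp only [List.forall_mem_cons]; exact ⟨hc, hp, hq, hr, (hD.conj _ hp _ hc), (hD.conj _ hq _ hc), (hD.conj _ (hD.conj _ hq _ hc) _ hr), (hD.conj _ (hD.conj _ hp _ hc) _ (hD.conj _ (hD.conj _ hq _ hc) _ hr)), (hD.conj _ hq _ (hD.conj _ hp _ hc)), (hD.conj _ hr _ (hD.conj _ hq _ (hD.conj _ hp _ hc))), by simp⟩) (by simp) 10 0x0
    0x140e000000401e000000000900012000130f000001c006000000000800011000050f000001800200001000100000c000060500040000100000e0000f00002000070500000080140000000000000000000d0300040100000000000000000070000b0a0014008000000000000000000000070300000140080000000000000060000a0a00100040000000000000000000000603000001000400000000000000000004090000000009000000000000000000030900000000050000000000000000000000001c0180100000000000000000000000001800c01400000000000000000000000014000008000000000000000000000000100000040000000000000000000000000000c00a0000000000000000000000000000800100000000000000000000000000004001000000000000000000000200080080080000000000000000000002000400400400000000000000000000020000000000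
    22 rfl [(1, 0, 1, 0), (1, 0, 2, 0), (2, 2, 3, 0), (0, 1, 0, 4), (0, 2, 0, 5), (0, 5, 3, 6), (0, 4, 6, 7)] [(2, 7, 1, 0)] [21]
    ⟨hD.br _ hc _ hp h1, hD.br _ hc _ hq h2, h9, rfl, rfl, rfl, rfl, trivial⟩ (by decide +kernel)).1)

theorem leaf_aux_5 {D : Set G} (hD : FS D)  {c p q r : G}
    (hc : c ∈ D) (hp : p ∈ D) (hq : q ∈ D) (hr : r ∈ D)
    (h1 : ¬ Commute c p)
    (h2 : ¬ Commute c q)
    (h3 : ¬ Commute c r)
    (h4 : Commute p q)
    (h5 : p ≠ q)
    (h6 : Commute p r)
    (h7 : p ≠ r)
    (h8 : Commute q r)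
    (h9 : q ≠ r)
    : ((p * c * p) * ((q * c * q) * r * (q * c * q)) * (p * c * p)) ≠ q := by
  exact ((Eng.check_sound hD (R := Eng.R0) (X := Eng.X0) Eng.X0_sound [c, p, q, r, (p * c * p), (q * c * q), ((q * c * q) * r * (q * c * q)), ((p * c * p) * ((q * c * q) * r * (q * c * q)) * (p * c * p)), (q * (p * c * p) * q), (r * (q * (p * c * p) * q) * r)]
    (by simp only [List.forall_mem_cons]; exact ⟨hc, hp, hq, hr, (hD.conj _ hp _ hc), (hD.conj _ hq _ hc), (hD.conj _ (hD.conj _ hq _ hc) _ hr), (hD.conj _ (hD.conj _ hp _ hc) _ (hD.conj _ (hD.conj _ hq _ hc) _ hr)), (hD.conj _ hq _ (hD.conj _ hp _ hc)), (hD.conj _ hr _ (hD.conj _ hq _ (hD.conj _ hp _ hc))), by simp⟩) (by simp) 10 0x0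
    0x130e000000801e000000000800012000110f000001c00a0000000000000000001003000802001000000000070000e000040f00000180220000000000000090000f0a00200080100000000000000000000d090000010009000090000c0000b00006050020004014000000000300005000020c00000080110000000000000050000a0a00100040000000000000000000000304000400400800000000000000000001090000000005000000000000000000000000200100080000000000000000000000001c0180100000000000000000000000001800c01400000000000000000000000014000008000000000000000000000000100000040000000000000000000000000000c00600000000000000000000000008008004000000000000000000000000000080010000000000000000000000000000400100000000000000000000020000000000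
    21 rfl [(1, 0, 1, 0), (1, 0, 2, 0), (0, 1, 2, 2), (2, 1, 3, 0), (0, 1, 0, 4), (0, 2, 0, 5), (0, 5, 3, 6), (0, 4, 6, 7), (0, 2, 4, 8)] [(2, 7, 2, 0)] [20]
    ⟨hD.br _ hc _ hp h1, hD.br _ hc _ hq h2, (commute_iff_conj_eq (hD.sq _ hp)).1 h4, h7, rfl, rfl, rfl, rfl, rfl, trivial⟩ (by decide +kernel)).1)

theorem leaf_aux_6 {D : Set G} (hD : FS D)  {c p q r : G}
    (hc : c ∈ D) (hp : p ∈ D) (hq : q ∈ D) (hr : r ∈ D)
    (h1 : ¬ Commute c p)
    (h2 : ¬ Commute c q)
    (h3 : ¬ Commute c r)
    (h4 : Commute p q)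
    (h5 : p ≠ q)
    (h6 : Commute p r)
    (h7 : p ≠ r)
    (h8 : Commute q r)
    (h9 : q ≠ r)
    : ((p * c * p) * ((q * c * q) * r * (q * c * q)) * (p * c * p)) ≠ r := by
  exact ((Eng.check_sound hD (R := Eng.R0) (X := Eng.X0) Eng.X0_sound [c, p, q, r, (p * c * p), (q * c * q), ((q * c * q) * r * (q * c * q)), ((p * c * p) * ((q * c * q) * r * (q * c * q)) * (p * c * p)), (q * (p * c * p) * q), (r * (q * (p * c * p) * q) * r)]
    (by simp only [List.forall_mem_cons]; exact ⟨hc, hp, hq, hr, (hD.conj _ hp _ hc), (hD.conj _ hq _ hc), (hD.conj _ (hD.conj _ hq _ hc) _ hr), (hD.conj _ (hD.conj _ hp _ hc) _ (hD.conj _ (hD.conj _ hq _ hc) _ hr)), (hD.conj _ hq _ (hD.conj _ hp _ hc)), (hD.conj _ hr _ (hD.conj _ hq _ (hD.conj _ hp _ hc))), by simp⟩) (by simp) 10 0x0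
    0x1b0001c000180f000000c01e00000000000000c0001a0a001c0100180001500019000090000b05000c014018000000000b00017000120c000001801100000000000000b000140a001801400c000000000000000000160e0000014012000110000f0001100013050010010014000000001100013000100f00000100160000000000000000000b03000c01801400000000070000a000030c000000c01500000000000000a0000e0a0014008000000000000600008000030c000000c0110000000000000080000d0a0010004000000000000000000000050e000000400a0000000000000000000404000400400800000000000000000002090000000009000000000000000000010900000000050000000000000000000000001c0180100000000000000000000000001800c0140000000000000000000000001400000800000000000000000000020014014014000000000000000000000000100000040000000000000000000000000c00c0080000000000000000000000000c00c00400000000000000000000000000008006000000000000000000000000080080040000000000000000000000000000c001000000000000000000000000000080010000000000000000000000000000400100000000000000000000020000000000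
    30 rfl [(1, 0, 1, 0), (1, 0, 2, 0), (1, 0, 3, 0), (0, 1, 2, 2), (2, 1, 2, 0), (0, 1, 3, 3), (0, 2, 3, 3), (0, 1, 0, 4), (0, 2, 0, 5), (0, 5, 3, 6), (0, 4, 6, 7)] [(2, 7, 3, 0)] [29]
    ⟨hD.br _ hc _ hp h1, hD.br _ hc _ hq h2, hD.br _ hc _ hr h3, (commute_iff_conj_eq (hD.sq _ hp)).1 h4, h5, (commute_iff_conj_eq (hD.sq _ hp)).1 h6, (commute_iff_conj_eq (hD.sq _ hq)).1 h8, rfl, rfl, rfl, rfl, trivial⟩ (by decide +kernel)).1)

theorem leaf_aux_7 {D : Set G} (hD : FS D)  {c p q r : G}
    (hc : c ∈ D) (hp : p ∈ D) (hq : q ∈ D) (hr : r ∈ D)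
    (h1 : ¬ Commute c p)
    (h2 : ¬ Commute c q)
    (h3 : ¬ Commute c r)
    (h4 : Commute p q)
    (h5 : p ≠ q)
    (h6 : Commute p r)
    (h7 : p ≠ r)
    (h8 : Commute q r)
    (h9 : q ≠ r)
    (h10 : Commute c ((p * c * p) * ((q * c * q) * r * (q * c * q)) * (p * c * p)))
    : False := by
  exact (Eng.check_false hD (R := Eng.R0) (X := Eng.X0) Eng.X0_sound [c, p, q, r, (p * c * p), (q * c * q), ((q * c * q) * r * (q * c * q)), ((p * c * p) * ((q * c * q) * r * (q * c * q)) * (p * c * p)), (q * (p * c * p) * q), (r * (q * (p * c * p) * q) * r)]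
    (by simp only [List.forall_mem_cons]; exact ⟨hc, hp, hq, hr, (hD.conj _ hp _ hc), (hD.conj _ hq _ hc), (hD.conj _ (hD.conj _ hq _ hc) _ hr), (hD.conj _ (hD.conj _ hp _ hc) _ (hD.conj _ (hD.conj _ hq _ hc) _ hr)), (hD.conj _ hq _ (hD.conj _ hp _ hc)), (hD.conj _ hr _ (hD.conj _ hq _ (hD.conj _ hp _ hc))), by simp⟩) (by simp) 10 0x0
    0x230002108000001801a0000000000000220001f070018024024000180000e000180001e050018018004000000000000000000200e0000018026000000000d0001d0001a0f000002401a0000d0001b0001d00012050024018004000010001c000130000805000400001000000000000000a000170a001801400c000000000000000000140300040100000000c000080000900011050020014004000000000000000000190e000002001600000000090000c000160f00000140220000000000000000000b03001801c010000000000700009000040c000000c015000000000000000000150e00000000120000000008000100000f1200000100020000000000000080000f0a0010004000000000000000000000080300000100040000000000000000000604000400400c00000000000000000005040004004008000000000000000000030e0000000006000000000000000000020900000000050000000000000000000000001c01c0000000000000000000000000002402000c000000000000000000000000200100080000000000000000000000001c0180100000000000000000000000001800c01400000000000000000000000014000008000000000000000000000000100000040000000000000000000000000c00c0080000000000000000000000000c00c004000000000000000000000000080080040000000000000000000000000000c00100000000000000000000000000004002000000000000000000000000000040010000000000000000000002000400400400000000000000000000020000000000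
    37 rfl [(1, 0, 1, 0), (2, 0, 1, 0), (1, 0, 3, 0), (0, 1, 2, 2), (0, 1, 3, 3), (0, 2, 3, 3), (0, 1, 0, 4), (0, 2, 0, 5), (0, 5, 3, 6), (0, 4, 6, 7), (0, 2, 4, 8), (0, 3, 8, 9), (0, 0, 7, 7)] 36
    ⟨hD.br _ hc _ hp h1, ne_of_not_commute h1, hD.br _ hc _ hr h3, (commute_iff_conj_eq (hD.sq _ hp)).1 h4, (commute_iff_conj_eq (hD.sq _ hp)).1 h6, (commute_iff_conj_eq (hD.sq _ hq)).1 h8, rfl, rfl, rfl, rfl, rfl, rfl, (commute_iff_conj_eq (hD.sq _ hc)).1 h10, trivial⟩ (by decide +kernel)).elim

theorem leaf_aux_8 {D : Set G} (hD : FS D)  {c p q r : G}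
    (hc : c ∈ D) (hp : p ∈ D) (hq : q ∈ D) (hr : r ∈ D)
    (h1 : ¬ Commute c p)
    (h2 : ¬ Commute c q)
    (h3 : ¬ Commute c r)
    (h4 : Commute p q)
    (h5 : p ≠ q)
    (h6 : Commute p r)
    (h7 : p ≠ r)
    (h8 : Commute q r)
    (h9 : q ≠ r)
    : ((p * c * p) * ((q * c * q) * r * (q * c * q)) * (p * c * p)) * c * ((p * c * p) * ((q * c * q) * r * (q * c * q)) * (p * c * p)) = (r * (q * (p * c * p) * q) * r) := by
  exact ((Eng.check_sound hD (R := Eng.R0) (X := Eng.X0) Eng.X0_sound [c, p, q, r, (p * c * p), (q * c * q), ((q * c * q) * r * (q * c * q)), ((p * c * p) * ((q * c * q) * r * (q * c * q)) * (p * c * p)), (q * (p * c * p) * q), (r * (q * (p * c * p) * q) * r)]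
    (by simp only [List.forall_mem_cons]; exact ⟨hc, hp, hq, hr, (hD.conj _ hp _ hc), (hD.conj _ hq _ hc), (hD.conj _ (hD.conj _ hq _ hc) _ hr), (hD.conj _ (hD.conj _ hp _ hc) _ (hD.conj _ (hD.conj _ hq _ hc) _ hr)), (hD.conj _ hq _ (hD.conj _ hp _ hc)), (hD.conj _ hr _ (hD.conj _ hq _ (hD.conj _ hp _ hc))), by simp⟩) (by simp) 10 0x0
    0x220001f000210002305002400001c00000000000000c000200a001c0100180000e0001b000120001e0500240040180001d000130001d0000b050000000018000000000b0001c000160c0000018011000010001a000140000905000400001000000000000000b000190a001801400c0001700018000020000a050000008014000150001100015000180500100100140000d00015000110000a0500200040140000000000000000001503000401000000000000080000a000050c000000c01500000000000000a000100a00140080000000000000000000000a030000014008000000000700009000050c000000c0110000000000000090000f0a0010004000000000000000000000090300000100040000000000000000000804000800800c0000000000000000000704000400400c00000000000000000006040004004008000000000000000000040900000000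09000000000000000000030900000000050000000000000000000000002402000c000000000000000000000000200100080000000000000000000000001c0180100000000000000000000000001800c01400000000000000000000000014000008000000000000000000000000100000040000000000000000000000000c00c0080000000000000000000000000c00c004000000000000000000000000080080040000000000000000000000000000c0010000000000000000000000000000800100000000000000000000000000004001000000000000000000000200080080080000000000000000000002000400400400000000000000000000020000000000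
    37 rfl [(1, 0, 1, 0), (1, 0, 2, 0), (1, 0, 3, 0), (0, 1, 2, 2), (0, 1, 3, 3), (0, 2, 3, 3), (0, 1, 0, 4), (0, 2, 0, 5), (0, 5, 3, 6), (0, 4, 6, 7), (0, 2, 4, 8), (0, 3, 8, 9)] [(0, 7, 0, 9)] [36]
    ⟨hD.br _ hc _ hp h1, hD.br _ hc _ hq h2, hD.br _ hc _ hr h3, (commute_iff_conj_eq (hD.sq _ hp)).1 h4, (commute_iff_conj_eq (hD.sq _ hp)).1 h6, (commute_iff_conj_eq (hD.sq _ hq)).1 h8, rfl, rfl, rfl, rfl, rfl, rfl, trivial⟩ (by decide +kernel)).1)

theorem leaf_aux {D : Set G} (hD : FS D)  {c p q r : G}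
    (hc : c ∈ D) (hp : p ∈ D) (hq : q ∈ D) (hr : r ∈ D)
    (h1 : ¬ Commute c p)
    (h2 : ¬ Commute c q)
    (h3 : ¬ Commute c r)
    (h4 : Commute p q)
    (h5 : p ≠ q)
    (h6 : Commute p r)
    (h7 : p ≠ r)
    (h8 : Commute q r)
    (h9 : q ≠ r)
    : (Commute ((p * c * p) * ((q * c * q) * r * (q * c * q)) * (p * c * p)) p) ∧
      (Commute ((p * c * p) * ((q * c * q) * r * (q * c * q)) * (p * c * p)) q) ∧
      (Commute ((p * c * p) * ((q * c * q) * r * (q * c * q)) * (p * c * p)) r) ∧
      (((p * c * p) * ((q * c * q) * r * (q * c * q)) * (p * c * p)) ≠ p) ∧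
      (((p * c * p) * ((q * c * q) * r * (q * c * q)) * (p * c * p)) ≠ q) ∧
      (((p * c * p) * ((q * c * q) * r * (q * c * q)) * (p * c * p)) ≠ r) ∧
      (¬ Commute c ((p * c * p) * ((q * c * q) * r * (q * c * q)) * (p * c * p))) ∧
      (((p * c * p) * ((q * c * q) * r * (q * c * q)) * (p * c * p)) * c * ((p * c * p) * ((q * c * q) * r * (q * c * q)) * (p * c * p)) = (r * (q * (p * c * p) * q) * r)) :=
  ⟨leaf_aux_1 hD  hc hp hq hr h1 h2 h3 h4 h5 h6 h7 h8 h9,
    leaf_aux_2 hD  hc hp hq hr h1 h2 h3 h4 h5 h6 h7 h8 h9,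
    leaf_aux_3 hD  hc hp hq hr h1 h2 h3 h4 h5 h6 h7 h8 h9,
    leaf_aux_4 hD  hc hp hq hr h1 h2 h3 h4 h5 h6 h7 h8 h9,
    leaf_aux_5 hD  hc hp hq hr h1 h2 h3 h4 h5 h6 h7 h8 h9,
    leaf_aux_6 hD  hc hp hq hr h1 h2 h3 h4 h5 h6 h7 h8 h9,
    leaf_aux_7 hD  hc hp hq hr h1 h2 h3 h4 h5 h6 h7 h8 h9,
    leaf_aux_8 hD  hc hp hq hr h1 h2 h3 h4 h5 h6 h7 h8 h9⟩


theorem sw_aux_1 {D : Set G} (hD : FS D)  {c p q : G}
    (hc : c ∈ D) (hp : p ∈ D) (hq : q ∈ D)
    (h1 : ¬ Commute c p)
    (h2 : ¬ Commute c q)
    (h3 : Commute p q)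
    (h4 : p ≠ q)
    : (p * c * p) * ((q * c * q) * p * (q * c * q)) * (p * c * p) = q := by
  exact ((Eng.check_sound hD (R := Eng.R0) (X := Eng.X0) Eng.X0_sound [c, p, q, (p * c * p), (q * c * q), ((q * c * q) * p * (q * c * q)), ((q * c * q) * q * (q * c * q))]
    (by simp only [List.forall_mem_cons]; exact ⟨hc, hp, hq, (hD.conj _ hp _ hc), (hD.conj _ hq _ hc), (hD.conj _ (hD.conj _ hq _ hc) _ hp), (hD.conj _ (hD.conj _ hq _ hc) _ hq), by simp⟩) (by simp) 7 0x0
    0x30000c0000e0000405000801400c0000000000000060000d0a00140100040000000000000000000b0900000040110000000000000000000a030008010000000000000500009000070c0000010005000000000000005000080a001000800000000000000000000003040004004008000000000000000000020900000000090000000000000000000109000000000500000000000000000000000014004010000000000000000000000000100000080000000000000000000000000c00000400000000000000000000000008008004000000000000000000000000000080010000000000000000000000000000400100000000000000000000020000000000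
    16 rfl [(1, 0, 1, 0), (1, 0, 2, 0), (0, 1, 2, 2), (0, 1, 0, 3), (0, 2, 0, 4), (0, 4, 1, 5)] [(0, 3, 5, 2)] [15]
    ⟨hD.br _ hc _ hp h1, hD.br _ hc _ hq h2, (commute_iff_conj_eq (hD.sq _ hp)).1 h3, rfl, rfl, rfl, trivial⟩ (by decide +kernel)).1)

theorem sw_aux_2 {D : Set G} (hD : FS D)  {c p q : G}
    (hc : c ∈ D) (hp : p ∈ D) (hq : q ∈ D)
    (h1 : ¬ Commute c p)
    (h2 : ¬ Commute c q)
    (h3 : Commute p q)
    (h4 : p ≠ q)
    : (p * c * p) * ((q * c * q) * q * (q * c * q)) * (p * c * p) = p := by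
  exact ((Eng.check_sound hD (R := Eng.R0) (X := Eng.X0) Eng.X0_sound [c, p, q, (p * c * p), (q * c * q), ((q * c * q) * p * (q * c * q)), ((q * c * q) * q * (q * c * q))]
    (by simp only [List.forall_mem_cons]; exact ⟨hc, hp, hq, (hD.conj _ hp _ hc), (hD.conj _ hq _ hc), (hD.conj _ (hD.conj _ hq _ hc) _ hp), (hD.conj _ (hD.conj _ hq _ hc) _ hq), by simp⟩) (by simp) 7 0x0
    0x130001008000401800c000000000000011000120800180000000000000000000000000002001801801800000000000000f00007070000018018000010000e0000a0000505000400000c0000c0000d00002000060500000080100000000000000000000b03000400c000000000000000006000090a001000800000000000000000000006030000010008000000000000005000080a000c0040000000000000000000000503000000c004000000000000000000040900000000090000000000000000000309000000000500000000000000000000000018008010000000000000000000000000100000080000000000000000000000000c0000040000000000000000000000000000800100000000000000000000000000004001000000000000000000000200080080080000000000000000000002000400400400000000000000000000020000000000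
    21 rfl [(1, 0, 1, 0), (1, 0, 2, 0), (0, 1, 0, 3), (0, 2, 0, 4), (0, 4, 2, 6)] [(0, 3, 6, 1)] [20]
    ⟨hD.br _ hc _ hp h1, hD.br _ hc _ hq h2, rfl, rfl, rfl, trivial⟩ (by decide +kernel)).1)

theorem sw_aux_3 {D : Set G} (hD : FS D)  {c p q : G}
    (hc : c ∈ D) (hp : p ∈ D) (hq : q ∈ D)
    (h1 : ¬ Commute c p)
    (h2 : ¬ Commute c q)
    (h3 : Commute p q)
    (h4 : p ≠ q)
    : Commute (p * c * p) (q * c * q) := by
  exact ((commute_iff_conj_eq (hD.sq _ (hD.conj _ hp _ hc))).2 (Eng.check_sound hD (R := Eng.R0) (X := Eng.X0) Eng.X0_sound [c, p, q, (p * c * p), (q * c * q), ((q * c * q) * p * (q * c * q)), ((q * c * q) * q * (q * c * q))]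
    (by simp only [List.forall_mem_cons]; exact ⟨hc, hp, hq, (hD.conj _ hp _ hc), (hD.conj _ hq _ hc), (hD.conj _ (hD.conj _ hq _ hc) _ hp), (hD.conj _ (hD.conj _ hq _ hc) _ hq), by simp⟩) (by simp) 7 0x0
    0x900003000090000805001001000c000000000000005000070a0010008000000000000000004000060a000c0040000000000000000000000209000000000900000000000000000001090000000005000000000000000000000000100000080000000000000000000000000c00000400000000000000000000000008008004000000000000000000000000000080010000000000000000000000000000400100000000000000000000020000000000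
    11 rfl [(1, 0, 1, 0), (1, 0, 2, 0), (0, 1, 2, 2), (0, 1, 0, 3), (0, 2, 0, 4)] [(0, 3, 4, 4)] [10]
    ⟨hD.br _ hc _ hp h1, hD.br _ hc _ hq h2, (commute_iff_conj_eq (hD.sq _ hp)).1 h3, rfl, rfl, trivial⟩ (by decide +kernel)).1)

theorem sw_aux_4 {D : Set G} (hD : FS D)  {c p q : G}
    (hc : c ∈ D) (hp : p ∈ D) (hq : q ∈ D)
    (h1 : ¬ Commute c p)
    (h2 : ¬ Commute c q)
    (h3 : Commute p q)
    (h4 : p ≠ q)
    : (p * c * p) ≠ (q * c * q) := by
  exact ((Eng.check_sound hD (R := Eng.R0) (X := Eng.X0) Eng.X0_sound [c, p, q, (p * c * p), (q * c * q), ((q * c * q) * p * (q * c * q)), ((q * c * q) * q * (q * c * q))]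
    (by simp only [List.forall_mem_cons]; exact ⟨hc, hp, hq, (hD.conj _ hp _ hc), (hD.conj _ hq _ hc), (hD.conj _ (hD.conj _ hq _ hc) _ hp), (hD.conj _ (hD.conj _ hq _ hc) _ hq), by simp⟩) (by simp) 7 0x0
    0xb0e000001000e00000000090000a000080f000000c012000000000000005000070a0010008000000000000000004000060a000c004000000000000000000000030e000000400a0000000000000000000209000000000900000000000000000001090000000005000000000000000000000000100000080000000000000000000000000c00000400000000000000000000000000008006000000000000000000000000000080010000000000000000000000000000400100000000000000000000020000000000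
    13 rfl [(1, 0, 1, 0), (1, 0, 2, 0), (2, 1, 2, 0), (0, 1, 0, 3), (0, 2, 0, 4)] [(2, 3, 4, 0)] [12]
    ⟨hD.br _ hc _ hp h1, hD.br _ hc _ hq h2, h4, rfl, rfl, trivial⟩ (by decide +kernel)).1)

theorem sw_aux {D : Set G} (hD : FS D)  {c p q : G}
    (hc : c ∈ D) (hp : p ∈ D) (hq : q ∈ D)
    (h1 : ¬ Commute c p)
    (h2 : ¬ Commute c q)
    (h3 : Commute p q)
    (h4 : p ≠ q)
    : ((p * c * p) * ((q * c * q) * p * (q * c * q)) * (p * c * p) = q) ∧
      ((p * c * p) * ((q * c * q) * q * (q * c * q)) * (p * c * p) = p) ∧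
      (Commute (p * c * p) (q * c * q)) ∧
      ((p * c * p) ≠ (q * c * q)) :=
  ⟨sw_aux_1 hD  hc hp hq h1 h2 h3 h4,
    sw_aux_2 hD  hc hp hq h1 h2 h3 h4,
    sw_aux_3 hD  hc hp hq h1 h2 h3 h4,
    sw_aux_4 hD  hc hp hq h1 h2 h3 h4⟩


/-- the `yy'` trick -/
theorem FS.yy (hE : FS E) {a y y' : G} (ha : a ∈ E) (hy : y ∈ E) (hy' : y' ∈ E) (h : Commute y y')
    (hne : y ≠ y') (h1 : ¬ Commute a y) (h2 : ¬ Commute a y') :
    Commute a (y' * (y * a * y) * y') ∧ y' * (y * a * y) * y' ≠ a := by
  refine ⟨string_commute₂ (hE.sq _ hy') (hE.sq _ ha) (hE.sq _ hy) h.symm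
    (hE.br _ hy' _ ha fun c => h2 c.symm) (hE.br _ ha _ hy h1), fun e => h2 ?_⟩
  refine tt_commute_mul hE.tt hy' hy ha hne.symm h.symm ?_
  have e2 : (y' * y) * a * (y' * y)⁻¹ = a := by
    rw [mul_inv_rev, inv_eq_of_mul_self (hE.sq _ hy), inv_eq_of_mul_self (hE.sq _ hy')]
    simpa [mul_assoc] using e
  exact (conj_eq_iff_commute.1 e2).symm

/-- the involution interchanging two leaves of a star with centre `c` -/
def sw (c p q x : G) : G := (p * c * p) * ((q * c * q) * x * (q * c * q)) * (p * c * p)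

section sw

variable (hE : FS E) {c p q : G} (hc : c ∈ E) (hp : p ∈ E) (hq : q ∈ E)
include hE hc hp hq

theorem FS.sw_mem {x : G} (hx : x ∈ E) : sw c p q x ∈ E :=
  hE.conj _ (hE.conj _ hp _ hc) _ (hE.conj _ (hE.conj _ hq _ hc) _ hx)

theorem FS.commute_sw {x y : G} : Commute (sw c p q x) (sw c p q y) ↔ Commute x y := by
  unfold sw
  rw [commute_iconj_iff (hE.sq _ (hE.conj _ hp _ hc)), commute_iconj_iff (hE.sq _ (hE.conj _ hq _ hc))]

omit hE hc hp hq in
theorem sw_inj {x y : G} : sw c p q x = sw c p q y ↔ x = y := by simp [sw]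

variable (h1 : ¬ Commute c p) (h2 : ¬ Commute c q) (h3 : Commute p q) (h4 : p ≠ q)
include h1 h2 h3 h4

theorem FS.sw_left : sw c p q p = q := (sw_aux hE hc hp hq h1 h2 h3 h4).1

theorem FS.sw_right : sw c p q q = p := (sw_aux hE hc hp hq h1 h2 h3 h4).2.1

theorem FS.sw_sw (x : G) : sw c p q (sw c p q x) = x := by
  have huv := (sw_aux hE hc hp hq h1 h2 h3 h4).2.2.1
  have hu := hE.sq _ (hE.conj _ hp _ hc)
  have hv := hE.sq _ (hE.conj _ hq _ hc)
  unfold sw
  generalize p * c * p = u at *
  generalize q * c * q = v at *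
  calc u * (v * (u * (v * x * v) * u) * v) * u = (u * v * u * v) * x * (v * u * v * u) := by group
    _ = x := by
      have e1 : u * v * u = v := (commute_iff_conj_eq hu).1 huv
      have e2 : v * u * v = u := (commute_iff_conj_eq hv).1 huv.symm
      rw [e1, e2, hu, hv, one_mul, mul_one]

/-- a point commuting with `p` is fixed exactly when it commutes with the centre -/
theorem FS.sw_eq_iff {x : G} (hx : x ∈ E) (hxp : Commute x p) (hxq : Commute x q) :
    sw c p q x = x ↔ Commute x c := by
  have h := sw_aux hE hc hp hq h1 h2 h3 h4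
  have hu := hE.conj _ hp _ hc
  have hv := hE.conj _ hq _ hc
  constructor
  · intro e
    have e2 : ((p * c * p) * (q * c * q)) * x * ((p * c * p) * (q * c * q))⁻¹ = x := by
      rw [mul_inv_rev, inv_eq_of_mul_self (hE.sq _ hu), inv_eq_of_mul_self (hE.sq _ hv)]
      simpa [sw, mul_assoc] using e
    have := tt_commute_mul hE.tt hu hv hx h.2.2.2 h.2.2.1 (conj_eq_iff_commute.1 e2).symm
    rw [← (commute_iff_conj_eq (hE.sq _ hp)).1 hxp.symm] at this
    exact (commute_iconj_iff (hE.sq _ hp)).1 this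
  · intro e
    unfold sw
    rw [(commute_iff_conj_eq (hE.sq _ hv)).1 ((hxq.mul_right e).mul_right hxq).symm,
      (commute_iff_conj_eq (hE.sq _ hu)).1 ((hxp.mul_right e).mul_right hxp).symm]

theorem FS.ln_sw {x : G} (h : Ln E p q x) : Ln E p q (sw c p q x) := fun w hw a b => by
  rw [← hE.sw_sw hc hp hq h1 h2 h3 h4 w, hE.commute_sw hc hp hq]
  refine h _ (hE.sw_mem hc hp hq hw) ?_ ?_
  · have := (hE.commute_sw hc hp hq).2 b
    rwa [hE.sw_right hc hp hq h1 h2 h3 h4] at this
  · have := (hE.commute_sw hc hp hq).2 a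
    rwa [hE.sw_left hc hp hq h1 h2 h3 h4] at this

end sw

/-- the fourth leaf `s = sw c p q r` of a claw with centre `c` and leaves `p, q, r` -/
theorem FS.leaf (hE : FS E) {c p q r : G} (hc : c ∈ E) (hp : p ∈ E) (hq : q ∈ E) (hr : r ∈ E)
    (h1 : ¬ Commute c p) (h2 : ¬ Commute c q) (h3 : ¬ Commute c r) (h4 : Commute p q) (h5 : p ≠ q)
    (h6 : Commute p r) (h7 : p ≠ r) (h8 : Commute q r) (h9 : q ≠ r) :
    Commute (sw c p q r) p ∧ Commute (sw c p q r) q ∧ Commute (sw c p q r) r ∧ sw c p q r ≠ p ∧
      sw c p q r ≠ q ∧ sw c p q r ≠ r ∧ ¬ Commute c (sw c p q r) ∧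
      sw c p q r * c * sw c p q r = r * (q * (p * c * p) * q) * r :=
  leaf_aux hE hc hp hq hr h1 h2 h3 h4 h5 h6 h7 h8 h9

/-- the centre of a claw commutes with the product of the four leaves -/
theorem FS.leaf_commute (hE : FS E) {c p q r : G} (hc : c ∈ E) (hp : p ∈ E) (hq : q ∈ E) (hr : r ∈ E)
    (h1 : ¬ Commute c p) (h2 : ¬ Commute c q) (h3 : ¬ Commute c r) (h4 : Commute p q) (h5 : p ≠ q)
    (h6 : Commute p r) (h7 : p ≠ r) (h8 : Commute q r) (h9 : q ≠ r) :
    Commute c (p * q * r * sw c p q r) := by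
  have h := (hE.leaf hc hp hq hr h1 h2 h3 h4 h5 h6 h7 h8 h9).2.2.2.2.2.2.2
  have hs := hE.sq _ (hE.sw_mem hc hp hq hr)
  generalize sw c p q r = s at *
  refine (conj_eq_iff_commute.1 ?_).symm
  simp only [mul_inv_rev, inv_eq_of_mul_self (hE.sq _ hp), inv_eq_of_mul_self (hE.sq _ hq),
    inv_eq_of_mul_self (hE.sq _ hr), inv_eq_of_mul_self hs]
  calc p * q * r * s * c * (s * (r * (q * p))) = p * (q * (r * (s * c * s) * r) * q) * p := by group
    _ = c := by rw [h, iconj_iconj (hE.sq _ hr), iconj_iconj (hE.sq _ hq), iconj_iconj (hE.sq _ hp)]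

/-- two points with the same conjugate of a point not commuting with them are equal -/
theorem FS.eq_of_conj_eq (hE : FS E) {a s t : G} (ha : a ∈ E) (hs : s ∈ E) (ht : t ∈ E)
    (h1 : ¬ Commute a s) (h : s * a * s = t * a * t) : s = t := by
  have h2 : ¬ Commute a t := fun c => h1 (by
    rw [(commute_iff_conj_eq (hE.sq _ ht)).1 c.symm] at h
    exact ((commute_iff_conj_eq (hE.sq _ hs)).2 h).symm)
  rw [← hE.br _ ha _ hs h1, ← hE.br _ ha _ ht h2] at h
  simpa using h

theorem cconn_map {H : Type*} [Group H] {S : Set G} (f : G →* H)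
    (h : ∀ a ∈ S, ∀ b ∈ S, CConn S a b) : ∀ a ∈ f '' S, ∀ b ∈ f '' S, CConn (f '' S) a b := by
  rintro _ ⟨a, ha, rfl⟩ _ ⟨b, hb, rfl⟩
  exact rtg_map f (fun x y h => ⟨⟨x, h.1, rfl⟩, ⟨y, h.2.1, rfl⟩, h.2.2.map f⟩) (h a ha b hb)

/-- if θ and τ are trivial on the perps then the perps are again primitive -/
theorem RP.rp_Dx [Finite G] (h : RP E) (ht : ∀ e ∈ E, ThT (Dx E e) ∧ TaT (Dx E e)) {d : G}
    (hd : d ∈ E) : RP (Dx E d) := by
  have two : ∀ e ∈ E, ∃ a ∈ Dx E e, ∃ b ∈ Dx E e, a ≠ b := fun e he =>
    let ⟨a, ha, b, hb, hab⟩ := h.two_Dx he; ⟨a, ha, b, hb, ne_of_not_commute hab⟩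
  refine ⟨h.cl_Dx hd, ?_, (ht d hd).1, (ht d hd).2, two d hd⟩
  by_contra hn
  obtain ⟨e, he, hed, hde⟩ := h.exists_commute hd
  have hd' : d ∈ Dx E e := ⟨hd, hed.symm, hde.symm⟩
  -- a point of `D_e` in another component
  obtain ⟨a₂, ha₂, hc₂⟩ : ∃ a ∈ Dx E e, ¬ CConn (Dx E e) d a := by
    by_contra hc
    push Not at hc
    exact hn (h.toCL.all_Dx (P := fun S => ∀ a ∈ S, ∀ b ∈ S, CConn S a b)
      (fun S f _ hS => cconn_map f hS) he
      (fun a ha b hb => Relation.ReflTransGen.trans (hc a ha).symm (hc b hb)) d hd)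
  have hda₂ : ¬ Commute d a₂ := fun c => hc₂ (Relation.ReflTransGen.single ⟨hd', ha₂, c⟩)
  have iso : ∀ f ∈ Dx E e, Commute d f → ¬ Commute f a₂ := fun f hf c1 c2 =>
    hc₂ ((Relation.ReflTransGen.single ⟨hd', hf, c1⟩).tail ⟨hf, ha₂, c2⟩)
  -- a point at distance two
  obtain ⟨a₁, ha₁, f, hf, h1, h2, h3⟩ : ∃ a ∈ Dx E e, ∃ f ∈ Dx E e, ¬ Commute d a ∧ Commute d f ∧
      Commute f a := by
    by_contra hc
    push Not at hc
    have k : ∀ f ∈ Dx E e, Commute d f → f = d := fun f hf c =>
      (ht e he).1 _ hf _ hd' ((h.cl_Dx he).th_of_subset hf hd' fun a ha c' => by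
        by_contra c''; exact hc a ha f hf c'' c c')
    have k2 : ∀ b ∈ Dx E e, d = b := fun b hb =>
      (ht e he).2 _ hd' _ hb ((h.cl_Dx he).ta_of_subset hd' hb fun x hx => absurd (k x hx.1 hx.2.2) hx.2.1)
    obtain ⟨a, ha, b, hb, hab⟩ := two e he
    exact hab ((k2 a ha).symm.trans (k2 b hb))
  obtain ⟨g, hg, e1⟩ := h.trans_Ad hd ha₁.1 ha₂.1 h1 hda₂
  have hg' : g ∈ Subgroup.closure E := Subgroup.closure_mono (fun _ hx => hx.1) hg
  have hgd : g * d * g⁻¹ = d := conj_eq_iff_commute.2 (commute_of_mem_closure_perp hg).symm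
  have key : ∀ x ∈ E, Commute d x → Commute x a₁ → g * x * g⁻¹ ∈ E ∧ Commute d (g * x * g⁻¹) ∧
      Commute (g * x * g⁻¹) a₂ := fun x hx c1 c2 =>
    ⟨h.fs.conj_closure hg' x hx, by rw [← hgd, commute_conj_iff]; exact c1,
      by rw [← e1, commute_conj_iff]; exact c2⟩
  obtain ⟨m1, c1, c1'⟩ := key e he hde ha₁.2.2
  obtain ⟨m2, c2, c2'⟩ := key f hf.1 h2 h3
  have c12 : Commute (g * e * g⁻¹) (g * f * g⁻¹) := (commute_conj_iff g).2 hf.2.2
  have n12 : g * e * g⁻¹ ≠ g * f * g⁻¹ := by simpa using hf.2.1.symm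
  generalize g * e * g⁻¹ = y at *
  generalize g * f * g⁻¹ = y' at *
  have iso' : ∀ f ∈ E, Commute d f → Commute f a₂ → Commute e f → f = e := fun f hf c1 c2 c3 => by
    by_contra hne; exact iso f ⟨hf, hne, c3⟩ c1 c2
  have n1 : ¬ Commute e y := fun c => by
    have := iso' y m1 c1 c1' c
    subst this
    exact n12 (iso' y' m2 c2 c2' c12).symm
  have n2 : ¬ Commute e y' := fun c => by
    have := iso' y' m2 c2 c2' c
    subst this
    exact n1 c12.symm
  obtain ⟨k1, k2⟩ := h.fs.yy he m1 m2 c12 n12 n1 n2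
  refine k2 (iso' _ (h.fs.conj _ m2 _ (h.fs.conj _ m1 _ he)) ?_ ?_ k1)
  · exact (c2.mul_right ((c1.mul_right hde).mul_right c1)).mul_right c2
  · exact (c2'.mul_left ((c1'.mul_left ha₂.2.2).mul_left c1')).mul_left c2'

end Cfsg.Agent.H50
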