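import Mathlib

/-!
Index of the subgroup generated by the derangements (S3550, S5732): definitions and the
statements of the pieces.  Paper proofs: stubs/notes/h50_der.md.
-/

set_option autoImplicit false

namespace Cfsg.Agent.H50.Der

open MulAction

universe u v

/-- `D` is normal and transitive, every element outside `D` fixes exactly one point. -/
structure Ctx {G : Type u} (Ω : Type v) [Group G] [MulAction G Ω] (D : Subgroup G) : Prop where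
  nrm : D.Normal
  tr : ∀ a b : Ω, ∃ d ∈ D, d • a = b
  ex : ∀ x : G, x ∉ D → ∃ a : Ω, x • a = a
  uq : ∀ x : G, x ∉ D → ∀ a b : Ω, x • a = a → x • b = b → a = b

/-- `U` covers the quotient by `D`. -/
def Cov {G : Type u} [Group G] (D U : Subgroup G) : Prop := ∀ g : G, ∃ u ∈ U, u⁻¹ * g ∈ D

/-- `Q` acts regularly. -/
def Reg {G : Type u} (Ω : Type v) [Group G] [MulAction G Ω] (Q : Subgroup G) : Prop :=
  (∀ a b : Ω, ∃ z ∈ Q, z • a = b) ∧ ∀ z ∈ Q, ∀ a : Ω, z • a = a → z = 1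

/-- `U` normalises `Z`. -/
def Nm {G : Type u} [Group G] (U Z : Subgroup G) : Prop := ∀ m ∈ U, ∀ z ∈ Z, m * z * m⁻¹ ∈ Z

/-- the elements of `R` commute -/
def Cm {G : Type u} [Group G] (R : Subgroup G) : Prop := ∀ a ∈ R, ∀ b ∈ R, a * b = b * a

/-! ### permutation part -/

def FixStmt : Prop :=
  ∀ (G : Type u) (Ω : Type v) [Group G] [Finite G] [MulAction G Ω] [Finite Ω]
    (D Z : Subgroup G) (ω : Ω) (x : G), Ctx Ω D → Z ≤ D → x ∉ D →
    (∀ b ∈ orbit Z ω, x • b ∈ orbit Z ω) → ∃ b ∈ orbit Z ω, x • b = b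

def L1Stmt : Prop :=
  ∀ (G : Type u) (Ω : Type v) [Group G] [Finite G] [MulAction G Ω] [Finite Ω]
    (D M Z : Subgroup G) (ω : Ω), Ctx Ω D → Cov D M → (∀ m ∈ M, m • ω = ω) → Z ≤ D → Nm M Z →
    1 < (orbit Z ω).ncard → orbit Z ω ≠ Set.univ →
    (∀ a : Ω, (orbit Z ω).ncard ≤ (orbit Z a).ncard) → (D.index + 1) ^ 2 ≤ Nat.card Ω

def FOStmt : Prop :=
  ∀ (G : Type u) (Ω : Type v) [Group G] [Finite G] [MulAction G Ω] [Finite Ω]
    (D U : Subgroup G), Ctx Ω D → 2 ≤ D.index → Cov D U → ∃ ω : Ω, Cov D (U ⊓ stabilizer G ω)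

def S1Stmt : Prop :=
  ∀ (G : Type u) (Ω : Type v) [Group G] [Finite G] [MulAction G Ω] [Finite Ω] [FaithfulSMul G Ω]
    (D : Subgroup G), Ctx Ω D → 2 ≤ D.index → 2 ≤ Nat.card Ω →
    (D.index + 1) ^ 2 ≤ Nat.card Ω ∨
    ∃ (q : ℕ) (Q : Subgroup G) (ω : Ω), q.Prime ∧ IsPGroup q Q ∧ Q ≤ D ∧ Reg Ω Q ∧ Cm Q ∧
      ¬ q ∣ Nat.card ↥(D ⊓ stabilizer G ω) ∧
      Cov D (Subgroup.normalizer (Q : Set G) ⊓ stabilizer G ω)

/-! ### linear part -/

def RedStmt : Prop :=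
  ∀ (M V : Type u) [Group M] [Finite M] [CommGroup V] [Finite V] [MulDistribMulAction M V]
    (E U : Subgroup M) (Z : Subgroup V), E.Normal →
    (∀ x : M, x ∉ E → ∀ v : V, x • v = v → v = 1) → Cov E U →
    (∀ u ∈ U, ∀ v ∈ Z, u • v ∈ Z) → Z ≠ ⊥ → Z ≠ ⊤ → (E.index + 1) ^ 2 ≤ Nat.card V

/-- the minimal configuration of the linear part -/
structure LC {M : Type u} (V : Type u) [Group M] [CommGroup V] [MulDistribMulAction M V]
    (E U R : Subgroup M) (r : ℕ) : Prop where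
  nE : E.Normal
  fpf : ∀ x : M, x ∉ E → ∀ v : V, x • v = v → v = 1
  faith : ∀ x : M, (∀ v : V, x • v = v) → x = 1
  cov : Cov E U
  pr : r.Prime
  cop : ¬ r ∣ Nat.card V
  pg : IsPGroup r R
  RE : R ≤ E
  RU : R ≤ U
  nR : Nm U R
  irr : ∀ Z : Subgroup V, (∀ u ∈ U, ∀ v ∈ Z, u • v ∈ Z) → Z = ⊥ ∨ Z = ⊤
  ns : ∃ y ∈ R, y ≠ 1 ∧ ∃ v : V, v ≠ 1 ∧ y • v = v
  mn : ∀ S : Subgroup M, S < R → Nm U S → ∀ y ∈ S, ∀ v : V, v ≠ 1 → y • v = v → y = 1

/-- structure of a non-abelian minimal `R` -/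
def BS {M : Type u} (V : Type u) [Group M] [CommGroup V] [MulDistribMulAction M V]
    (R : Subgroup M) (r : ℕ) : Prop :=
  ∃ z ∈ R, orderOf z = r ∧ (∀ x ∈ R, x * z = z * x) ∧
    (∀ u ∈ Subgroup.zpowers z, u ≠ 1 → ∀ v : V, u • v = v → v = 1) ∧
    (∀ w ∈ R, ∀ v : V, v ≠ 1 → w • v = v → w ^ r = 1) ∧
    (∀ y ∈ R, y ≠ 1 → (∃ v : V, v ≠ 1 ∧ y • v = v) →
      ∃ g ∈ R, ∃ u ∈ Subgroup.zpowers z, u ≠ 1 ∧ g * y * g⁻¹ = y * u)

/-- the non-identity elements of `R` with a non-trivial fixed vector -/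
def ISet {M : Type u} (V : Type u) [Group M] [CommGroup V] [MulDistribMulAction M V]
    (R : Subgroup M) : Set M := {w | w ∈ R ∧ w ≠ 1 ∧ ∃ v : V, v ≠ 1 ∧ w • v = v}

def LinAStmt : Prop :=
  ∀ (M V : Type u) [Group M] [Finite M] [CommGroup V] [Finite V] [MulDistribMulAction M V]
    (E U R : Subgroup M) (r : ℕ), LC V E U R r → Cm R → (E.index + 1) ^ 2 ≤ Nat.card V

def LinBStmt : Prop :=
  ∀ (M V : Type u) [Group M] [Finite M] [CommGroup V] [Finite V] [MulDistribMulAction M V]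
    (E U R : Subgroup M) (r : ℕ), LC V E U R r → ¬ Cm R → BS V R r

def PCStmt : Prop :=
  ∀ (M V : Type u) [Group M] [Finite M] [CommGroup V] [Finite V] [MulDistribMulAction M V]
    (E U R : Subgroup M) (r c : ℕ), LC V E U R r →
    (∀ w ∈ ISet V R, (fixedBy V w).ncard ≤ c) →
    ∃ s : ℕ, s ∣ Nat.card R ∧ 2 ≤ s ∧
      (∀ v : V, v ≠ 1 → Nat.card ↥(R ⊓ stabilizer M v) ≤ s) ∧
      E.index * Nat.card R * (s - 1) ≤ s * (ISet V R).ncard * (c - 1)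

def LinOStmt : Prop :=
  ∀ (M V : Type u) [Group M] [Finite M] [CommGroup V] [Finite V] [MulDistribMulAction M V]
    (E U R : Subgroup M) (r : ℕ), LC V E U R r → BS V R r → r ≠ 2 →
    (E.index + 1) ^ 2 ≤ Nat.card V

def LinEStmt : Prop :=
  ∀ (M V : Type u) [Group M] [Finite M] [CommGroup V] [Finite V] [MulDistribMulAction M V]
    (E U R : Subgroup M), LC V E U R 2 → BS V R 2 → (E.index + 1) ^ 2 ≤ Nat.card V

def LinStmt : Prop :=
  ∀ (M V : Type u) [Group M] [Finite M] [CommGroup V] [Finite V] [MulDistribMulAction M V]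
    (E : Subgroup M), E.Normal → (∀ x : M, x ∉ E → ∀ v : V, x • v = v → v = 1) →
    (∀ x : M, (∀ v : V, x • v = v) → x = 1) → Nat.Coprime (Nat.card V) (Nat.card E) →
    (∃ y ∈ E, y ≠ 1 ∧ ∃ v : V, v ≠ 1 ∧ y • v = v) → (E.index + 1) ^ 2 ≤ Nat.card V

/-! ### character part -/

/-- `V` is embedded as a regular abelian `q`-subgroup, `E` is the point stabiliser in its
normaliser and acts semiregularly. -/
structure CC {X : Type u} {Ω : Type v} {V : Type u} [Group X] [MulAction X Ω] [CommGroup V]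
    (q : ℕ) (ι : V →* X) (ω : Ω) (E : Subgroup X) (act : E →* MulAut V) : Prop where
  faith : ∀ g : X, (∀ a : Ω, g • a = a) → g = 1
  tr : ∀ a : Ω, ∃ z : V, ι z • ω = a
  free : ∀ z : V, ι z • ω = ω → z = 1
  memE : ∀ g : X, g ∈ E ↔ g • ω = ω ∧ ∀ z : V, ∃ z' : V, g * ι z * g⁻¹ = ι z'
  act_eq : ∀ (g : E) (z : V), ι (act g z) = (g : X) * ι z * (g : X)⁻¹
  semi : ∀ (g : E) (z : V), z ≠ 1 → act g z = z → g = 1
  pr : q.Prime
  pg : IsPGroup q V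
  cop : ¬ q ∣ Nat.card (stabilizer X ω)

/-- the action on linear characters -/
def dual {V E : Type u} [CommGroup V] [Group E] (act : E →* MulAut V) (g : E) (l : V →* ℂˣ) :
    V →* ℂˣ := l.comp (act g).toMonoidHom

/-- multiplicity table: `I` the irreducible characters, `m i l` the multiplicity of the linear
character `l` in the restriction to `V`, `c i` the multiplicity in the permutation character -/
structure Tab {V E : Type u} [CommGroup V] [Group E] [Fintype (V →* ℂˣ)]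
    (act : E →* MulAut V) (r : ℕ) where
  I : Type u
  [fin : Fintype I]
  one : I
  m : I → (V →* ℂˣ) → ℕ
  c : I → ℕ
  inv : ∀ i g l, m i (dual act g l) = m i l
  n2 : ∀ l k, l ≠ 1 → k ≠ 1 → (∀ g, dual act g l ≠ k) → ∑ i, ((m i l : ℤ) - m i k) ^ 2 = 2
  reg : ∀ l, ∑ i, c i * m i l = 1
  c1 : c one = 1
  m1 : ∀ l, l ≠ 1 → m one l = 0
  m11 : m one 1 = 1
  pos : ∀ i, ∃ l, 0 < m i l
  rk : ∑ i, c i ^ 2 = r
  ker : ∀ i, i ≠ one → ∃ l, l ≠ 1 ∧ 0 < m i l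
  prod : ∀ i, ∃ a : I → ℕ, a one = 1 ∧ ∀ k, ∑ j, a j * m j k = ∑ l, m i l * m i (l * k⁻¹)

/-- every non-trivial linear character is a quotient of two members of any non-trivial orbit -/
def Cov2 {V E : Type u} [CommGroup V] [Group E] (act : E →* MulAut V) : Prop :=
  ∀ l k : V →* ℂˣ, l ≠ 1 → k ≠ 1 → ∃ g₁ g₂ : E, k = dual act g₁ l * (dual act g₂ l)⁻¹

/-- the non-trivial orbits are Sidon sets -/
def Sidon {V E : Type u} [CommGroup V] [Group E] (act : E →* MulAut V) : Prop :=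
  ∀ y : V, y ≠ 1 → ∀ g₁ g₂ g₃ g₄ : E, g₁ ≠ g₂ →
    act g₁ y * (act g₂ y)⁻¹ = act g₃ y * (act g₄ y)⁻¹ → g₁ = g₃ ∧ g₂ = g₄

def CentStmt : Prop :=
  ∀ (X : Type u) (Ω : Type v) (V : Type u) [Group X] [Finite X] [MulAction X Ω] [CommGroup V]
    (q : ℕ) (ι : V →* X) (ω : Ω) (E : Subgroup X) (act : E →* MulAut V), CC q ι ω E act →
    ∀ z : V, z ≠ 1 → ∀ g : X, g * ι z = ι z * g → ∃ z' : V, g = ι z'

def Ch1Stmt : Prop :=
  ∀ (X : Type u) (Ω : Type v) (V : Type u) [Group X] [Finite X] [MulAction X Ω] [Finite Ω]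
    [CommGroup V] [Finite V] [Fintype (V →* ℂˣ)]
    (q : ℕ) (ι : V →* X) (ω : Ω) (E : Subgroup X) (act : E →* MulAut V), CC q ι ω E act →
    (∀ z : V, z ≠ 1 → ∀ g : X, g * ι z = ι z * g → ∃ z' : V, g = ι z') →
    (∀ K : Subgroup X, K.Normal → (∀ z : V, ι z ∈ K) → K = ⊤) →
    Nonempty (Tab act (Nat.card (orbitRel.Quotient (stabilizer X ω) Ω)))

def Ch2Stmt : Prop :=
  ∀ (V E : Type u) [CommGroup V] [Finite V] [Group E] [Finite E] [Fintype (V →* ℂˣ)]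
    (act : E →* MulAut V) (r : ℕ), (∀ (g : E) (z : V), z ≠ 1 → act g z = z → g = 1) →
    Nonempty (Tab act r) → 3 ≤ r →
    (r - 1) * Nat.card E + 1 = Nat.card V ∧ (2 ≤ Nat.card E → Cov2 act)

def DualStmt : Prop :=
  ∀ (V E : Type u) [CommGroup V] [Finite V] [Group E] [Finite E] (act : E →* MulAut V),
    (∀ (g : E) (z : V), z ≠ 1 → act g z = z → g = 1) → Cov2 act →
    Nat.card V ≤ Nat.card E * (Nat.card E - 1) + 1 ∧
      (Nat.card V = Nat.card E * (Nat.card E - 1) + 1 → Sidon act)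

def OrbStmt : Prop :=
  ∀ (X : Type u) (Ω : Type v) (V : Type u) [Group X] [Finite X] [MulAction X Ω] [Finite Ω]
    [CommGroup V] [Finite V]
    (q : ℕ) (ι : V →* X) (ω : Ω) (E : Subgroup X) (act : E →* MulAut V), CC q ι ω E act →
    (Nat.card (orbitRel.Quotient (stabilizer X ω) Ω) - 1) * Nat.card E + 1 = Nat.card V →
    ∀ g : X, g • ω = ω → ∀ z : V, ∃ x : E, g • ι z • ω = ι (act x z) • ω

def SidStmt : Prop :=
  ∀ (X : Type u) (Ω : Type v) (V : Type u) [Group X] [Finite X] [MulAction X Ω]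
    [CommGroup V] [Finite V]
    (q : ℕ) (ι : V →* X) (ω : Ω) (E : Subgroup X) (act : E →* MulAut V), CC q ι ω E act →
    (∀ g : X, g • ω = ω → ∀ z : V, ∃ x : E, g • ι z • ω = ι (act x z) • ω) →
    2 ≤ Nat.card E → Nat.card V = Nat.card E * (Nat.card E - 1) + 1 → Sidon act →
    ∀ (g : X) (z : V), ∃ z' : V, g * ι z * g⁻¹ = ι z'

/-- the character part for an abstract configuration -/
def Ch0Stmt : Prop :=
  ∀ (X : Type u) (Ω : Type v) (V : Type u) [Group X] [Finite X] [MulAction X Ω] [Finite Ω]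
    [CommGroup V] [Finite V]
    (q : ℕ) (ι : V →* X) (ω : Ω) (E : Subgroup X) (act : E →* MulAut V), CC q ι ω E act →
    (∀ K : Subgroup X, K.Normal → (∀ z : V, ι z ∈ K) → K = ⊤) →
    (¬ ∀ (g : X) (z : V), ∃ z' : V, g * ι z * g⁻¹ = ι z') →
    (∃ a b : Ω, a ≠ ω ∧ b ≠ ω ∧ ∀ g : X, g • ω = ω → g • a ≠ b) →
    ∀ h : ℕ, h * Nat.card E + 1 ≤ Nat.card Ω → (h + 1) ^ 2 ≤ Nat.card Ω

def CharStmt : Prop :=
  ∀ (G : Type u) (Ω : Type v) [Group G] [Finite G] [MulAction G Ω] [Finite Ω] [FaithfulSMul G Ω]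
    (X Q : Subgroup G) (ω : Ω) (q : ℕ), q.Prime → IsPGroup q Q → Q ≤ X → Reg Ω Q → Cm Q →
    ¬ q ∣ Nat.card ↥(X ⊓ stabilizer G ω) →
    (∀ g ∈ X, g • ω = ω → g ∈ Subgroup.normalizer (Q : Set G) →
      ∀ z ∈ Q, z ≠ 1 → g * z = z * g → g = 1) →
    ¬ X ≤ Subgroup.normalizer (Q : Set G) →
    (∃ a b : Ω, a ≠ ω ∧ b ≠ ω ∧ ∀ g ∈ X, g • ω = ω → g • a ≠ b) →
    ∀ h : ℕ, h * Nat.card ↥(X ⊓ (Subgroup.normalizer (Q : Set G) ⊓ stabilizer G ω)) + 1 ≤
      Nat.card Ω → (h + 1) ^ 2 ≤ Nat.card Ω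

/-! ### the main statement -/

def MainStmt : Prop :=
  ∀ (G : Type u) (Ω : Type v) [Group G] [Finite G] [MulAction G Ω] [Finite Ω] [FaithfulSMul G Ω]
    (D : Subgroup G), Ctx Ω D → 2 ≤ D.index → 2 ≤ Nat.card Ω →
    (D.index + 1) ^ 2 ≤ Nat.card Ω ∨
    ((∃ Q : Subgroup G, Q.Normal ∧ Cm Q ∧ Q ≠ ⊥) ∧
      ∀ g : G, g ≠ 1 → ∀ a b : Ω, g • a = a → g • b = b → a = b)

end Cfsg.Agent.H50.Der
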