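import Mathlib
import Cfsg.Agent.H29.ASE8a
import Cfsg.Agent.H40.InvCertE8
import Cfsg.Agent.H34.SSC

/-! Definitions and statements of the pieces: `E₈(3)` has no subgroup `L₂(41)`, `L₂(32)`, `U₄(3)`,
`PSp₆(3)`. -/

set_option autoImplicit false

namespace Cfsg.Agent.H50.E83

open Equiv Cfsg.Lie H37 H40 H34 H29 Module
open scoped Matrix MatrixGroups

abbrev K : Type := AlgebraicClosure (ZMod 3)
noncomputable def C8 : Cert chevE8 := cert (by simp)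
abbrev G0 : Type := chevE8.group (ZMod 3)
abbrev GK : Type := chevE8.group K
abbrev V : Type := chevE8.Idx → K
abbrev Rt : Type := Fin chevE8.nroots
noncomputable abbrev P8 : Split C8.S GK := C8.split K
noncomputable def ι : G0 →* GK := C8.V.fieldHom (algebraMap (ZMod 3) K)

theorem ι_injective : Function.Injective ι := C8.V.fieldHom_injective _

/-- The action on the adjoint module. -/
noncomputable def act : GK →* Module.End K V :=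
  ((Matrix.toLinAlgEquiv' : Matrix chevE8.Idx chevE8.Idx K ≃ₐ[K] _) : _ →* _).comp
    ((Units.coeHom _).comp (Subgroup.subtype _))

theorem act_apply (g : GK) (v : V) : act g v = (g.1.1 : Matrix chevE8.Idx chevE8.Idx K) *ᵥ v :=
  Matrix.toLinAlgEquiv'_apply _ _

noncomputable def eig (g : GK) (ζ : K) : Submodule K V := Module.End.eigenspace (act g) ζ

theorem mem_eig {g : GK} {ζ : K} {v : V} : v ∈ eig g ζ ↔ act g v = ζ • v :=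
  Module.End.mem_eigenspace_iff

noncomputable def mu (g : GK) (ζ : K) : ℕ := finrank K (eig g ζ)
noncomputable def tau (g : GK) : ℤ := (mu g 1 : ℤ) - mu g (-1)
noncomputable def Fix (S : Set GK) : Submodule K V := ⨅ g ∈ S, eig g 1

theorem mem_Fix {S : Set GK} {v : V} : v ∈ Fix S ↔ ∀ g ∈ S, act g v = v := by
  simp [Fix, mem_eig]

/-- The Cartan subalgebra. -/
def Cart : Submodule K V where
  carrier := {v | ∀ r, v (Sum.inr r) = 0}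
  add_mem' ha hb r := by simp [ha r, hb r]
  zero_mem' _ := rfl
  smul_mem' c v hv r := by simp [hv r]

noncomputable def f1 : Rt → ℤ := vN C8 [0, 0, 1, 1, 0, 0, 0, 0]
noncomputable def f2 : Rt → ℤ := vN C8 [0, 0, 0, 0, 0, 1, 0, 0]
noncomputable def f11 : Rt → ℤ := vN C8 [1, 1, 0, 0, 0, 0, 1, 1]

/-! ### Common kit -/

def MuStmt : Prop :=
  (∀ (g g' : GK) (ζ : K), IsConj g g' → mu g ζ = mu g' ζ) ∧
  (∀ (ζ : Kˣ) (h : GK) (f : Rt → ℤ), Lab C8 ζ h f → ∀ (η : K) (v : V), v ∈ eig h η ↔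
    (η ≠ 1 → ∀ i, v (Sum.inl i) = 0) ∧ ∀ r, ((ζ ^ f r : Kˣ) : K) ≠ η → v (Sum.inr r) = 0) ∧
  (∀ (ζ : Kˣ) (s : ℕ) (h : GK) (f : Rt → ℤ), IsPrimitiveRoot ζ s → Lab C8 ζ h f → ∀ k : ℤ,
    mu h ((ζ ^ k : Kˣ) : K) = (if (k : ZMod s) = 0 then 8 else 0) + z0 s fun r => f r - k) ∧
  (∀ (h : GK) (f : Rt → ℤ), Lab C8 (-1) h f → tau h = 2 * (z0 2 f : ℤ) - 232) ∧
  (∀ g : GK, g * g = 1 → mu g 1 + mu g (-1) = 248) ∧ tau 1 = 248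

def SsStmt : Prop := ∀ (g : G0) (s : ℕ) (ζ : Kˣ), s.Coprime 3 → IsPrimitiveRoot ζ s → g ^ s = 1 →
  ∃ h f, Lab C8 ζ h f ∧ IsConj h (ι g) ∧ ∃ w ∈ C8.S.W, ∀ r, (f (w r) : ZMod s) = (3 : ℕ) * f r

def BrStmt : Prop := ∀ (Γ : Type) [Group Γ] [Fintype Γ], IsPGroup 2 Γ → ∀ (φ : Γ →* GK) (χ : Γ →* ℤˣ),
  ∑ g, ((χ g : ℤˣ) : ℤ) * tau (φ g) =
    Fintype.card Γ * (finrank K (⨅ g, eig (φ g) (((χ g : ℤˣ) : ℤ) : K) : Submodule K V) : ℤ)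

def Tr4Stmt : Prop := ∀ g : G0, g ^ 4 = 1 →
  (g ^ 2 = 1 → g ≠ 1 → tau (ι g) = -8 ∨ tau (ι g) = 24) ∧
  (tau (ι (g ^ 2)) = -8 → tau (ι g) = 0 ∨ tau (ι g) = 8 ∨ tau (ι g) = 64) ∧
  (tau (ι (g ^ 2)) = 24 → tau (ι g) = -4 ∨ tau (ι g) = 4 ∨ tau (ι g) = 28 ∨ tau (ι g) = 132)

def NactStmt : Prop := ∀ n ∈ P8.N, (∃ c : Rt → Kˣ, ∀ r : Rt,
  act n (eV chevE8 K r) = (c r : K) • eV chevE8 K (P8.ν n r)) ∧
  ∀ r : Rt, act n (hR chevE8 K r) = hR chevE8 K (P8.ν n r)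

def NegStmt : Prop := ∃ w ∈ C8.S.W, ∀ r, w r = C8.R.neg r

def Z2Stmt : Prop := ∀ f, IsAdd C8.R f →
  z0 2 f = 112 ∨ z0 2 f = 128 ∨ ∀ r, (f r : ZMod 2) = 0

def Nf1Stmt : Prop := ∀ f, IsAdd C8.R f → z0 2 f = 112 →
  ∃ u ∈ C8.S.W, ∀ r, (f (u r) : ZMod 2) = f1 r

def Nf2Stmt : Prop := ∀ g, IsAdd C8.R g → z0 2 g = 112 → z0 2 (fun r => f1 r + g r) = 112 →
  ∃ u ∈ C8.S.W, (∀ r, (f1 (u r) : ZMod 2) = f1 r) ∧ ∀ r, (g (u r) : ZMod 2) = f2 r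

/-! ### `L₂(41)` -/

def CfgA (Γ : Type*) [Group Γ] : Prop := ∃ x y : Γ, x ^ 41 = 1 ∧ x ≠ 1 ∧ y * x * y⁻¹ = x ^ 36

def C41Stmt : Prop := ∀ f, IsAdd C8.R f → ∀ w ∈ C8.S.W,
  (∀ r, (f (w r) : ZMod 41) = 26 * f r) → ∀ r, (f r : ZMod 41) = 0

/-! ### `L₂(32)` -/

def CfgL (Γ : Type*) [Group Γ] : Prop := ∃ (a b y t : Γ) (u : Multiplicative (Fin 5 → ZMod 2) →* Γ),
  a * a = 1 ∧ a ≠ 1 ∧ b ^ 3 = 1 ∧ (a * b) ^ 11 = 1 ∧ a * b ≠ 1 ∧ y ^ 11 = 1 ∧ y ≠ 1 ∧ Commute y b ∧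
  t * y * t⁻¹ = y⁻¹ ∧ IsConj a t ∧ (∀ e, e ≠ 1 → IsConj a (u e)) ∧ ∀ e, u e ∈ Subgroup.closure {a, b}

def EmbLStmt.{u} : Prop := ∀ (F : Type u) [Field F] [Fintype F], Fintype.card F = 32 → CfgL PSL(2, F)

def C11Stmt : Prop := ∀ (g : G0) (ζ : Kˣ), IsPrimitiveRoot ζ 11 → g ^ 11 = 1 → g ≠ 1 →
  ∃ h, IsConj h (ι g) ∧ Lab C8 ζ h f11

def St11Stmt : Prop := ∀ w ∈ C8.S.W, (∀ r, (f11 (w r) : ZMod 11) = f11 r) →
  ∀ r, ∀ i : Fin chevE8.rank, (i : ℕ) ∈ [0, 1, 6, 7] → C8.R.rc (w r) i = C8.R.rc r i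

def Fix3Stmt : Prop := ∀ (ζ : Kˣ) (h b : GK), IsPrimitiveRoot ζ 11 → Lab C8 ζ h f11 → Commute h b →
  b ^ 3 = 1 → 101 ≤ mu b 1

def Inv11Stmt : Prop := ∀ (ζ : Kˣ) (h t : GK), IsPrimitiveRoot ζ 11 → Lab C8 ζ h f11 → t * t = 1 →
  t * h * t⁻¹ = h⁻¹ → 113 ≤ mu t (-1)

def L32Stmt : Prop := ¬ CfgL G0

/-! ### `U₄(3)` -/

abbrev E4 : Type := Fin 4 → ZMod 2
def sa (e : E4) : E4 := ![e 0 + e 2, e 1 + e 3, e 2, e 3]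
def sy (e : E4) : E4 := ![e 1, e 0 + e 1, e 2 + e 3, e 2]

/-- `2⁴` with the normalising elements `a`, `y`. -/
structure RelU {Γ : Type*} [Group Γ] (x : Multiplicative E4 →* Γ) (a y : Γ) : Prop where
  aa : a * a = 1
  y3 : y ^ 3 = 1
  ax : ∀ e, a * x (Multiplicative.ofAdd e) * a⁻¹ = x (Multiplicative.ofAdd (sa e))
  yx : ∀ e, y * x (Multiplicative.ofAdd e) * y⁻¹ = x (Multiplicative.ofAdd (sy e))
  abc : a * (y * a * y⁻¹) * (y ^ 2 * a * (y ^ 2)⁻¹) ∈ x.range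

def CfgU (Γ : Type*) [Group Γ] : Prop := ∃ (x : Multiplicative E4 →* Γ) (a y : Γ), RelU x a y ∧
  (∀ e, e ≠ 1 → x e ≠ 1) ∧ ∀ e e', e ≠ 1 → e' ≠ 1 → IsConj (x e) (x e')

def EmbUStmt.{u} : Prop := ∀ (F : Type u) [Field F] [Fintype F], Fintype.card F = 9 → CfgU (Cfsg.PSU 4 F 3)

def Not2AStmt : Prop := ∀ (x : Multiplicative E4 →* G0) (a y : G0), RelU x a y →
  ¬ ∀ e, e ≠ 1 → tau (ι (x e)) = 24

def T0Stmt : Prop := ∀ (I : Type) (h : I → GK) (f : I → Rt → ℤ), (∀ i, Lab C8 (-1) (h i) (f i)) →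
  (∀ g, (∀ i, Commute (h i) g) → ∃ a ∈ P8.Up, ∃ n ∈ P8.N, ∃ u ∈ P8.Up, g = a * n * u ∧
    ∀ i, Commute (h i) a ∧ Commute (h i) n ∧ Commute (h i) u) ∧
  ((∀ r, ∃ i, Odd (f i r)) → ∀ g, (∀ i, Commute (h i) g) → g ∈ P8.N) ∧
  ∀ u ∈ P8.Up, Odd (orderOf u)

def T1Stmt : Prop := ∀ (I : Type) (h : I → GK) (f : I → Rt → ℤ), (∀ i, Lab C8 (-1) (h i) (f i)) →
  ∀ t : GK, t * t = 1 → (∀ i, Commute (h i) t) → ∃ g, (∀ i, Commute (h i) g) ∧ g * t * g⁻¹ ∈ P8.N ∧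
    ∀ r, (∀ i, Even (f i r)) → C8.R.Pos r → C8.R.Pos (P8.ν (g * t * g⁻¹) r)

def S2wStmt : Prop := ∀ w ∈ C8.S.W, (∀ r, (f1 (w r) : ZMod 2) = f1 r) →
  (∀ r, Even (f1 r) → C8.R.Pos r → C8.R.Pos (w r)) → w = 1

/-- The roots of one of the two components `D₄` of the roots on which `f1` and `f2` are even. -/
def SA : List ℕ := [0, 1, 2, 23, 24, 25, 46, 47, 48, 117, 118, 119, 120, 121, 122, 191, 192, 193, 214,
  215, 216, 237, 238, 239]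

def S3wStmt : Prop := ∀ w ∈ C8.S.W, (∀ r, (f1 (w r) : ZMod 2) = f1 r) →
  (∀ r, (f2 (w r) : ZMod 2) = f2 r) →
  (∀ r, Even (f1 r) → Even (f2 r) → C8.R.Pos r → C8.R.Pos (w r)) →
  w = 1 ∨ (∀ r : Rt, (r : ℕ) = 120 → (w r : ℕ) = 136) ∧ ∀ r : Rt, (r : ℕ) ∈ SA → (w r : ℕ) ∉ SA

def LbStmt : Prop := ∀ n ∈ P8.N, n * n = 1 → ∀ (Z : Set GK) (S : Finset Rt), (∀ z ∈ Z, z ∈ P8.H) →
  (∀ z ∈ Z, Commute z n) → (∀ r ∈ S, eV chevE8 K r ∈ Fix Z) → (∀ r ∈ S, P8.ν n r ∉ S) →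
  S.card + finrank K (eig n 1 ⊓ Cart : Submodule K V) ≤ finrank K (Fix (insert n Z))

def S3Stmt : Prop := ∀ h1 h2 n : GK, Lab C8 (-1) h1 f1 → Lab C8 (-1) h2 f2 → n ∈ P8.N → n * n = 1 →
  Commute h1 n → Commute h2 n →
  (∀ r, Even (f1 r) → Even (f2 r) → C8.R.Pos r → C8.R.Pos (P8.ν n r)) →
  finrank K (Fix {n, h1, h2}) ≤ 24 → n ∈ P8.H

def S4Stmt : Prop := ∀ (h1 h2 h3 n : GK) (g : Rt → ℤ), Lab C8 (-1) h1 f1 → Lab C8 (-1) h2 f2 →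
  Lab C8 (-1) h3 g → (∀ i j : ℤ, z0 2 (fun r => g r + i * f1 r + j * f2 r) = 112) →
  n ∈ P8.N → n * n = 1 → Commute h1 n → Commute h2 n → Commute h3 n →
  (∀ r, Even (f1 r) → Even (f2 r) → Even (g r) → C8.R.Pos r → C8.R.Pos (P8.ν n r)) →
  finrank K (Fix {n, h1, h2, h3}) ≤ 8 → n ∈ P8.H

def Inv0Stmt : Prop := ∀ t : GK, t * t = 1 → tau t = -8 → ∃ g : GK, Lab C8 (-1) (g * t * g⁻¹) f1

def Tor2Stmt : Prop := ∀ s t : GK, s * s = 1 → t * t = 1 → Commute s t → tau s = -8 → tau t = -8 →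
  tau (s * t) = -8 → ∃ g : GK, Lab C8 (-1) (g * s * g⁻¹) f1 ∧ Lab C8 (-1) (g * t * g⁻¹) f2

def TorStmt : Prop := ∀ x : Multiplicative E4 →* GK, (∀ e, e ≠ 1 → tau (x e) = -8) →
  ∃ g : GK, ∀ e, g * x e * g⁻¹ ∈ P8.H

def Lat2Stmt : Prop := ∀ (F : E4 → Rt → ℤ) (σ : E4 → E4), ∀ wa ∈ C8.S.W, ∀ wy ∈ C8.S.W,
  (∀ e, IsAdd C8.R (F e)) → (∀ e e' r, (F (e + e') r : ZMod 2) = F e r + F e' r) →
  (∀ e, e ≠ 0 → z0 2 (F e) = 112) → (∀ e, σ e = e → e = 0) →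
  (∀ e r, (F (σ e) (wy r) : ZMod 2) = F e r) → wy ^ 3 = 1 → wa * wa = 1 →
  wa * (wy * wa * wy⁻¹) * (wy ^ 2 * wa * (wy ^ 2)⁻¹) = 1 → wa = 1

def LatStmt : Prop := ∀ (x : Multiplicative E4 →* GK) (a y : GK), RelU x a y → (∀ e, x e ∈ P8.H) →
  ¬ ∀ e, e ≠ 1 → tau (x e) = -8

/-! ### `PSp₆(3)` -/

abbrev Q8 : Type := QuaternionGroup 2
abbrev Q3 : Type := Q8 × Q8 × Q8
/-- `0` for `1`, `1` for `-1`, `3` for the elements of order four. -/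
def ty (q : Q8) : ℕ := if q = 1 then 0 else if q * q = 1 then 1 else 3
/-- Classes: `0`: trivial image, `1`: `z`, `2`: `i₁`, `3`: `i₁ z₂`, `4`: `i₁ i₂`, `5`: `i₁ i₂ i₃`. -/
def cls (g : Q3) : ℕ :=
  [0, 1, 1, if ty g.1 = 1 then 0 else 2, 3, 2, 4, 4, 4, 5].getD (ty g.1 + ty g.2.1 + ty g.2.2) 0

def CfgS (Γ : Type*) [Group Γ] : Prop := ∃ φ : Q3 →* Γ, (∀ g, φ g = 1 ↔ cls g = 0) ∧
  ∀ g g', cls g = cls g' → IsConj (φ g) (φ g')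

def EmbSStmt : Prop := CfgS (Cfsg.PSp 3 (ZMod 3))

def TabS (φ : Q3 →* GK) : Prop :=
  (∀ g, cls g = 0 → φ g = 1) ∧ ∀ g, tau (φ g) = [248, -8, 8, 8, 8, -8].getD (cls g) 0

def CntStmt : Prop := ∀ φ : Q3 →* G0, (∀ g, φ g = 1 ↔ cls g = 0) →
  (∀ g g', cls g = cls g' → IsConj (φ g) (φ g')) → TabS (ι.comp φ)

abbrev M16 : Type := Matrix (Fin 16) (Fin 16) K
noncomputable def J16 : M16 := Matrix.of fun a b => if b = a.rev then 1 else 0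

def Rep1 (z : GK) (ρ : V →ₗ[K] M16) : Prop :=
  (∀ v, (ρ v)ᵀ * J16 = -(J16 * ρ v)) ∧ (∀ X : M16, Xᵀ * J16 = -(J16 * X) → ∃ v ∈ eig z 1, ρ v = X) ∧
  (∀ v ∈ eig z 1, ρ v = 0 → v = 0) ∧
  ∀ g, Commute z g → ∃ A : GL (Fin 16) K, ∀ v, A.1 * ρ v = ρ (act g v) * A.1

/-- The root vectors of `D₈` as `16 × 16` matrices. -/
def d8E (r : ℕ) : List (Tm0 16) :=
  ([[(14, 0, 1), (15, 1, -1)], [(13, 0, 1), (15, 2, -1)], [(12, 0, 1), (15, 3, -1)], [(11, 0, 1),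
    (15, 4, -1)], [(10, 0, 1), (15, 5, -1)], [], [(9, 0, 1), (15, 6, -1)], [], [(8, 0, 1),
    (15, 7, -1)], [], [], [], [], [], [(7, 0, 1), (15, 8, -1)], [(6, 0, -1), (15, 9, 1)], [], [],
    [], [], [], [(5, 0, 1), (15, 10, -1)], [(4, 0, -1), (15, 11, 1)], [(3, 0, 1), (15, 12, -1)],
    [(2, 0, -1), (15, 13, 1)], [(1, 0, 1), (15, 14, -1)], [], [], [], [], [], [], [], [], [], [],
    [], [], [], [], [], [], [], [], [], [], [(13, 1, -1), (14, 2, 1)], [(12, 1, -1), (14, 3, 1)],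
    [(12, 2, -1), (13, 3, 1)], [(11, 1, -1), (14, 4, 1)], [(11, 2, -1), (13, 4, 1)], [(11, 3, -1),
    (12, 4, 1)], [(10, 1, -1), (14, 5, 1)], [(10, 2, -1), (13, 5, 1)], [(10, 3, -1), (12, 5, 1)],
    [(10, 4, -1), (11, 5, 1)], [], [], [], [], [], [], [], [], [], [], [(9, 1, 1), (14, 6, -1)],
    [(9, 2, 1), (13, 6, -1)], [(9, 3, 1), (12, 6, -1)], [(9, 4, 1), (11, 6, -1)], [(9, 5, 1),
    (10, 6, -1)], [(8, 1, 1), (14, 7, -1)], [(8, 2, 1), (13, 7, -1)], [(8, 3, 1), (12, 7, -1)],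
    [(8, 4, 1), (11, 7, -1)], [(8, 5, 1), (10, 7, -1)], [], [(8, 6, 1), (9, 7, -1)], [], [], [], [],
    [], [], [], [], [], [], [(7, 1, -1), (14, 8, 1)], [(7, 2, -1), (13, 8, 1)], [(7, 3, -1),
    (12, 8, 1)], [(7, 4, -1), (11, 8, 1)], [(7, 5, -1), (10, 8, 1)], [], [], [], [], [], [(7, 6, 1),
    (9, 8, -1)], [(6, 1, 1), (14, 9, -1)], [(6, 2, 1), (13, 9, -1)], [(6, 3, 1), (12, 9, -1)],
    [(6, 4, 1), (11, 9, -1)], [(6, 5, 1), (10, 9, -1)], [], [], [], [], [], [], [(5, 1, 1),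
    (14, 10, -1)], [(5, 2, 1), (13, 10, -1)], [(5, 3, 1), (12, 10, -1)], [(5, 4, 1), (11, 10, -1)],
    [(4, 1, 1), (14, 11, -1)], [(4, 2, 1), (13, 11, -1)], [(4, 3, 1), (12, 11, -1)], [(3, 1, 1),
    (14, 12, -1)], [(3, 2, 1), (13, 12, -1)], [(2, 1, 1), (14, 13, -1)], [(1, 2, 1), (13, 14, -1)],
    [(2, 3, 1), (12, 13, -1)], [(1, 3, 1), (12, 14, -1)], [(3, 4, 1), (11, 12, -1)], [(2, 4, 1),
    (11, 13, -1)], [(1, 4, 1), (11, 14, -1)], [(4, 5, 1), (10, 11, -1)], [(3, 5, 1), (10, 12, -1)],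
    [(2, 5, 1), (10, 13, -1)], [(1, 5, 1), (10, 14, -1)], [], [], [], [], [], [], [(5, 6, 1),
    (9, 10, -1)], [(4, 6, 1), (9, 11, -1)], [(3, 6, 1), (9, 12, -1)], [(2, 6, 1), (9, 13, -1)],
    [(1, 6, 1), (9, 14, -1)], [(6, 7, 1), (8, 9, -1)], [], [], [], [], [], [(5, 7, -1), (8, 10, 1)],
    [(4, 7, -1), (8, 11, 1)], [(3, 7, -1), (8, 12, 1)], [(2, 7, -1), (8, 13, 1)], [(1, 7, -1),
    (8, 14, 1)], [], [], [], [], [], [], [], [], [], [], [(6, 8, 1), (7, 9, -1)], [], [(5, 8, 1),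
    (7, 10, -1)], [(4, 8, 1), (7, 11, -1)], [(3, 8, 1), (7, 12, -1)], [(2, 8, 1), (7, 13, -1)],
    [(1, 8, 1), (7, 14, -1)], [(5, 9, 1), (6, 10, -1)], [(4, 9, 1), (6, 11, -1)], [(3, 9, 1),
    (6, 12, -1)], [(2, 9, 1), (6, 13, -1)], [(1, 9, 1), (6, 14, -1)], [], [], [], [], [], [], [],
    [], [], [], [(4, 10, -1), (5, 11, 1)], [(3, 10, -1), (5, 12, 1)], [(2, 10, -1), (5, 13, 1)],
    [(1, 10, -1), (5, 14, 1)], [(3, 11, -1), (4, 12, 1)], [(2, 11, -1), (4, 13, 1)], [(1, 11, -1),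
    (4, 14, 1)], [(2, 12, -1), (3, 13, 1)], [(1, 12, -1), (3, 14, 1)], [(1, 13, -1), (2, 14, 1)],
    [], [], [], [], [], [], [], [], [], [], [], [], [], [], [], [], [], [], [], [], [(0, 1, 1),
    (14, 15, -1)], [(0, 2, -1), (13, 15, 1)], [(0, 3, 1), (12, 15, -1)], [(0, 4, -1), (11, 15, 1)],
    [(0, 5, 1), (10, 15, -1)], [], [], [], [], [], [(0, 6, -1), (9, 15, 1)], [(0, 7, 1),
    (8, 15, -1)], [], [], [], [], [], [(0, 8, 1), (7, 15, -1)], [], [(0, 9, 1), (6, 15, -1)], [],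
    [(0, 10, 1), (5, 15, -1)], [(0, 11, 1), (4, 15, -1)], [(0, 12, 1), (3, 15, -1)], [(0, 13, 1),
    (2, 15, -1)], [(0, 14, 1), (1, 15, -1)]] : List (List (Tm0 16))).getD r []

/-- Twice the weights of the natural module on the simple coroots. -/
def d8W (a : Fin 16) (i : ℕ) : ℤ := gt
  [[0, 0, -1, 1, 0, 0, 0, 0], [0, 0, 1, -1, 0, 0, 0, 2], [0, 0, 1, -1, 0, 0, 2, -2], [0, 0, 1, -1,
    0, 2, -2, 0], [0, 0, 1, -1, 2, -2, 0, 0], [0, 0, 1, 1, -2, 0, 0, 0], [2, 2, -1, -1, 0, 0, 0, 0],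
    [2, -2, -1, 1, 0, 0, 0, 0], [-2, 2, 1, -1, 0, 0, 0, 0], [-2, -2, 1, 1, 0, 0, 0, 0], [0, 0, -1,
    -1, 2, 0, 0, 0], [0, 0, -1, 1, -2, 2, 0, 0], [0, 0, -1, 1, 0, -2, 2, 0], [0, 0, -1, 1, 0, 0, -2,
    2], [0, 0, -1, 1, 0, 0, 0, -2], [0, 0, 1, -1, 0, 0, 0, 0]] a i

/-- In characteristic three, `1 / 2 = -1`. -/
def d8H (i : ℕ) : List (Tm0 16) := (List.finRange 16).map fun a => (a, a, -d8W a i)

noncomputable def ρ8 : V →ₗ[K] M16 := rhoT chevE8 d8H d8E K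

def Rep1aStmt : Prop := ∀ z, Lab C8 (-1) z f1 → ∀ g, Commute z g → ∃ A, (g, A) ∈ relG ρ8

def Rep1bStmt : Prop := ∀ z, Lab C8 (-1) z f1 → (∀ v, (ρ8 v)ᵀ * J16 = -(J16 * ρ8 v)) ∧
  (∀ X : M16, Xᵀ * J16 = -(J16 * X) → ∃ v ∈ eig z 1, ρ8 v = X) ∧ ∀ v ∈ eig z 1, ρ8 v = 0 → v = 0

theorem rep1_of (a : Rep1aStmt) (b : Rep1bStmt) (z : GK) (h : Lab C8 (-1) z f1) : Rep1 z ρ8 :=
  ⟨(b z h).1, (b z h).2.1, (b z h).2.2, fun g hg => (a z h g hg).imp fun _ hA v => hA v⟩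

def Rep (z : GK) (ψ : V →ₗ[K] M16) : Prop :=
  (∀ v, (ψ v)ᵀ = -ψ v) ∧ (∀ Y : M16, Yᵀ = -Y → ∃ v ∈ eig z 1, ψ v = Y) ∧
  (∀ v ∈ eig z 1, ψ v = 0 → v = 0) ∧
  ∀ g, Commute z g → ∃ A : M16, Aᵀ * J16 * A = J16 ∧ ∀ v ∈ eig z 1, ψ (act g v) = A * ψ v * Aᵀ

def Rep2Stmt : Prop := ∀ z ρ, Rep1 z ρ → ∃ ψ, Rep z ψ

/-- The skew matrices `Y` with `A Y Aᵀ = c Y`. -/
def skE (A : M16) (c : K) : Submodule K M16 where
  carrier := {Y | Yᵀ = -Y ∧ A * Y * Aᵀ = c • Y}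
  add_mem' := fun {a b} ha hb => ⟨by rw [Matrix.transpose_add, ha.1, hb.1, neg_add], by
    rw [Matrix.mul_add, Matrix.add_mul, ha.2, hb.2, smul_add]⟩
  zero_mem' := by simp
  smul_mem' d Y hY := ⟨by rw [Matrix.transpose_smul, hY.1, smul_neg], by
    rw [Matrix.mul_smul, Matrix.smul_mul, hY.2, smul_comm]⟩

noncomputable def tsk (A : M16) : ℤ := (finrank K (skE A 1) : ℤ) - finrank K (skE A (-1))
noncomputable def nul (A : M16) : ℤ := finrank K (LinearMap.ker (Matrix.toLin' A))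

def LamStmt : Prop := ∀ A : M16, Aᵀ * J16 * A = J16 → A ^ 4 = 1 →
  nul (A - 1) + nul (A + 1) + nul (A * A + 1) = 16 ∧
  2 * tsk A = (nul (A - 1) - nul (A + 1)) ^ 2 - (nul (A - 1) + nul (A + 1)) + nul (A * A + 1)

def UniqStmt : Prop := ∀ A B : M16, IsUnit A → (∀ Y : M16, Yᵀ = -Y → A * Y * Aᵀ = B * Y * Bᵀ) →
  B = A ∨ B = -A

def TskStmt : Prop := ∀ (z g : GK) (ψ : V →ₗ[K] M16) (A : M16), z * z = 1 → Rep z ψ → Commute z g →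
  (∀ v ∈ eig z 1, ψ (act g v) = A * ψ v * Aᵀ) → 2 * tsk A = tau g + tau (g * z)

def Div4Stmt : Prop := ∀ (W : Type) [AddCommGroup W] [Module K W] [FiniteDimensional K W]
  (I J I' J' : Module.End K W), I * I = -1 → J * J = -1 → I * J * (I * J) = -1 → I' * I' = -1 →
  J' * J' = -1 → I' * J' * (I' * J') = -1 → Commute I I' → Commute I J' → Commute J I' → Commute J J' →
  4 ∣ finrank K W

/-- Orthogonal lifts: a projective representation of `Q₈³` with the traces on the skew matrices. -/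
def LiftS (L : Q3 → M16) : Prop :=
  (∀ g, (L g)ᵀ * J16 * L g = J16) ∧ (∀ g g', L (g * g') = L g * L g' ∨ L (g * g') = -(L g * L g')) ∧
  (∀ g, g = (QuaternionGroup.a 2, 1, 1) ∨ cls g = 0 → L g = 1 ∨ L g = -1) ∧
  ∀ g, 2 * tsk (L g) = [248, -8, 8, 8, 8, -8].getD (cls g) 0 +
    [248, -8, 8, 8, 8, -8].getD (cls (g * (QuaternionGroup.a 2, 1, 1))) 0

def LiftStmt : Prop := ∀ φ : Q3 →* GK, TabS φ → ∃ L, LiftS L

def FinStmt : Prop := ∀ L, ¬ LiftS L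

end Cfsg.Agent.H50.E83
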