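import Cfsg.Agent.H50.DerMain
import Cfsg.Agent.H33.DerCh1
import Cfsg.Agent.H20.DerS1
import Cfsg.Agent.H8.DerLinB
import Cfsg.Agent.H28.DerCh2
import Cfsg.Agent.H60.DerLinA
import Cfsg.Agent.H62.DerLinE
import Cfsg.Agent.H65.DerSid
import Cfsg.Agent.H86.DerCent
import Cfsg.Agent.H75.DerFix
import Cfsg.Agent.H72.DerFo
import Cfsg.Agent.H80.DerRed
import Cfsg.Agent.H31.DerLinO
import Cfsg.Agent.H61.DerDual
import Cfsg.Agent.H47.DerOrb
import Cfsg.Agent.H57.DerChar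

set_option autoImplicit false

namespace Cfsg.Agent.H50.Der

universe u v

theorem mainOf (pc : PCStmt.{u}) : MainStmt.{u,v} :=
  main (H20.Der.s1 H75.DerFix.fix (H75.DerFix.l1 H75.DerFix.fix) H72.DerFo.fo)
    (H80.DerRed.lin H60.DerLinA.linA H8.DerB.linB (H31.DerLin.linO pc) (H62.DerE.linE pc))
    (H57.DerC.char (H47.DerO.ch0 H86.DerCent.cent H33.DerCh1.ch1 H28.DerCh2.ch2
      H61.DerDual.dualS H65.DerSid.sid))

end Cfsg.Agent.H50.Der
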