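import Cfsg.Agent.H50.DerDefs
import Cfsg.Agent.H62.Derangement
import Cfsg.Agent.S3549

set_option autoImplicit false

namespace Cfsg.Agent.H50.Der

open MulAction

universe u v

theorem cov_index {G : Type u} [Group G] {D M : Subgroup G} [D.Normal] (h : Cov D M) :
    (D.subgroupOf M).index = D.index := by
  have h1 : M ⊔ D = ⊤ := by
    rw [eq_top_iff]
    intro g _
    obtain ⟨u, hu, hd⟩ := h g
    have : g = u * (u⁻¹ * g) := by group
    rw [this]
    exact Subgroup.mul_mem_sup hu hd
  have := Subgroup.relIndex_sup_right M D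
  rw [h1, Subgroup.relIndex_top_right] at this
  exact this.symm

theorem reg_card {G : Type u} {Ω : Type v} [Group G] [MulAction G Ω] {Q : Subgroup G}
    (h : Reg Ω Q) (ω : Ω) : Nat.card Q = Nat.card Ω := by
  refine Nat.card_congr (Equiv.ofBijective (fun z : Q => (z : G) • ω) ⟨?_, ?_⟩)
  · intro a b hab
    have h1 : ((b : G)⁻¹ * a) • ω = ω := by
      rw [mul_smul, inv_smul_eq_iff]; exact hab
    have := h.2 _ (Q.mul_mem (Q.inv_mem b.2) a.2) ω h1
    exact Subtype.ext (by rw [inv_mul_eq_one] at this; exact this.symm)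
  · intro a
    obtain ⟨z, hz, e⟩ := h.1 ω a
    exact ⟨⟨z, hz⟩, e⟩

theorem main (s1 : S1Stmt.{u,v}) (lin : LinStmt.{u}) (ch : CharStmt.{u,v}) : MainStmt.{u,v} := by
  intro G Ω _ _ _ _ _ D hc h2 hn
  rcases s1 G Ω D hc h2 hn with h | ⟨q, Q, ω, hq, hpg, hQD, hreg, hcm, hcop, hcov⟩
  · exact Or.inl h
  haveI := hc.nrm
  set M : Subgroup G := Subgroup.normalizer (Q : Set G) ⊓ stabilizer G ω with hM
  have hcj : ∀ m ∈ Subgroup.normalizer (Q : Set G), ∀ z ∈ Q, m * z * m⁻¹ ∈ Q := by
    intro m hm z hz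
    exact (Subgroup.mem_normalizer_iff.1 hm z).1 hz
  -- an element of `M` commuting with `z` fixes `z • ω`
  have hfix : ∀ m ∈ M, ∀ z : G, m * z = z * m → m • z • ω = z • ω := by
    intro m hm z e
    rw [← mul_smul, e, mul_smul, show m • ω = ω from hm.2]
  have hfpf : ∀ m ∈ M, m ∉ D → ∀ z ∈ Q, m * z = z * m → z = 1 := by
    intro m hm hD z hz e
    exact hreg.2 z hz ω (hc.uq m hD _ _ (hfix m hm z e) hm.2)
  by_cases hs : ∀ g ∈ D, g • ω = ω → g ∈ Subgroup.normalizer (Q : Set G) →
      ∀ z ∈ Q, z ≠ 1 → g * z = z * g → g = 1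
  · have hsM : ∀ m ∈ M, ∀ a : Ω, a ≠ ω → m • a = a → m = 1 := by
      intro m hm a ha e
      obtain ⟨z, hz, rfl⟩ := hreg.1 ω a
      have hz1 : z ≠ 1 := by rintro rfl; exact ha (one_smul _ _)
      have e1 : (z⁻¹ * (m * z * m⁻¹)) • ω = ω := by
        have : m⁻¹ • ω = ω := by rw [inv_smul_eq_iff]; exact hm.2.symm
        rw [mul_smul, mul_smul, this, mul_smul, e, inv_smul_smul]
      have e2 := hreg.2 _ (Q.mul_mem (Q.inv_mem hz) (hcj m hm.1 z hz)) ω e1
      have e3 : m * z = z * m := by
        rw [inv_mul_eq_one] at e2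
        calc m * z = (m * z * m⁻¹) * m := by group
          _ = z * m := by rw [← e2]
      by_cases hD : m ∈ D
      · exact hs m hD hm.2 hm.1 z hz hz1 e3
      · exact absurd (hfpf m hm hD z hz e3) hz1
    by_cases hN : D ≤ Subgroup.normalizer (Q : Set G)
    · right
      have htop : ∀ g : G, g ∈ Subgroup.normalizer (Q : Set G) := by
        intro g
        obtain ⟨u, hu, hd⟩ := hcov g
        have : g = u * (u⁻¹ * g) := by group
        rw [this]
        exact Subgroup.mul_mem _ hu.1 (hN hd)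
      refine ⟨⟨Q, ⟨fun z hz g => hcj g (htop g) z hz⟩, hcm, ?_⟩, ?_⟩
      · rintro rfl
        have := reg_card hreg ω
        simp at this
        omega
      · intro g hg a b ha hb
        by_contra hab
        obtain ⟨z, -, rfl⟩ := hreg.1 ω a
        have h1 : z⁻¹ * g * z ∈ M := ⟨htop _, by
          show (z⁻¹ * g * z) • ω = ω
          rw [mul_smul, mul_smul, ha, inv_smul_smul]⟩
        have h3 := hsM _ h1 (z⁻¹ • b) (fun e => hab (by rw [← e, smul_inv_smul])) (by
          rw [mul_smul, mul_smul, smul_inv_smul, hb])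
        apply hg
        calc g = z * (z⁻¹ * g * z) * z⁻¹ := by group
          _ = 1 := by rw [h3]; group
    · left
      haveI : Nontrivial Ω := Finite.one_lt_card_iff_nontrivial.1 (by omega)
      obtain ⟨a, ha⟩ := exists_ne ω
      obtain ⟨x, hx⟩ : ∃ x : G, x ∉ D := by
        by_contra h
        push Not at h
        have : D = ⊤ := by rw [eq_top_iff]; exact fun x _ => h x
        rw [this, Subgroup.index_top] at h2
        omega
      obtain ⟨m, hm, hd⟩ := hcov x
      have hmD : m ∉ D := fun h => hx (by simpa using D.mul_mem h hd)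
      refine ch G Ω D Q ω q hq hpg hQD hreg hcm hcop hs hN ⟨a, m • a, ha, ?_, ?_⟩ _ ?_
      · intro e
        apply ha
        have : m • a = m • ω := by rw [e]; exact hm.2.symm
        exact smul_left_cancel m this
      · intro g hg hgω e
        have h1 : m⁻¹ * g ∉ D := fun h => hmD (by
          have := D.mul_mem hg (D.inv_mem h)
          simpa using this)
        apply ha
        refine hc.uq _ h1 _ _ ?_ ?_
        · rw [mul_smul, e, inv_smul_smul]
        · rw [mul_smul, hgω, inv_smul_eq_iff]; exact hm.2.symm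
      · have e1 : D.index * Nat.card ↥(D ⊓ M) = Nat.card M := by
          rw [← cov_index hcov, ← Subgroup.index_mul_card (D.subgroupOf M)]
          congr 1
          rw [← Subgroup.inf_subgroupOf_right]
          exact (Nat.card_congr (Subgroup.subgroupOfEquivOfLe inf_le_right).toEquiv).symm
        rw [e1]
        have e2 : Nat.card M ≤ Nat.card {b : Ω // b ≠ ω} := by
          refine Nat.card_le_card_of_injective
            (fun g : M => (⟨(g : G) • a, fun e => ha (smul_left_cancel (g : G)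
              (e.trans g.2.2.symm))⟩ : {b : Ω // b ≠ ω})) ?_
          intro g k e
          have e' : (g : G) • a = (k : G) • a := congrArg Subtype.val e
          have := hsM _ (M.mul_mem (M.inv_mem k.2) g.2) a ha (by
            rw [mul_smul, e', inv_smul_smul])
          exact Subtype.ext (by rw [inv_mul_eq_one] at this; exact this.symm)
        have e3 : Nat.card {b : Ω // b ≠ ω} < Nat.card Ω :=
          Finite.card_subtype_lt (p := fun b => b ≠ ω) (x := ω) (by simp)
        omega
  · left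
    push Not at hs
    obtain ⟨g, hgD, hgω, hgN, z, hz, hz1, e, hg1⟩ := hs
    letI : CommGroup Q := { (inferInstance : Group Q) with
      mul_comm := fun a b => Subtype.ext (hcm a a.2 b b.2) }
    letI : MulDistribMulAction M Q :=
      { smul := fun m z => ⟨m * z * (m : G)⁻¹, hcj m m.2.1 z z.2⟩
        one_smul := fun z => Subtype.ext (by
          show ((1 : M) : G) * z * ((1 : M) : G)⁻¹ = z
          simp)
        mul_smul := fun a b z => Subtype.ext (by
          show ((a * b : M) : G) * z * ((a * b : M) : G)⁻¹ =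
            (a : G) * ((b : G) * z * (b : G)⁻¹) * (a : G)⁻¹
          simp [mul_assoc])
        smul_mul := fun a x y => Subtype.ext (by
          show (a : G) * ((x : G) * y) * (a : G)⁻¹ =
            ((a : G) * x * (a : G)⁻¹) * ((a : G) * y * (a : G)⁻¹)
          group)
        smul_one := fun a => Subtype.ext (by
          show (a : G) * 1 * (a : G)⁻¹ = 1
          simp) }
    have hsm : ∀ (m : M) (w : Q), m • w = w ↔ (m : G) * w = w * m := by
      intro m w
      rw [Subtype.ext_iff]
      show (m : G) * w * (m : G)⁻¹ = w ↔ _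
      rw [mul_inv_eq_iff_eq_mul]
    have := lin M Q (D.subgroupOf M) inferInstance
      (fun x hx w hw => Subtype.ext (hfpf x x.2 hx w w.2 ((hsm x w).1 hw)))
      (fun x hx => Subtype.ext (eq_of_smul_eq_smul (α := Ω) (fun a => by
        obtain ⟨w, hw, rfl⟩ := hreg.1 ω a
        rw [hfix x x.2 w ((hsm x ⟨w, hw⟩).1 (hx _))]
        simp)))
      (by
        haveI := Fact.mk hq
        obtain ⟨k, hk⟩ := IsPGroup.iff_card.1 hpg
        rw [hk]
        apply Nat.Coprime.pow_left
        rw [Nat.Prime.coprime_iff_not_dvd hq]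
        intro hd
        apply hcop
        refine hd.trans ?_
        rw [← Subgroup.inf_subgroupOf_right,
          Nat.card_congr (Subgroup.subgroupOfEquivOfLe inf_le_right).toEquiv]
        exact Subgroup.card_dvd_of_le (inf_le_inf_left D inf_le_right))
      ⟨⟨g, hgN, hgω⟩, hgD, fun h => hg1 (congrArg Subtype.val h), ⟨z, hz⟩,
        fun h => hz1 (congrArg Subtype.val h), (hsm _ _).2 e⟩
    rwa [cov_index hcov, reg_card hreg ω] at this

theorem ctx_der (G : Type u) (Ω : Type v) [Group G] [Finite G] [MulAction G Ω] [Finite Ω]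
    [IsPretransitive G Ω] : Ctx Ω (Subgroup.closure {g : G | ∀ ω : Ω, g • ω ≠ ω}) := by
  have h := H62.transitive_and_fix_one (X := Ω) (Subgroup.closure {g : G | ∀ ω : Ω, g • ω ≠ ω})
    H62.exists_fixed_of_notMem_closure_derangements
  refine ⟨H62.closure_derangements_normal G Ω, ?_,
    H62.exists_fixed_of_notMem_closure_derangements, ?_⟩
  · intro a b
    obtain ⟨d, hd⟩ := h.1.exists_smul_eq a b
    exact ⟨d, d.2, hd⟩
  · intro x hx a b ha hb
    have h1 := (Nat.card_eq_one_iff_unique.1 (h.2 x hx)).1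
    exact congrArg Subtype.val (Subsingleton.elim (⟨a, ha⟩ : fixedBy Ω x) ⟨b, hb⟩)

theorem le_sqrt {h n : ℕ} (e : (h + 1) ^ 2 ≤ n) : (h : ℝ) ≤ Real.sqrt n - 1 := by
  rw [le_sub_iff_add_le]
  apply Real.le_sqrt_of_sq_le
  exact_mod_cast e

theorem four_le {G : Type u} {Ω : Type v} [Group G] [Finite G] [MulAction G Ω] [FaithfulSMul G Ω]
    [Finite Ω] [IsPretransitive G Ω] (hΩ : 2 ≤ Nat.card Ω)
    (hna : ∀ N : Subgroup G, N.Normal → IsMulCommutative ↥N → N = ⊥) : 4 ≤ Nat.card Ω := by
  classical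
  by_contra h4
  haveI : Nonempty Ω := (Nat.card_pos_iff.1 (by omega)).1
  obtain ⟨ω⟩ : Nonempty Ω := inferInstance
  have hp : (Nat.card Ω).Prime := by
    have : Nat.card Ω = 2 ∨ Nat.card Ω = 3 := by omega
    rcases this with e | e <;> rw [e] <;> norm_num
  have hd : Nat.card G ∣ (Nat.card Ω).factorial := by
    rw [← Nat.card_perm]
    exact Subgroup.card_dvd_of_injective (toPermHom G Ω) toPerm_injective
  have hq : Nat.card Ω ∣ Nat.card G := by
    rw [← index_stabilizer_of_transitive G ω]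
    exact Subgroup.index_dvd_card _
  haveI := Fact.mk hp
  obtain ⟨g, hg⟩ := exists_prime_orderOf_dvd_card' (Nat.card Ω) hq
  have hi := Subgroup.index_mul_card (Subgroup.zpowers g)
  rw [Nat.card_zpowers, hg] at hi
  have hle : (Subgroup.zpowers g).index ≤ 2 := by
    have h1 := Nat.le_of_dvd (Nat.factorial_pos _) hd
    have : Nat.card Ω = 2 ∨ Nat.card Ω = 3 := by omega
    rcases this with e | e <;> rw [e] at h1 hi <;> simp [Nat.factorial] at h1 <;> omega
  have h0 : (Subgroup.zpowers g).index ≠ 0 := Subgroup.index_ne_zero_of_finite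
  have hN : (Subgroup.zpowers g).Normal := by
    have : (Subgroup.zpowers g).index = 1 ∨ (Subgroup.zpowers g).index = 2 := by omega
    rcases this with e | e
    · rw [Subgroup.index_eq_one.1 e]; infer_instance
    · exact Subgroup.normal_of_index_eq_two e
  have := hna _ hN inferInstance
  rw [Subgroup.zpowers_eq_bot] at this
  rw [this, orderOf_one] at hg
  omega

theorem fin3550 (m : MainStmt.{u,v}) {G : Type u} {Ω : Type v} [Group G] [Finite G] [MulAction G Ω]
    [FaithfulSMul G Ω] [Finite Ω] (hprim : IsPreprimitive G Ω) (hΩ : 2 ≤ Nat.card Ω)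
    (hna : ∀ N : Subgroup G, N.Normal → IsMulCommutative ↥N → N = ⊥) :
    ((Subgroup.closure {g : G | ∀ ω : Ω, g • ω ≠ ω}).index : ℝ) ≤ Real.sqrt (Nat.card Ω) - 1 := by
  apply le_sqrt
  have h0 : (Subgroup.closure {g : G | ∀ ω : Ω, g • ω ≠ ω}).index ≠ 0 :=
    Subgroup.index_ne_zero_of_finite
  by_cases h2 : 2 ≤ (Subgroup.closure {g : G | ∀ ω : Ω, g • ω ≠ ω}).index
  · rcases m G Ω _ (ctx_der G Ω) h2 hΩ with h | ⟨⟨Q, hN, hc, hQ⟩, -⟩
    · exact h
    · exact absurd (hna Q hN ⟨⟨fun a b => Subtype.ext (hc a a.2 b b.2)⟩⟩) hQ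
  · have := four_le hΩ hna
    rw [show (Subgroup.closure {g : G | ∀ ω : Ω, g • ω ≠ ω}).index = 1 by omega]
    omega

theorem fin5732 (m : MainStmt.{u,v}) : ∃ N : ℕ, ∀ (G : Type u) (Ω : Type v) [Group G] [Finite G]
    [MulAction G Ω] [FaithfulSMul G Ω] [Fintype Ω],
      MulAction.IsPretransitive G Ω → N ≤ Fintype.card Ω →
      (MulAction.IsPreprimitive G Ω ∧ (MulAction.IsPretransitive G Ω ∧
        (∃ g : G, g ≠ 1 ∧ ∃ ω : Ω, g • ω = ω) ∧
        ∀ g : G, g ≠ 1 → Nat.card (MulAction.fixedBy Ω g) ≤ 1)) ∨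
      ((Subgroup.closure {g : G | ∀ ω : Ω, g • ω ≠ ω}).index : ℝ) ≤
        Real.sqrt (Fintype.card Ω) - 1 := by
  refine ⟨4, fun G Ω _ _ _ _ _ htr hn => ?_⟩
  rw [← Nat.card_eq_fintype_card] at hn ⊢
  by_cases hp : IsPreprimitive G Ω
  swap
  · exact Or.inr (Cfsg.Agent.S3549.result htr hp)
  have h0 : (Subgroup.closure {g : G | ∀ ω : Ω, g • ω ≠ ω}).index ≠ 0 :=
    Subgroup.index_ne_zero_of_finite
  by_cases h2 : 2 ≤ (Subgroup.closure {g : G | ∀ ω : Ω, g • ω ≠ ω}).index
  · rcases m G Ω _ (ctx_der G Ω) h2 (by omega) with h | ⟨-, h⟩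
    · exact Or.inr (le_sqrt h)
    · refine Or.inl ⟨hp, htr, ?_, fun g hg => ?_⟩
      · obtain ⟨x, hx⟩ : ∃ x : G, x ∉ Subgroup.closure {g : G | ∀ ω : Ω, g • ω ≠ ω} := by
          by_contra h
          push Not at h
          have : Subgroup.closure {g : G | ∀ ω : Ω, g • ω ≠ ω} = ⊤ := by
            rw [eq_top_iff]; exact fun x _ => h x
          rw [this, Subgroup.index_top] at h2
          omega
        exact ⟨x, fun e => hx (e ▸ Subgroup.one_mem _), (ctx_der G Ω).ex x hx⟩
      · rw [Finite.card_le_one_iff_subsingleton]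
        exact ⟨fun a b => Subtype.ext (h g hg a b a.2 b.2)⟩
  · refine Or.inr (le_sqrt ?_)
    rw [show (Subgroup.closure {g : G | ∀ ω : Ω, g • ω ≠ ω}).index = 1 by omega]
    omega

end Cfsg.Agent.H50.Der
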