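import Mathlib
import Cfsg.Agent.H34.E7Two
import Cfsg.Agent.H29.AS7
import Cfsg.Agent.H29.AS3
import Cfsg.Statements.S5935

/-! Definitions and statements of the pieces: maximal subgroups of `E₇(2)` through the module of
dimension 56. -/

set_option autoImplicit false
set_option maxRecDepth 100000

namespace Cfsg.Agent.H50.E72

open Equiv Cfsg.Lie H37 H40 H34 H29 Module Multiplicative
open scoped Matrix MatrixGroups

universe u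

abbrev K : Type := AlgebraicClosure (ZMod 2)
noncomputable def C7 : Cert chevE7 := cert (by simp)
abbrev G0 : Type := chevE7.group (ZMod 2)
abbrev GK : Type := chevE7.group K
abbrev Rt : Type := Fin chevE7.nroots
abbrev M56 (F : Type) : Type := Matrix (Fin 56) (Fin 56) F

/-! ### The module of dimension 56 -/

def wtT : List (List ℤ) := [[0, 0, 0, 0, 0, 0, 1], [0, 0, 0, 0, 0, 1, -1], [0, 0, 0, 0, 1, -1,
    0], [0, 0, 0, 1, -1, 0, 0], [0, 1, 1, -1, 0, 0, 0], [1, 1, -1, 0, 0, 0, 0], [0, -1, 1, 0, 0, 0,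
    0], [1, -1, -1, 1, 0, 0, 0], [-1, 1, 0, 0, 0, 0, 0], [1, 0, 0, -1, 1, 0, 0], [-1, -1, 0, 1, 0,
    0, 0], [1, 0, 0, 0, -1, 1, 0], [-1, 0, 1, -1, 1, 0, 0], [1, 0, 0, 0, 0, -1, 1], [-1, 0, 1, 0,
    -1, 1, 0], [0, 0, -1, 0, 1, 0, 0], [1, 0, 0, 0, 0, 0, -1], [-1, 0, 1, 0, 0, -1, 1], [0, 0, -1,
    1, -1, 1, 0], [-1, 0, 1, 0, 0, 0, -1], [0, 0, -1, 1, 0, -1, 1], [0, 1, 0, -1, 0, 1, 0], [0, 0,
    -1, 1, 0, 0, -1], [0, 1, 0, -1, 1, -1, 1], [0, -1, 0, 0, 0, 1, 0], [0, 1, 0, -1, 1, 0, -1], [0,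
    1, 0, 0, -1, 0, 1], [0, -1, 0, 0, 1, -1, 1], [0, 1, 0, 0, -1, 1, -1], [0, -1, 0, 0, 1, 0, -1],
    [0, -1, 0, 1, -1, 0, 1], [0, 1, 0, 0, 0, -1, 0], [0, -1, 0, 1, -1, 1, -1], [0, 0, 1, -1, 0, 0,
    1], [0, -1, 0, 1, 0, -1, 0], [0, 0, 1, -1, 0, 1, -1], [1, 0, -1, 0, 0, 0, 1], [0, 0, 1, -1, 1,
    -1, 0], [1, 0, -1, 0, 0, 1, -1], [-1, 0, 0, 0, 0, 0, 1], [0, 0, 1, 0, -1, 0, 0], [1, 0, -1, 0,
    1, -1, 0], [-1, 0, 0, 0, 0, 1, -1], [1, 0, -1, 1, -1, 0, 0], [-1, 0, 0, 0, 1, -1, 0], [1, 1, 0,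
    -1, 0, 0, 0], [-1, 0, 0, 1, -1, 0, 0], [1, -1, 0, 0, 0, 0, 0], [-1, 1, 1, -1, 0, 0, 0], [0, 1,
    -1, 0, 0, 0, 0], [-1, -1, 1, 0, 0, 0, 0], [0, -1, -1, 1, 0, 0, 0], [0, 0, 0, -1, 1, 0, 0], [0,
    0, 0, 0, -1, 1, 0], [0, 0, 0, 0, 0, -1, 1], [0, 0, 0, 0, 0, 0, -1]]

def dbT : List (List ℤ) := [[2, 3, 4, 6, 5, 4, 3], [2, 3, 4, 6, 5, 4, 1], [2, 3, 4, 6, 5, 2, 1],
    [2, 3, 4, 6, 3, 2, 1], [2, 3, 4, 4, 3, 2, 1], [2, 3, 2, 4, 3, 2, 1], [2, 1, 4, 4, 3, 2, 1], [2,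
    1, 2, 4, 3, 2, 1], [0, 3, 2, 4, 3, 2, 1], [2, 1, 2, 2, 3, 2, 1], [0, 1, 2, 4, 3, 2, 1], [2, 1,
    2, 2, 1, 2, 1], [0, 1, 2, 2, 3, 2, 1], [2, 1, 2, 2, 1, 0, 1], [0, 1, 2, 2, 1, 2, 1], [0, 1, 0,
    2, 3, 2, 1], [2, 1, 2, 2, 1, 0, -1], [0, 1, 2, 2, 1, 0, 1], [0, 1, 0, 2, 1, 2, 1], [0, 1, 2, 2,
    1, 0, -1], [0, 1, 0, 2, 1, 0, 1], [0, 1, 0, 0, 1, 2, 1], [0, 1, 0, 2, 1, 0, -1], [0, 1, 0, 0, 1,
    0, 1], [0, -1, 0, 0, 1, 2, 1], [0, 1, 0, 0, 1, 0, -1], [0, 1, 0, 0, -1, 0, 1], [0, -1, 0, 0, 1,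
    0, 1], [0, 1, 0, 0, -1, 0, -1], [0, -1, 0, 0, 1, 0, -1], [0, -1, 0, 0, -1, 0, 1], [0, 1, 0, 0,
    -1, -2, -1], [0, -1, 0, 0, -1, 0, -1], [0, -1, 0, -2, -1, 0, 1], [0, -1, 0, 0, -1, -2, -1], [0,
    -1, 0, -2, -1, 0, -1], [0, -1, -2, -2, -1, 0, 1], [0, -1, 0, -2, -1, -2, -1], [0, -1, -2, -2,
    -1, 0, -1], [-2, -1, -2, -2, -1, 0, 1], [0, -1, 0, -2, -3, -2, -1], [0, -1, -2, -2, -1, -2, -1],
    [-2, -1, -2, -2, -1, 0, -1], [0, -1, -2, -2, -3, -2, -1], [-2, -1, -2, -2, -1, -2, -1], [0, -1,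
    -2, -4, -3, -2, -1], [-2, -1, -2, -2, -3, -2, -1], [0, -3, -2, -4, -3, -2, -1], [-2, -1, -2, -4,
    -3, -2, -1], [-2, -1, -4, -4, -3, -2, -1], [-2, -3, -2, -4, -3, -2, -1], [-2, -3, -4, -4, -3,
    -2, -1], [-2, -3, -4, -6, -3, -2, -1], [-2, -3, -4, -6, -5, -2, -1], [-2, -3, -4, -6, -5, -4,
    -1], [-2, -3, -4, -6, -5, -4, -3]]

def eT : List ℕ := [
  0xa1bcdda5eb2748f9c6ca2e313087742b20d5027,
  0xa7bd1da76b334959c8c435e12d07582a40cc024,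
  0xadbd4da96b3f415908c03de16d87442960c7021,
  0xb3bd7daaea3f319909be45d16b89402880c001e,
  0xb9bdad8ae84b31d90bbc458169092838a0bb01b,
  0xbfb9ad4be85332390dbe455166891c38213a018,
  0x3fb1cd4ce85b327910bc44e1640908378136058,
  0xbbbdbdac6b3f19984aba4db1eb8d4427e0b901a,
  0xc1bded8c694b19d84bb45581e90d2c37c0b2017,
  0xc5b9ed4de9531a384db65551e68d18370133015,
  0x45b20d4ee95b1a7850b454e1e40d0c36a12f055,
  0xc7be1dac675711d70cb05d62698d1447e0ad014,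
  0xcbba1d6de75f12370dae6552660d0047212c012,
  0x4bb23d6ee767127710ac64e2648cf4468128052,
  0xd1be1d2f676b1a364eaa6d32e68cec4661ad00f,
  0x51b63d3067731a7650a474e2e40cd845c1a904f,
  0xd1ae5d31677f1275119c84c3648cc44561a508f,
  0xcdbe4d8c645702570fb25d12658f1457c0a6011,
  0xd3ba4d4de45f02974faa6d02630f0057012700e,
  0x53b26d4ee46702d750a07cf2618ef456a12304e,
  0xd7be4d0f646b0a9652a86ca2e38eec5641a600c,
  0x57b66d1064730ad6129c84b2e10ed855e1a204c,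
  0xd7ae9d11647f02d5149e8473618ec455419c08c,
  0xdbba4cd0e56aeaf655aa6c52e092e855822700a,
  0x5bb26cd1e572eb36159e8442de12dc55222304a,
  0xdbaa9cd2e57ee335179c84035e92c054821d08a,
  0x5ba2bcd4647ec3951a9e83b35b96c453e2190ca,
  0xdfbe4c70e17aeb7658a86be2dc12c8758326008,
  0x5fb66c71e182ebb6189c83f2da92bc752322048,
  0xdfae9c72e18ae3b51b9e83935a12a874831c088,
  0x5fa6bc74608ac4151e9c83235716ac73e3180c8,
  0xdf9edc545c96c475219e82d354969493c314108,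
  0x5f92dc15dca6c4d5249c8263511670930394148,
  0x55ba7d8c5e56d2558fa4750325151087c0a000d,
  0x59be7d4dde5ed29591a27cd323950487012100b,
  0xd9b6ad4ede66d2d593a07c832114f086a11b04b,
  0x5dba7d0f5e6ada94d29a8cb3a314e88641a0009,
  0xddb2ad105e72dad4d3949483a194dc85e19a049,
  0x5daacd115e7ed2d314909c646114c0854196089,
  0x61be7cd0df6abaf4d5988c43a018ec858221007,
  0xe1b6acd1df72bb3495909c539e98d885221b047,
  0x61aeccd2df7eb33317929c145e18c4848217087,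
  0xe1a6ecd45e7e93931a909ba45b1cc083e2130c7,
  0x63ba7c925e6a82f2958ca444a01ee884c2a0006,
  0xe3b2ac935e728332968aac349e9edc84629a046,
  0x63aacc94de7e8b31d786b4151e1ec0838296086,
  0xe3a2ec95df7e5b91da84b3a51b24c48322920c6,
  0x639b0c96de7e23901a78cba5db2ac082828e106,
  0x65ba7c70db7abb74d89a8bf39c98cca58320005,
  0xe5b2ac71db82bbb498929be39a18b8a5231a045,
  0x65aacc72db8ab3b31b909b845a98aca48316085,
  0xe5a2ec745a8a94131e929b34579ca8a3e3120c5,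
  0x659b0c545696947321909ac4541c90c3c30e105,
  0xe7ba7c125b7a8b72d88ca3e49c1ecca4e3a0004,
  0x67b2ac135b828bb29884b3f49a9eb8a4439a044,
  0xe7aacc14db8a83b19b86b3951a1eaca3a396084,
  0x67a2ec15da8a54119e84b3251724a8a303920c4,
  0x69ba7b9256868b715882bbf55c1eb0c4c4a0003,
  0xe9b2ab93568e8bb1597cc3c55a9ea4c4649a043,
  0x69aacb94d69683b01b78cb85da1e90c38496083,
  0xebba7b12528653d11a7ec3b559a4b4e4e5a0002,
  0x6bb2ab13528e54111c7cc3655724a0e4459a042,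
  0x6dba7a924c8633d01b74d385d928b114c6a0001,
  0x6fb2a9d3488e140f1d6ce346572ca134481a040,
  0x6daaca94cc9634501f70db05d52891138696081,
  0xefaac9d4c896144f1f6aeb1655ac9533a816080,
  0x6ba2eb15d2a2540e9e6ce326972478e305920c2,
  0xeda2ea95cca23c4edf64f30695a87d1326920c1,
  0x6fa2e9d5c8a21c4de062faf7152c793308120c0,
  0x699b0b96d69624702178cac5d42a90c2848e103,
  0xeb9b0b16d3a2246ea16ee2d6942a7ce2a58e102,
  0x6d9b0a96cda20caea160fad692ae7912868e101,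
  0xef9b09d6c9a1ecade360fa8712327d32a80e100,
  0x67931c15d0a654d1a484b265112470f3038c144,
  0xe9931bb6d0a624d0247aca75d1aa70f2a48c143,
  0x6b931b36cbae24cea46ce26691aa6522858c142,
  0xed931ab6c7ae0d2ea462fa668e2e6142a68c141,
  0x6f9319f6c3aded2de662fa370eb26562880c140,
  0x678b2c17da89f40e1e68eb26d730a8a2038a184,
  0xe98b2b97d795fc6e6168eac6d43094c2248a183,
  0x6b8b2b17d2a1fc6ce15f02d7943078e2058a182,
  0xed8b2a97cca1c4aca25b0ab792b67d12268a181,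
  0x6f8b29d7c8a1a4aba3551288123a7932080a180,
  0xe9873b97d0a5f4ce2468ea66d13070f224891c3,
  0x6b873b17cbadf4cca45f02779130652205891c2,
  0xed873a97c7adcd2ca45512778eb6614226891c1,
  0x6f8739d7c3adad2be65512280e3a656208091c0,
  0x6b734b17c4b5f4cb24511a68513051520586242,
  0xed734a97c0b5cd2b654d22484eb655722686241,
  0x6f7349d7bcb5ad2a664b2a38ce3a51920806240,
  0xed675a97bab5956b284d21e84c3c51a226852c1,
  0x6f6759d7b6b5756a284731f8ccc055c208052c0,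
  0x6f5369d7b0b55569293d41c94c4451f20802340,
  0x657b0b5756b2955327909a044d1c58c2450e205,
  0xe77f1b5750b25551a786b2150da45cf2450c204,
  0x697f1af850b225502778ca05cd2a5cf1e60c203,
  0xeb7f1a784bba254ea76ee2168d2a4921c70c202,
  0x6d7f19b847ba0d8ea760fa168bae4d41e88c201,
  0xef7f193843b9ed8dea60f9a70b324961c98c200,
  0x696b3ad950b1f54e276aea16cdb05cf16609283,
  0xeb6b3a594bb9f54ca75d02078db049214709282,
  0x6d6b399947b9cd8ca75712078b364d416889281,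
  0xef6b391943b9ad8bea5711b80bba49614989280,
  0xeb5f4a5944c1f54b27531a184db03d514706302,
  0x6d5f499940c1cd8b27492a184b3639716886301,
  0xef5f49193cc1ad8a6a4929a8cbba3d914986300,
  0x6d4b59993ac195cb684139f849bc3da16885381,
  0xef4b591936c175ca6a3f41a8c94039c14985380,
  0xef37691930c155c92c3f417949c43df14982440,
  0xeb474979c5c5f549a74532090db0355129073c2,
  0x6d4748f9c1c5cd89e94139c90b3631710a073c1,
  0xef474879bdc5ad88ea3b49b98bba35912b073c0,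
  0x6d2b58f9bbc595c9ab41398909bc35a10a04481,
  0xef2b5879b7c575c8ab375199894031c12b04480,
  0xef1f6879b1c555c72c31596a49c435f12b03500,
  0x6d13581a3bc56e09ed413949074235a0eb85541,
  0xef13579a37c54e08ed37515987c631c0cc85540,
  0xef07679a31c52e076d2d614a474a35f0cc825c0,
  0xeeef66fab1c4fe066e2b693ac7d035f0ae03680,
  0x6cfb571a32cd6649af413909054221e0cd84601,
  0xeefb569a2ecd4648af37511985c62600ee84600,
  0xeee7669a2acd26472f2d610a454a2220ee836c0,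
  0xeecf65faaaccf6462f27711ac5d022209002780,
  0xeeb7653aa5d0f645302178eb45d01e50b183840,
  0xee9f647a9dd0ce65712178cb44561a909302900,
  0xee87637a97d09e63f21b88bc04dc1ec0b5039c0]

def hT : List ℕ := [
  0xe5970c17dfbae5b6ecb15d7aaa534e79d34c924a69d14482138e1a6cc3059728a124c82038e145,
  0xe79f2c98e2c30df7adb71458203efde7aeba71cb6d9a68cb36182eb95565142088e3c61828a104,
  0xe79b2cb8e2c30d75e9a54519a64b2e4911c6861acb54509a7492228cf3c71c30c8e3861a28a104,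
  0xe9a33cf860baedb6abaf2cb8e3451618504079eb2cd75cb2d55528a124a61828a924871e2080c3,
  0xebab4d375cb2cd75a9a7450965c105e78ebb71c36dda68cb25d7a490f3e71c30c9658926186082,
  0xedb35d7658aaad34a69b2ca8e3c512082fbe71cb6d9862bae555a8a124a8a238e9a68b2e104041,
  0xefbb6db5549e7cd324931c6861c101e7aebb71c36d9a6acb25d7acb14529a6451a080d36082000]

def dec1 (x : ℕ) : Tm0 56 :=
  (Fin.ofNat 56 (x % 64), Fin.ofNat 56 (x / 64 % 64), if x / 4096 % 2 = 0 then 1 else -1)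

def dec : ℕ → ℕ → List (Tm0 56)
  | 0, _ => []
  | k + 1, x => dec1 x :: dec k (x / 8192)

def E56 (r : ℕ) : List (Tm0 56) := dec 12 (eT.getD r 0)
def H56 (i : ℕ) : List (Tm0 56) := dec 24 (hT.getD i 0)
/-- The simple roots and their negatives. -/
def sr14 : List ℕ := [93, 78, 73, 69, 66, 64, 63, 32, 47, 52, 56, 59, 61, 62]
/-- The weight of the basis vector `a`. -/
def wt (a : Fin 56) (i : Fin chevE7.rank) : ℤ := gt wtT a i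
def ρ56 (F : Type) [Field F] : (chevE7.Idx → F) →ₗ[F] M56 F := rhoT chevE7 H56 E56 F
def J56 (F : Type) [Field F] : M56 F := Matrix.of fun a b => if b = Fin.rev a then 1 else 0

/-- `A` acts on the module as `g` does. -/
def Rel (F : Type) [Field F] (g : chevE7.group F) (A : M56 F) : Prop :=
  (∀ v, A * ρ56 F v = ρ56 F (g.1.1 *ᵥ v) * A) ∧ Aᵀ * J56 F * A = J56 F

def Chk1Stmt : Prop := ∀ r ∈ sr14.take 7, chkR chevE7 H56 E56 r = true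
def Chk2Stmt : Prop := ∀ r ∈ sr14.drop 7, chkR chevE7 H56 E56 r = true

def GenStmt : Prop := ∀ (F : Type) [Field F] (P : Subgroup (chevE7.group F)),
  (∀ r ∈ sr14, ∀ t, C7.xg F r t ∈ P) → P = ⊤

def RelXStmt : Prop := ∀ (F : Type) [Field F] [CharP F 2], ∀ r ∈ sr14, ∀ t : F,
  Rel F (C7.xg F r t) (1 + t • evT0 F (E56 r))

def RelTStmt : Prop := ∀ (F : Type) [Field F] (c : Fin chevE7.rank → Fˣ),
  Rel F (C7.tg F c) (Matrix.diagonal fun a => (evw c (wt a) : Fˣ))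

def SchStmt : Prop := ∀ (F : Type) [Field F] [CharP F 2],
  (∀ A : M56 F, (∀ r ∈ sr14, A * evT0 F (E56 r) = evT0 F (E56 r) * A) → Aᵀ * J56 F * A = J56 F →
    A = 1) ∧ ∀ v : Fin 56 → F, (∀ r ∈ sr14, evT0 F (E56 r) *ᵥ v = 0) → v = 0

def RepStmt : Prop := ∀ (F : Type) [Field F] [CharP F 2], ∃ π : chevE7.group F →* M56 F,
  ∀ g A, Rel F g A ↔ A = π g

/-! ### Representations over the field of two elements -/

section rep
variable {n : Type} [Fintype n] [DecidableEq n] (π : G0 →* Matrix n n (ZMod 2))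

/-- The action after extension of scalars. -/
noncomputable def act : G0 →* Module.End K (n → K) :=
  ((Matrix.toLinAlgEquiv' : Matrix n n K ≃ₐ[K] _) : _ →* _).comp
    (((algebraMap (ZMod 2) K).mapMatrix (m := n)).toMonoidHom.comp π)

theorem act_apply (g : G0) (v : n → K) : act π g v = (π g).map (algebraMap (ZMod 2) K) *ᵥ v :=
  Matrix.toLinAlgEquiv'_apply _ _

noncomputable def eig (g : G0) (η : K) : Submodule K (n → K) := Module.End.eigenspace (act π g) η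

theorem mem_eig {g : G0} {η : K} {v : n → K} : v ∈ eig π g η ↔ act π g v = η • v :=
  Module.End.mem_eigenspace_iff

noncomputable def mu (g : G0) (η : K) : ℕ := finrank K (eig π g η)
noncomputable def fx (g : G0) : ℕ := mu π g 1
noncomputable def Fix (S : Set G0) : Submodule K (n → K) := ⨅ g ∈ S, eig π g 1

theorem mem_Fix {S : Set G0} {v : n → K} : v ∈ Fix π S ↔ ∀ g ∈ S, act π g v = v := by
  simp [Fix, mem_eig]

def HasFix (S : Set G0) : Prop := ∃ v : n → K, v ≠ 0 ∧ ∀ g ∈ S, act π g v = v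
def Inv (g : G0) (W : Submodule K (n → K)) : Prop := ∀ v ∈ W, act π g v ∈ W

/-- The weight space of a character of a homocyclic group. -/
noncomputable def wsp {k s : ℕ} (ζ : Kˣ) (x : Multiplicative (Fin k → ZMod s) →* G0)
    (χ : Fin k → ZMod s) : Submodule K (n → K) :=
  ⨅ e, eig π (x (ofAdd e)) ((ζ ^ (χ ⬝ᵥ e).val : Kˣ) : K)

end rep

/-- The adjoint module. -/
def ad : G0 →* Matrix chevE7.Idx chevE7.Idx (ZMod 2) := (Units.coeHom _).comp (Subgroup.subtype _)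

def dotZ (w : List ℤ) (a : List ℕ) : ℤ := (List.zipWith (fun (x : ℤ) (y : ℕ) => x * y) w a).sum
def cV (s : ℕ) (a : List ℕ) (k : ℕ) : ℕ := (dbT.filter fun w => (dotZ w a - 2 * k) % s == 0).length
def cL (s : ℕ) (a : List ℕ) (k : ℕ) : ℕ :=
  (if k % s = 0 then 7 else 0) + (rcE7.filter fun w => (dotZ w a - k) % s == 0).length

def Tor (π : G0 →* M56 (ZMod 2)) : Prop := ∀ (g : G0) (s : ℕ) (ζ : Kˣ), Odd s →
  IsPrimitiveRoot ζ s → g ^ s = 1 → ∃ a : List ℕ, a.length = 7 ∧ dotN a [2, 2, 3, 4, 3, 2, 1] ≤ s ∧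
    ∀ k : ℕ, mu π g ((ζ ^ k : Kˣ) : K) = cV s a k ∧ mu ad g ((ζ ^ k : Kˣ) : K) = cL s a k

structure Good (π : G0 →* M56 (ZMod 2)) : Prop where
  inj : Function.Injective π
  nofix : ∀ v : Fin 56 → ZMod 2, (∀ g, π g *ᵥ v = v) → v = 0
  form : ∀ g, (π g)ᵀ * J56 (ZMod 2) * π g = J56 (ZMod 2)
  tor : Tor π

/-- A semisimple element is conjugate to a torus element with labels in the alcove. -/
def AlcStmt : Prop := ∀ (g : G0) (s : ℕ) (ζ : Kˣ), Odd s → IsPrimitiveRoot ζ s → g ^ s = 1 →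
  ∃ (a : List ℕ) (c : Fin chevE7.rank → Kˣ), a.length = 7 ∧ dotN a [2, 2, 3, 4, 3, 2, 1] ≤ s ∧
    IsConj (C7.tg K c) (C7.V.fieldHom (algebraMap (ZMod 2) K) g) ∧
    (∀ r : Rt, torChar chevE7 c r = ζ ^ dotZ (rcE7.getD r []) a) ∧
    ∀ b : Fin 56, evw c (wt b) ^ 2 = ζ ^ dotZ (dbT.getD b []) a

def BcStmt : Prop := ∀ (g : G0) (A : M56 (ZMod 2)), Rel (ZMod 2) g A →
  Rel K (C7.V.fieldHom (algebraMap (ZMod 2) K) g) (A.map (algebraMap (ZMod 2) K))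

def TorStmt : Prop := ∀ π : G0 →* M56 (ZMod 2), (∀ g, Rel (ZMod 2) g (π g)) → Tor π

def GoodStmt : Prop := ∃ π, Good π

def FrobStmt : Prop := ∀ (n : Type) [Fintype n] [DecidableEq n] (π : G0 →* Matrix n n (ZMod 2))
  (I : Type) (x : I → G0) (η : I → K),
  finrank K (⨅ i, eig π (x i) (η i) : Submodule K _) =
    finrank K (⨅ i, eig π (x i) (η i ^ 2) : Submodule K _)

def WtStmt : Prop := ∀ (n : Type) [Fintype n] [DecidableEq n] (π : G0 →* Matrix n n (ZMod 2))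
  (k s : ℕ) [NeZero s] (ζ : Kˣ) (x : Multiplicative (Fin k → ZMod s) →* G0) (W : Submodule K (n → K)),
  IsPrimitiveRoot ζ s → (∀ e, Inv π (x e) W) → ∀ (S : Finset (Fin k → ZMod s))
    (a : (Fin k → ZMod s) → ZMod s),
    finrank K (W ⊓ ⨅ e ∈ S, eig π (x (ofAdd e)) ((ζ ^ (a e).val : Kˣ) : K) : Submodule K _) =
      ∑ χ with ∀ e ∈ S, χ ⬝ᵥ e = a e, finrank K (W ⊓ wsp π ζ x χ : Submodule K _)

def KitStmt : Prop := ∀ (n : Type) [Fintype n] [DecidableEq n] (π : G0 →* Matrix n n (ZMod 2)),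
  (∀ g g' η, IsConj g g' → mu π g η = mu π g' η) ∧ (∀ g, fx π g⁻¹ = fx π g) ∧
  fx π 1 = Fintype.card n ∧ (∀ a, a * a = 1 → Fintype.card n ≤ 2 * fx π a) ∧
  (∀ (g : G0) (W W' : Submodule K (n → K)), (∀ v ∈ W, act π g v ∈ W') → finrank K W ≤ finrank K W') ∧
  ∀ (k s : ℕ) (ζ : Kˣ) (x : Multiplicative (Fin k → ZMod s) →* G0) (W : Submodule K (n → K)) (g : G0)
    (α : (Fin k → ZMod s) → Fin k → ZMod s) (χ χ' : Fin k → ZMod s), Inv π g W →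
    Function.Surjective α → (∀ e, g * x (ofAdd e) * g⁻¹ = x (ofAdd (α e))) →
    (∀ e, χ' ⬝ᵥ α e = χ ⬝ᵥ e) →
    finrank K (W ⊓ wsp π ζ x χ : Submodule K _) ≤ finrank K (W ⊓ wsp π ζ x χ' : Submodule K _)

def CntStmt : Prop := ∀ (n : Type) [Fintype n] [DecidableEq n] (π : G0 →* Matrix n n (ZMod 2))
  (k : ℕ) (x : Multiplicative (Fin (k + 1) → ZMod 3) →* G0) (W : Submodule K (n → K)),
  (∀ e, Inv π (x e) W) → ∑ e, finrank K (W ⊓ eig π (x e) 1 : Submodule K _) =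
    3 ^ k * finrank K W + 2 * 3 ^ k * finrank K (W ⊓ Fix π (Set.range x) : Submodule K _)

def P13Stmt : Prop := ∀ (n : Type) [Fintype n] [DecidableEq n] (π : G0 →* Matrix n n (ZMod 2))
  (S : Set G0) (g : G0), g ^ 13 = 1 → Inv π g (Fix π S) →
  ∃ m, finrank K (Fix π S) = finrank K (Fix π S ⊓ eig π g 1 : Submodule K _) + 12 * m

def Div3Stmt : Prop := ∀ (n : Type) [Fintype n] [DecidableEq n] (π : G0 →* Matrix n n (ZMod 2))
  (a b : G0) (W : Submodule K (n → K)) (ω : K), IsPrimitiveRoot ω 3 → Inv π a W → Inv π b W →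
  W ≤ eig π (a * b * a⁻¹ * b⁻¹) ω → 3 ∣ finrank K W

def ScottStmt : Prop := ∀ π, Good π → ∀ a b : G0, 56 < fx π a + fx π b + fx π (a * b) →
  HasFix π {a, b}

def DescStmt : Prop := ∀ (n : Type) [Fintype n] [DecidableEq n] (π : G0 →* Matrix n n (ZMod 2))
  (S : Set G0), HasFix π S → ∃ v : n → ZMod 2, v ≠ 0 ∧ ∀ g ∈ S, π g *ᵥ v = v

def C3Stmt : Prop := ∀ π, Good π → ∀ g : G0, g ^ 3 = 1 → g ≠ 1 →
  (fx π g, fx ad g) ∈ [(2, 79), (14, 49), (20, 43), (20, 49), (32, 67)]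

def C5Stmt : Prop := ∀ π, Good π → ∀ g : G0, g ^ 5 = 1 → g ≠ 1 → fx π g = 16

def C9Stmt : Prop := ∀ π, Good π → ∀ g : G0, g ^ 9 = 1 → g ^ 3 ≠ 1 →
  fx π (g ^ 3) = 20 ∨ fx π (g ^ 3) = 2 ∧ fx π g = 0

/-! ### Maximality -/

def MaxAStmt : Prop := ∀ π, Good π → ∀ (H : Subgroup G0) (L : Subgroup H) [L.Normal], IsCoatom H →
  (∃ k, L.index = 2 ^ k) → Nat.card H ≤ 2 ^ 70 →
  (∃ v : Fin 56 → ZMod 2, v ≠ 0 ∧ ∀ g ∈ L, π g *ᵥ v = v) → False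

def MaxBStmt : Prop := ∀ π, Good π → ∀ (H : Subgroup G0) (L N : Subgroup H) [L.Normal] [N.Normal],
  IsCoatom H → L ≤ N → L.relIndex N ∣ 2 → N.index ∣ 3 → Nat.card H ≤ 2 ^ 20 →
  (∃ v : Fin 56 → ZMod 2, v ≠ 0 ∧ ∀ g ∈ L, π g *ᵥ v = v) → False

def OutStmt : Prop := ∀ (H : Type) [Group H] [Finite H] (X : Type u) [Group X],
  (generalizedFittingSubgroup H ≃* X) → Subgroup.center X = ⊥ →
  ∃ ψ : H →* Out X, ψ.ker = generalizedFittingSubgroup H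

def NoMax (X : Type u) [Group X] : Prop :=
  ∀ H : Subgroup G0, IsCoatom H → IsEmpty (generalizedFittingSubgroup H ≃* X)

def FixAll (X : Type u) [Group X] : Prop :=
  ∀ π, Good π → ∀ φ : X →* G0, Function.Injective φ → HasFix π (Set.range φ)

def FinAStmt : Prop := ∀ (X : Type u) [Group X], FixAll X → Subgroup.center X = ⊥ →
  (∃ k ≤ 2, Nat.card (Out X) = 2 ^ k) → Nat.card X ≤ 2 ^ 60 → NoMax X

def NumStmt : Prop := (∀ (F : Type u) [Field F] [Fintype F], Fintype.card F = 19 →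
    Subgroup.center PSL(2, F) = ⊥ ∧ Nat.card (Out PSL(2, F)) = 2 ∧ Nat.card PSL(2, F) = 3420) ∧
  (Subgroup.center PSL(4, ZMod 3) = ⊥ ∧ Nat.card (Out PSL(4, ZMod 3)) = 4 ∧
    Nat.card PSL(4, ZMod 3) = 6065280) ∧
  Subgroup.center (alternatingGroup (Fin 13)) = ⊥ ∧ Nat.card (Out (alternatingGroup (Fin 13))) = 2 ∧
    Nat.card (alternatingGroup (Fin 13)) = 3113510400

def FinBStmt : Prop := ∀ (F : Type u) [Field F] [Fintype F], Fintype.card F = 27 →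
  FixAll PSL(2, F) → NoMax PSL(2, F)

/-! ### `L₂(19)` -/

def Emb19Stmt : Prop := ∀ (F : Type u) [Field F] [Fintype F], Fintype.card F = 19 →
  ∃ a b : PSL(2, F), a * a = 1 ∧ b ^ 5 = 1 ∧ b ≠ 1 ∧ (a * b) ^ 5 = 1 ∧ a * b ≠ 1 ∧
    Subgroup.closure {a, b} = ⊤

/-! ### `L₂(27)` -/

abbrev E3 : Type := Fin 3 → ZMod 3
def m27 (e : E3) : E3 := ![e 2, e 0 + e 2, e 1]

structure C27 {Γ : Type u} [Group Γ] (x : Multiplicative E3 →* Γ) (y t : Γ) : Prop where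
  inj : Function.Injective x
  y13 : y ^ 13 = 1
  yx : ∀ e, y * x (ofAdd e) * y⁻¹ = x (ofAdd (m27 e))
  tt : t * t = 1
  ty : t * y * t⁻¹ = y⁻¹
  bru : ∀ g, (∃ e, ∃ k : ℕ, g = x e * y ^ k) ∨ ∃ e e', ∃ k : ℕ, g = x e * t * x e' * y ^ k
  uni : ∀ e e' e'' (k : ℕ), x e * t = x e' * t * x e'' * y ^ k → e = e'
  nt : ∀ e (k : ℕ), t ≠ x e * y ^ k

def Emb27Stmt : Prop := ∀ (F : Type u) [Field F] [Fintype F], Fintype.card F = 27 →
  ∃ x y t, C27 (Γ := PSL(2, F)) x y t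

def D27Stmt : Prop := ∀ π, Good π → ∀ (x : Multiplicative E3 →* G0) (y : G0) (ω : Kˣ),
  IsPrimitiveRoot ω 3 → Function.Injective x → y ^ 13 = 1 →
  (∀ e, y * x (ofAdd e) * y⁻¹ = x (ofAdd (m27 e))) → finrank K (Fix π (Set.range x)) = 4 ∧
    (∀ χ, χ ≠ 0 → finrank K (wsp π ω x χ) = 2) ∧ ∀ v ∈ Fix π (Set.range x), act π y v = v

def Sum27Stmt : Prop := ∀ (π : G0 →* M56 (ZMod 2)) (Γ : Type u) [Group Γ] (φ : Γ →* G0) x y t,
  C27 x y t → (∀ v ∈ Fix π (Set.range (φ.comp x)), act π (φ y) v = v) → ¬ HasFix π (Set.range φ) →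
  ∀ v ∈ Fix π (Set.range (φ.comp x)), ∑ e, act π (φ (x e * t)) v = v

def Span27Stmt : Prop := ∀ (π : G0 →* M56 (ZMod 2)) (Γ : Type u) [Group Γ] (φ : Γ →* G0) x y t
  (ω : Kˣ), IsPrimitiveRoot ω 3 → C27 x y t → finrank K (Fix π (Set.range (φ.comp x))) = 4 →
  (∀ χ, χ ≠ 0 → finrank K (wsp π ω (φ.comp x) χ) = 2) →
  (∀ v ∈ Fix π (Set.range (φ.comp x)), act π (φ y) v = v) → ¬ HasFix π (Set.range φ) →
  (∀ v ∈ Fix π (Set.range (φ.comp x)), ∑ e, act π (φ (x e * t)) v = v) →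
  Submodule.span K {w | ∃ g, ∃ v ∈ Fix π (Set.range (φ.comp x)), w = act π (φ g) v} = ⊤

def End27Stmt : Prop := ∀ π, Good π → ∀ (Γ : Type u) [Group Γ] (φ : Γ →* G0) x y t, C27 x y t →
  finrank K (Fix π (Set.range (φ.comp x))) = 4 →
  (∀ v ∈ Fix π (Set.range (φ.comp x)), act π (φ y) v = v) →
  (∀ v ∈ Fix π (Set.range (φ.comp x)), ∑ e, act π (φ (x e * t)) v = v) →
  Submodule.span K {w | ∃ g, ∃ v ∈ Fix π (Set.range (φ.comp x)), w = act π (φ g) v} = ⊤ →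
  HasFix π (Set.range φ)

/-! ### `L₄(3)` -/

def Tv (i j : Fin 4) : SL(4, ZMod 3) :=
  if h : i ≠ j then ⟨Matrix.transvection i j 1, Matrix.det_transvection_of_ne i j h 1⟩ else 1

def rowS (φ : SL(4, ZMod 3) →* G0) : Set G0 := {φ (Tv 0 1), φ (Tv 0 2), φ (Tv 0 3)}
def colS (φ : SL(4, ZMod 3) →* G0) : Set G0 := {φ (Tv 0 3), φ (Tv 1 3), φ (Tv 2 3)}

def L43aStmt : Prop := ∀ π, Good π → ∀ φ : SL(4, ZMod 3) →* G0, φ (Tv 0 1) ≠ 1 →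
  finrank K (Fix π (rowS φ)) = 4 ∧ finrank K (Fix π (colS φ)) = 4

def L43bStmt : Prop := ∀ (π : G0 →* M56 (ZMod 2)) (φ : SL(4, ZMod 3) →* G0),
  finrank K (Fix π (rowS φ)) = 4 → ∀ i j, i ≠ 0 → j ≠ 0 → Fix π (rowS φ) ≤ eig π (φ (Tv i j)) 1

def L43cStmt : Prop := ∀ (π : G0 →* M56 (ZMod 2)) (φ : SL(4, ZMod 3) →* G0),
  finrank K (Fix π (colS φ)) = 4 → ∀ i j, i ≠ 3 → j ≠ 3 → Fix π (colS φ) ≤ eig π (φ (Tv i j)) 1

def L43Stmt : Prop := FixAll PSL(4, ZMod 3)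

/-! ### `U₄(3)` and `Ω₇(3)` -/

abbrev E4 : Type := Fin 4 → ZMod 3
def q4 (e : E4) : ZMod 3 := e 0 * e 1 + e 2 ^ 2 + e 3 ^ 2

def CfgQ (Γ : Type u) [Group Γ] : Prop := ∃ x : Multiplicative E4 →* Γ, Function.Injective x ∧
  ∀ e e', e ≠ 0 → e' ≠ 0 → q4 e = q4 e' → IsConj (x (ofAdd e)) (x (ofAdd e'))

def EmbUStmt : Prop := ∀ (F : Type u) [Field F] [Fintype F], Fintype.card F = 9 → CfgQ (Cfsg.PSU 4 F 3)
def EmbOStmt : Prop := CfgQ (Cfsg.Omega (ZMod 3) (Cfsg.quadFormOdd 3 (ZMod 3)))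
def NoQStmt : Prop := ¬ CfgQ G0

/-! ### `G₂(3)` -/

def CfgG (Γ : Type u) [Group Γ] : Prop := ∃ (x : Multiplicative E3 →* Γ) (a b : Γ),
  Function.Injective x ∧ (∀ v w : E3, v 0 = w 0 → v 1 ≠ 0 ∨ v 2 ≠ 0 → w 1 ≠ 0 ∨ w 2 ≠ 0 →
    IsConj (x (ofAdd v)) (x (ofAdd w))) ∧ (∀ e, Commute a (x e)) ∧ (∀ e, Commute b (x e)) ∧
  a * b * a⁻¹ * b⁻¹ = x (ofAdd ![1, 0, 0]) ∧ b ^ 3 = 1 ∧ ∀ i < 3, ∀ j < 3, i ≠ 0 ∨ j ≠ 0 →
    IsConj (x (ofAdd ![1, 0, 0])) (b ^ i * x (ofAdd ![1, 0, 0]) ^ j)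

def EmbGStmt : Prop := CfgG (chevG2.group (ZMod 3))
def NoGStmt : Prop := ¬ CfgG G0

/-! ### `A₁₃` -/

def wt4 (e : E4) : ℕ := (Finset.univ.filter fun i => e i ≠ 0).card

structure CA {Γ : Type} [Group Γ] (x : Multiplicative E4 →* Γ) (y s g : Γ) : Prop where
  inj : Function.Injective x
  cls : ∀ e e', wt4 e = wt4 e' → IsConj (x (ofAdd e)) (x (ofAdd e'))
  y7 : y ^ 7 = 1
  y1 : Commute y (x (ofAdd ![1, 0, 0, 0]))
  y2 : Commute y (x (ofAdd ![0, 1, 0, 0]))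
  g1 : Commute g (x (ofAdd ![1, 0, 0, 0]))
  g2 : Commute g (x (ofAdd ![0, 1, 0, 0]))
  s1 : s * x (ofAdd ![1, 0, 0, 0]) * s⁻¹ = x (ofAdd ![0, 1, 0, 0])
  s2 : s * x (ofAdd ![0, 1, 0, 0]) * s⁻¹ = x (ofAdd ![1, 0, 0, 0])
  sy : s * y * s⁻¹ = y⁻¹
  c3 : ∃ j : ℕ, x (ofAdd ![0, 0, 1, 0]) = y * (g * y ^ j * g⁻¹)

def b13 : Perm (Fin 13) := c[0, 1, 2] * c[3, 4, 5] * c[6, 7, 8] * c[9, 10, 11]

def EmbA1Stmt : Prop := ∃ x y s g, CA (Γ := alternatingGroup (Fin 13)) x y s g ∧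
  (x (ofAdd ![1, 1, 1, 1])).1 = b13 ∧ (x (ofAdd ![1, 1, 0, 0])).1.cycleType = {3, 3}

def EmbA2Stmt : Prop := ∀ b : alternatingGroup (Fin 13), b.1 = b13 →
  ∃ a : alternatingGroup (Fin 13), a.1.cycleType = {3, 3} ∧ (a * b) ^ 13 = 1 ∧
    Subgroup.closure {a, b} = ⊤

def A13aStmt : Prop := ∀ π, Good π → ∀ x : Multiplicative E4 →* G0, Function.Injective x →
  (∀ e e', wt4 e = wt4 e' → IsConj (x (ofAdd e)) (x (ofAdd e'))) →
  52 ≤ fx π (x (ofAdd ![1, 1, 0, 0])) + fx π (x (ofAdd ![1, 1, 1, 1])) ∨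
    finrank K (Fix π {x (ofAdd ![1, 0, 0, 0]), x (ofAdd ![0, 1, 0, 0])}) = 4 ∧
    finrank K (Fix π {x (ofAdd ![1, 0, 0, 0]), x (ofAdd ![0, 1, 0, 0]), x (ofAdd ![0, 0, 1, 0])}) < 4

def A13bStmt : Prop := ∀ (π : G0 →* M56 (ZMod 2)) (x : Multiplicative E4 →* G0) y s g, CA x y s g →
  finrank K (Fix π {x (ofAdd ![1, 0, 0, 0]), x (ofAdd ![0, 1, 0, 0])}) = 4 →
  Fix π {x (ofAdd ![1, 0, 0, 0]), x (ofAdd ![0, 1, 0, 0])} ≤ eig π (x (ofAdd ![0, 0, 1, 0])) 1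

def A13Stmt : Prop := FixAll (alternatingGroup (Fin 13))

/-! ### `J₂` -/

abbrev E5 : Type := Fin 2 → ZMod 5

def CfgJ (Γ : Type u) [Group Γ] : Prop := ∃ (x : Multiplicative E5 →* Γ) (a t : Γ),
  Function.Injective x ∧ (∀ e : E5, a * x (ofAdd e) * a⁻¹ = x (ofAdd ![-e 1, e 0 - e 1])) ∧
  ∀ e : E5, t * x (ofAdd e) * t⁻¹ = x (ofAdd ![e 1, e 0])

def m5 (e : E5) (i : ℕ) : ℤ := (e 0).val * ([0, 4, 2, 1, 0, 0, 0] : List ℤ).getD i 0 +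
  (e 1).val * ([0, 3, 0, 0, 1, 0, 0] : List ℤ).getD i 0
def F5 (e : E5) (r : Rt) : ℤ := ∑ i : Fin chevE7.rank, m5 e i * chevE7.cartan i r
def cls5 (e : E5) : ℤ := gt [[0, 3, 3, 3, 3], [1, 1, 2, 3, 2], [1, 3, 1, 2, 2], [1, 2, 2, 1, 3],
  [1, 2, 3, 2, 1]] (e 0).val (e 1).val

def EmbJStmt : Prop := CfgJ Cfsg.Spor.J2

def Syl5Stmt : Prop := ∀ x : Multiplicative E5 →* G0, Function.Injective x →
  ∃ (j : G0 →* GK) (ζ : Kˣ) (N : E5 ≃+ E5), IsPrimitiveRoot ζ 5 ∧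
    ∀ e, Lab C7 ζ (j (x (ofAdd e))) (F5 (N e))

def Inv5Stmt : Prop := ∀ w ∈ C7.S.W, ∀ M : E5 → E5, (∀ e r, (F5 e (w r) : ZMod 5) = F5 (M e) r) →
  ∀ e e', cls5 e = cls5 e' → cls5 (M e) = cls5 (M e')

def NoJStmt : Prop := ¬ CfgJ G0

/-! ### `G₂(8)` -/

abbrev E9 : Type := Fin 2 → ZMod 9

def CfgT (Γ : Type u) [Group Γ] : Prop := ∃ (x : Multiplicative E9 →* Γ) (w : Γ),
  Function.Injective x ∧ ∀ e : E9, w * x (ofAdd e) * w⁻¹ = x (ofAdd ![-e 0 - e 1, e 0])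

def Emb8Stmt : Prop := ∀ (F : Type u) [Field F] [Fintype F], Fintype.card F = 8 →
  CfgT (chevG2.group F)
def No8Stmt : Prop := ¬ CfgT G0

end Cfsg.Agent.H50.E72
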