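import Cfsg.Agent.H50.E72Asm
import Cfsg.Agent.H50.E72Chk1
import Cfsg.Agent.H50.E72Chk2
import Cfsg.Agent.H65.E72Gen
import Cfsg.Agent.H20.E72Rel
import Cfsg.Agent.H67.E72Sch
import Cfsg.Agent.H70.E72Rep
import Cfsg.Agent.H95.E72Alc
import Cfsg.Agent.H5.E72Bc
import Cfsg.Agent.H19.E72Tor
import Cfsg.Agent.H90.E72Frob
import Cfsg.Agent.H10.E72Wt
import Cfsg.Agent.H30.E72Kit
import Cfsg.Agent.H9.E72Cnt
import Cfsg.Agent.H79.E72Lin
import Cfsg.Agent.H85.E72C35
import Cfsg.Agent.H27.E72C9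
import Cfsg.Agent.H76.E72MaxA
import Cfsg.Agent.H88.E72MaxB
import Cfsg.Agent.H40.E72Out
import Cfsg.Agent.H4.E72Fin

/-! The kit of the 56-dimensional module, with all hypotheses discharged. -/

set_option autoImplicit false

namespace Cfsg.Agent.H50.E72

universe u

theorem relX' : RelXStmt := H20.E72R.relX chk1 chk2
theorem rep' : RepStmt := H70.E72Rep.rep H65.E72Gen.gen relX' H67.E72Sch.sch
theorem tor' : TorStmt := H19.E72Tor.tor Alc.alc H20.E72R.relT rep' H5.E72Bc.bc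
theorem good' : GoodStmt := H70.E72Rep.good rep' relX' H67.E72Sch.sch tor'
theorem cnt' : CntStmt := H9.E72Cnt.cnt H10.E72Wt.wts
theorem p13' : P13Stmt := H9.E72Cnt.p13 H10.E72Wt.wts H90.E72Frob.frob
theorem c5' : C5Stmt := H85.E72C.c5 H90.E72Frob.frob
theorem c9' : C9Stmt := H27.E72C9.c9 H90.E72Frob.frob
theorem finA' : FinAStmt.{u} := H4.E72Fin.finA good' H40.E72Out.out H76.E72MaxA.maxA H79.E72Lin.desc
theorem finB' : FinBStmt.{u} := H4.E72Fin.finB good' H40.E72Out.out H88.E72B.maxB H79.E72Lin.desc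

end Cfsg.Agent.H50.E72
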