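import Mathlib
import Cfsg.Agent.H50.Basic

/-! Fischer sets (sets of 3-transpositions closed under mutual conjugation) and a verified
checker for linear deductions about finitely many of their members. -/

set_option autoImplicit false

namespace Cfsg.Agent.H50

open Cfsg

variable {G : Type*} [Group G]

/-- a set of 3-transpositions closed under mutual conjugation -/
structure FS (D : Set G) : Prop where
  sq : ∀ a ∈ D, a * a = 1
  ne_one : ∀ a ∈ D, a ≠ 1
  br : ∀ a ∈ D, ∀ b ∈ D, ¬ Commute a b → a * b * a = b * a * b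
  conj : ∀ a ∈ D, ∀ b ∈ D, a * b * a ∈ D

theorem FS.tt {D : Set G} (h : FS D) : IsThreeTranspositionSet D := tt_of h.sq h.ne_one h.br

theorem FS.of_tt {D : Set G} (h : IsThreeTranspositionSet D)
    (hc : ∀ a ∈ D, ∀ b ∈ D, a * b * a ∈ D) : FS D :=
  ⟨fun _ ha => tt_mul_self h ha, fun _ ha => tt_ne_one h ha, fun _ ha _ hb => tt_braid h ha hb, hc⟩

theorem FS.of_conj {D : Set G} (h : IsThreeTranspositionSet D)
    (hc : ∀ g : G, ∀ d ∈ D, g * d * g⁻¹ ∈ D) : FS D :=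
  FS.of_tt h fun a ha b hb => by have := hc a b hb; rwa [tt_inv h ha] at this

theorem ne_of_not_commute {a b : G} (h : ¬ Commute a b) : a ≠ b := by
  rintro rfl; exact h (Commute.refl _)

theorem eq_of_self_conj {a b : G} (ha : a * a = 1) (h : a * a * a = b) : a = b := by
  rwa [ha, one_mul] at h

namespace Eng

/-- meaning of a fact: kind 0 conjugation, 1 braid, 2 distinct, 3 user relation -/
def Holds (R : G → G → G → Prop) (p : ℕ → G) (k i j l : ℕ) : Prop :=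
  match k with
  | 0 => p i * p j * p i = p l
  | 1 => p i * p j * p i = p j * p i * p j
  | 2 => p i ≠ p j
  | _ => R (p i) (p j) (p l)

def fK (c : ℕ) : ℕ := Nat.land c 3
def fI (c : ℕ) : ℕ := Nat.land (Nat.shiftRight c 2) 4095
def fJ (c : ℕ) : ℕ := Nat.land (Nat.shiftRight c 14) 4095
def fL (c : ℕ) : ℕ := Nat.land (Nat.shiftRight c 26) 4095

def HoldsC (R : G → G → G → Prop) (p : ℕ → G) (c : ℕ) : Prop := Holds R p (fK c) (fI c) (fJ c) (fL c)

def entry (data t : ℕ) : ℕ := Nat.land (Nat.shiftRight data (Nat.mul 128 t)) 340282366920938463463374607431768211455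
def fact (data t : ℕ) : ℕ := Nat.land (Nat.shiftRight data (Nat.mul 128 t)) 1099511627775
def eRule (e : ℕ) : ℕ := Nat.land (Nat.shiftRight e 40) 255
def eP (e n : ℕ) : ℕ := Nat.land (Nat.shiftRight e n) 1048575
def defI (defs k : ℕ) : ℕ := Nat.land (Nat.shiftRight defs (Nat.mul 24 k)) 4095
def defJ (defs k : ℕ) : ℕ := Nat.land (Nat.shiftRight defs (Nat.add (Nat.mul 24 k) 12)) 4095

/-- `c` is the fact `(k,i,j,l)` -/
def isF (c k i j l : ℕ) : Bool :=
  Nat.beq (fK c) k && Nat.beq (fI c) i && Nat.beq (fJ c) j && Nat.beq (fL c) l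
/-- `c` is a fact of kind `k` with first entries `i, j` -/
def isB (c k i j : ℕ) : Bool := Nat.beq (fK c) k && Nat.beq (fI c) i && Nat.beq (fJ c) j

def sub1 (x y a b : ℕ) : Bool := Nat.beq a b || (Nat.beq a x && Nat.beq b y)

/-- built-in rules with premises `a b d e` (fact codes) and conclusion `c` -/
def rule1 (r c a : ℕ) : Bool :=
  cond (Nat.beq r 3) (Nat.beq (fK a) 0 && isF c 0 (fI a) (fL a) (fJ a))
  (cond (Nat.beq r 4) (Nat.beq (fK a) 0 && Nat.beq (fJ a) (fL a) && isF c 0 (fJ a) (fI a) (fI a))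
  (cond (Nat.beq r 9) (Nat.beq (fK a) 1 && isB c 1 (fJ a) (fI a))
  (Nat.beq r 14 && Nat.beq (fK a) 2 && isB c 2 (fJ a) (fI a))))

def rule2 (r c a b : ℕ) : Bool :=
  cond (Nat.beq r 7) (Nat.beq (fK a) 0 && isB b 0 (fI a) (fJ a) && isF c 0 (fL a) (fL a) (fL b))
  (cond (Nat.beq r 8) (isB b 0 (fI b) (fI b) && Nat.beq (fK a) (fK c) &&
      sub1 (fI b) (fL b) (fI a) (fI c) && sub1 (fI b) (fL b) (fJ a) (fJ c) &&
      sub1 (fI b) (fL b) (fL a) (fL c))
  (cond (Nat.beq r 10) (Nat.beq (fK a) 1 && isB b 0 (fI a) (fJ a) && isF c 0 (fJ a) (fI a) (fL b))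
  (cond (Nat.beq r 11) (Nat.beq (fK a) 0 && isF b 0 (fJ a) (fI a) (fL a) && isB c 1 (fI a) (fJ a))
  (cond (Nat.beq r 13) (Nat.beq (fK a) 0 && Nat.beq (fJ a) (fL a) && isB b 1 (fI a) (fJ a) &&
      isF c 0 (fI a) (fI a) (fJ a))
  (cond (Nat.beq r 16) (Nat.beq (fK a) 0 && isB b 2 (fJ a) (fL a) && isB c 1 (fI a) (fJ a))
  (Nat.beq r 17 && Nat.beq (fK a) 0 && isB b 2 (fJ a) (fL a) && isB c 2 (fI a) (fJ a)))))))

def rule3 (r c a b d : ℕ) : Bool :=
  cond (Nat.beq r 12) (Nat.beq (fK a) 1 && isB b 0 (fI b) (fI a) && isB d 0 (fI b) (fJ a) &&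
      isB c 1 (fL b) (fL d))
  (cond (Nat.beq r 15) (Nat.beq (fK a) 2 && isB b 0 (fI b) (fI a) && isB d 0 (fI b) (fJ a) &&
      isB c 2 (fL b) (fL d))
  (cond (Nat.beq r 18) (Nat.beq (fK a) 1 && isB b 2 (fI a) (fJ a) && isB d 0 (fI a) (fJ a) &&
      isB c 2 (fJ a) (fL d))
  (Nat.beq r 19 && Nat.beq (fK a) 0 && isB b 0 (fJ a) (fI a) && isB d 2 (fL a) (fL b) &&
      isF c 0 (fI a) (fJ a) (fJ a))))

def rule4 (r c a b d e : ℕ) : Bool :=
  cond (Nat.beq r 5) (Nat.beq (fK a) 0 && isB b 0 (fI a) (fJ b) && isB d 0 (fJ a) (fJ b) &&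
      isB e 0 (fI a) (fL d) && isF c 0 (fL a) (fL b) (fL e))
  (Nat.beq r 6 && Nat.beq (fK a) 0 && isB b 0 (fI a) (fJ b) && isB d 0 (fJ a) (fJ b) &&
      isB e 0 (fL a) (fL b) && isF c 0 (fI a) (fL d) (fL e))

def hypOK (c : ℕ) : List (ℕ × ℕ × ℕ × ℕ) → Bool
  | [] => false
  | x :: l => isF c x.1 x.2.1 x.2.2.1 x.2.2.2 || hypOK c l

def stepAux (X : ℕ → ℕ → ℕ → ℕ → ℕ → ℕ → Bool) (len defs data : ℕ)
    (hyps : List (ℕ × ℕ × ℕ × ℕ)) (t r c p1 p2 p3 p4 : ℕ) : Bool :=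
  cond (Nat.beq r 5 || Nat.beq r 6) (Nat.blt p1 t && Nat.blt p2 t && Nat.blt p3 t && Nat.blt p4 t &&
      rule4 r c (fact data p1) (fact data p2) (fact data p3) (fact data p4))
  (cond (Nat.ble 20 r) (Nat.blt p1 t && Nat.blt p2 t && Nat.blt p3 t && Nat.blt p4 t &&
      X r c (fact data p1) (fact data p2) (fact data p3) (fact data p4))
  (cond (Nat.beq r 0) (hypOK c hyps)
  (cond (Nat.beq r 1) (Nat.ble len (fL c) && Nat.blt (fI c) (fL c) && Nat.blt (fJ c) (fL c) &&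
      isB c 0 (defI defs (fL c)) (defJ defs (fL c)))
  (cond (Nat.beq r 2) (isF c 0 (fI c) (fI c) (fI c))
  (Nat.blt p1 t && (rule1 r c (fact data p1) || (Nat.blt p2 t &&
     (rule2 r c (fact data p1) (fact data p2) || (Nat.blt p3 t &&
        rule3 r c (fact data p1) (fact data p2) (fact data p3))))))))))

def stepOK (X : ℕ → ℕ → ℕ → ℕ → ℕ → ℕ → Bool) (len defs data : ℕ)
    (hyps : List (ℕ × ℕ × ℕ × ℕ)) (t : ℕ) : Bool :=
  stepAux X len defs data hyps t (eRule (entry data t)) (fact data t) (eP (entry data t) 48)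
    (eP (entry data t) 68) (eP (entry data t) 88) (eP (entry data t) 108)

def allRange (f : ℕ → Bool) (n : ℕ) : ℕ → ℕ → Bool
  | 0, s => Nat.ble n s || f s
  | d + 1, s => Nat.ble n s || (allRange f n d s && allRange f n d (Nat.add s (Nat.pow 2 d)))

theorem allRange_spec (f : ℕ → Bool) (n : ℕ) : ∀ d s, allRange f n d s = true →
    ∀ t, s ≤ t → t < s + 2 ^ d → t < n → f t = true := by
  intro d
  induction d with
  | zero =>
    intro s h t h1 h2 h3
    have : t = s := by omega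
    subst this
    simp only [allRange, Bool.or_eq_true, Nat.ble_eq] at h
    rcases h with h | h
    · omega
    · exact h
  | succ d ih =>
    intro s h t h1 h2 h3
    simp only [allRange, Bool.or_eq_true, Nat.ble_eq, Bool.and_eq_true] at h
    rcases h with h | ⟨h, h'⟩
    · omega
    · by_cases ht : t < s + 2 ^ d
      · exact ih s h t h1 ht h3
      · refine ih _ h' t (by simpa using Nat.le_of_not_lt ht) ?_ h3
        show t < s + 2 ^ d + 2 ^ d
        rw [pow_succ] at h2; omega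

theorem isF_iff {c k i j l : ℕ} : isF c k i j l = true ↔ fK c = k ∧ fI c = i ∧ fJ c = j ∧ fL c = l := by
  simp [isF, and_assoc]

theorem isB_iff {c k i j : ℕ} : isB c k i j = true ↔ fK c = k ∧ fI c = i ∧ fJ c = j := by
  simp [isB, and_assoc]

variable {D : Set G} {R : G → G → G → Prop} {p : ℕ → G}

theorem rule1_sound (hD : FS D) (hp : ∀ i, p i ∈ D) {r c a : ℕ} (h : rule1 r c a = true)
    (ha : HoldsC R p a) : HoldsC R p c := by
  unfold HoldsC at *
  simp only [rule1, Bool.cond_eq_ite, Bool.ite_eq_true_distrib, Bool.and_eq_true, isF_iff, isB_iff,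
    Nat.beq_eq] at h
  split_ifs at h
  · obtain ⟨h0, h1, h2, h3, h4⟩ := h
    rw [h0] at ha; rw [h1, h2, h3, h4]
    simp only [Holds] at ha ⊢
    rw [← ha]; exact iconj_iconj (hD.sq _ (hp _))
  · obtain ⟨⟨h0, h5⟩, h1, h2, h3, h4⟩ := h
    rw [h0, ← h5] at ha; rw [h1, h2, h3, h4]
    simp only [Holds] at ha ⊢
    exact (commute_iff_conj_eq (hD.sq _ (hp _))).1
      ((commute_iff_conj_eq (hD.sq _ (hp _))).2 ha).symm
  · obtain ⟨h0, h1, h2, h3⟩ := h
    rw [h0] at ha; rw [h1, h2, h3]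
    exact ha.symm
  · obtain ⟨⟨_, h0⟩, h1, h2, h3⟩ := h
    rw [h0] at ha; rw [h1, h2, h3]
    exact ha.symm

theorem sub1_sound {x y a b : ℕ} (h : sub1 x y a b = true) (hxy : p x = p y) : p a = p b := by
  simp only [sub1, Bool.or_eq_true, Bool.and_eq_true, Nat.beq_eq] at h
  rcases h with rfl | ⟨rfl, rfl⟩
  · rfl
  · exact hxy

theorem self_conj (hD : FS D) (hp : ∀ i, p i ∈ D) (i : ℕ) : p i * p i * p i = p i := by
  rw [hD.sq _ (hp _), one_mul]

theorem rule2_sound (hD : FS D) (hp : ∀ i, p i ∈ D) {r c a b : ℕ} (h : rule2 r c a b = true)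
    (ha : HoldsC R p a) (hb : HoldsC R p b) : HoldsC R p c := by
  unfold HoldsC at *
  simp only [rule2, Bool.cond_eq_ite, Bool.ite_eq_true_distrib, Bool.and_eq_true, isF_iff, isB_iff,
    Nat.beq_eq] at h
  split_ifs at h
  · obtain ⟨⟨h0, g0, g1, g2⟩, h1, h2, h3, h4⟩ := h
    rw [h0] at ha; rw [g0, g1, g2] at hb; rw [h1, h2, h3, h4]
    simp only [Holds] at ha hb ⊢
    rw [self_conj hD hp, ← ha, hb]
  · obtain ⟨⟨⟨⟨⟨g0, -, g2⟩, h0⟩, s1⟩, s2⟩, s3⟩ := h
    rw [g0, g2] at hb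
    simp only [Holds] at hb
    rw [self_conj hD hp] at hb
    have e1 := sub1_sound s1 hb
    have e2 := sub1_sound s2 hb
    have e3 := sub1_sound s3 hb
    rw [← h0]
    unfold Holds at ha ⊢
    rw [← e1, ← e2, ← e3]
    exact ha
  · obtain ⟨⟨h0, g0, g1, g2⟩, h1, h2, h3, h4⟩ := h
    rw [h0] at ha; rw [g0, g1, g2] at hb; rw [h1, h2, h3, h4]
    simp only [Holds] at ha hb ⊢
    rw [← ha, hb]
  · obtain ⟨⟨h0, g0, g1, g2, g3⟩, h1, h2, h3⟩ := h
    rw [h0] at ha; rw [g0, g1, g2, g3] at hb; rw [h1, h2, h3]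
    simp only [Holds] at ha hb ⊢
    rw [ha, hb]
  · obtain ⟨⟨⟨h0, h5⟩, g0, g1, g2⟩, h1, h2, h3, h4⟩ := h
    rw [h0, ← h5] at ha; rw [g0, g1, g2] at hb; rw [h1, h2, h3, h4]
    simp only [Holds] at ha hb ⊢
    rw [self_conj hD hp]
    exact eq_of_commute_of_braid (hD.sq _ (hp _)) (hD.sq _ (hp _))
      ((commute_iff_conj_eq (hD.sq _ (hp _))).2 ha) hb
  · obtain ⟨⟨h0, g0, g1, g2⟩, h1, h2, h3⟩ := h
    rw [h0] at ha; rw [g0, g1, g2] at hb; rw [h1, h2, h3]
    simp only [Holds] at ha hb ⊢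
    refine hD.br _ (hp _) _ (hp _) fun hc => hb ?_
    rw [← ha]; exact ((commute_iff_conj_eq (hD.sq _ (hp _))).1 hc).symm
  · obtain ⟨⟨⟨_, h0⟩, g0, g1, g2⟩, h1, h2, h3⟩ := h
    rw [h0] at ha; rw [g0, g1, g2] at hb; rw [h1, h2, h3]
    simp only [Holds] at ha hb ⊢
    intro he
    apply hb
    rw [← ha, he, hD.sq _ (hp _), one_mul]

theorem rule3_sound (hD : FS D) (hp : ∀ i, p i ∈ D) {r c a b d : ℕ} (h : rule3 r c a b d = true)
    (ha : HoldsC R p a) (hb : HoldsC R p b) (hd : HoldsC R p d) : HoldsC R p c := by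
  unfold HoldsC at *
  simp only [rule3, Bool.cond_eq_ite, Bool.ite_eq_true_distrib, Bool.and_eq_true, isF_iff, isB_iff,
    Nat.beq_eq] at h
  split_ifs at h
  · obtain ⟨⟨⟨h0, g0, -, g2⟩, k0, k1, k2⟩, h1, h2, h3⟩ := h
    rw [h0] at ha; rw [g0, g2] at hb; rw [k0, k1, k2] at hd; rw [h1, h2, h3]
    simp only [Holds] at ha hb hd ⊢
    rw [← hb, ← hd, ← iconj_distrib (hD.sq _ (hp _)), ← iconj_distrib (hD.sq _ (hp _)), ha]
  · obtain ⟨⟨⟨h0, g0, -, g2⟩, k0, k1, k2⟩, h1, h2, h3⟩ := h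
    rw [h0] at ha; rw [g0, g2] at hb; rw [k0, k1, k2] at hd; rw [h1, h2, h3]
    simp only [Holds] at ha hb hd ⊢
    rw [← hb, ← hd, Ne, iconj_inj]; exact ha
  · obtain ⟨⟨⟨h0, g0, g1, g2⟩, k0, k1, k2⟩, h1, h2, h3⟩ := h
    rw [h0] at ha; rw [g0, g1, g2] at hb; rw [k0, k1, k2] at hd; rw [h1, h2, h3]
    simp only [Holds] at ha hb hd ⊢
    intro he
    apply hb
    rw [← he] at hd
    exact eq_of_commute_of_braid (hD.sq _ (hp _)) (hD.sq _ (hp _))
      ((commute_iff_conj_eq (hD.sq _ (hp _))).2 hd) ha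
  · obtain ⟨⟨⟨⟨_, h0⟩, g0, g1, g2⟩, k0, k1, k2⟩, h1, h2, h3, h4⟩ := h
    rw [h0] at ha; rw [g0, g1, g2] at hb; rw [k0, k1, k2] at hd; rw [h1, h2, h3, h4]
    simp only [Holds] at ha hb hd ⊢
    rw [← commute_iff_conj_eq (hD.sq _ (hp _))]
    by_contra hc
    apply hd
    rw [← ha, ← hb]
    exact hD.br _ (hp _) _ (hp _) hc

theorem rule4_sound (hD : FS D) (hp : ∀ i, p i ∈ D) {r c a b d e : ℕ}
    (h : rule4 r c a b d e = true)
    (ha : HoldsC R p a) (hb : HoldsC R p b) (hd : HoldsC R p d) (he : HoldsC R p e) :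
    HoldsC R p c := by
  unfold HoldsC at *
  simp only [rule4, Bool.cond_eq_ite, Bool.ite_eq_true_distrib, Bool.and_eq_true, isF_iff, isB_iff,
    Nat.beq_eq] at h
  split_ifs at h
  · obtain ⟨⟨⟨⟨h0, g0, g1, -⟩, k0, k1, k2⟩, m0, m1, m2⟩, h1, h2, h3, h4⟩ := h
    rw [h0] at ha; rw [g0, g1] at hb; rw [k0, k1, k2] at hd; rw [m0, m1, m2] at he
    rw [h1, h2, h3, h4]
    simp only [Holds] at ha hb hd he ⊢
    rw [← ha, ← hb, ← he, ← hd, iconj_distrib (hD.sq _ (hp _))]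
  · obtain ⟨⟨⟨⟨⟨_, h0⟩, g0, g1, -⟩, k0, k1, k2⟩, m0, m1, m2⟩, h1, h2, h3, h4⟩ := h
    rw [h0] at ha; rw [g0, g1] at hb; rw [k0, k1, k2] at hd; rw [m0, m1, m2] at he
    rw [h1, h2, h3, h4]
    simp only [Holds] at ha hb hd he ⊢
    rw [← he, ← ha, ← hb, ← hd, iconj_distrib (hD.sq _ (hp _))]

theorem hypOK_sound {c : ℕ} : ∀ {l : List (ℕ × ℕ × ℕ × ℕ)}, hypOK c l = true →
    (∀ x ∈ l, Holds R p x.1 x.2.1 x.2.2.1 x.2.2.2) → HoldsC R p c
  | [], h, _ => by simp [hypOK] at h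
  | x :: l, h, hl => by
    simp only [hypOK, Bool.or_eq_true, isF_iff] at h
    rcases h with ⟨h1, h2, h3, h4⟩ | h
    · unfold HoldsC; rw [h1, h2, h3, h4]; exact hl x (by simp)
    · exact hypOK_sound h fun y hy => hl y (by simp [hy])

/-- soundness requirement on extra rules -/
def XSound (D : Set G) (R : G → G → G → Prop) (X : ℕ → ℕ → ℕ → ℕ → ℕ → ℕ → Bool) : Prop :=
  ∀ p : ℕ → G, (∀ i, p i ∈ D) → ∀ r c a b d e, X r c a b d e = true →
    HoldsC R p a → HoldsC R p b → HoldsC R p d → HoldsC R p e → HoldsC R p c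

theorem exists_points (hD : FS D) (g : List G) (hg : ∀ x ∈ g, x ∈ D) (hne : g ≠ []) (defs : ℕ) :
    ∃ p : ℕ → G, (∀ i, p i ∈ D) ∧ (∀ i, i < g.length → p i = g.getD i 1) ∧
      ∀ k, g.length ≤ k → defI defs k < k → defJ defs k < k →
        p (defI defs k) * p (defJ defs k) * p (defI defs k) = p k := by
  obtain ⟨x0, hx0⟩ := List.exists_mem_of_ne_nil g hne
  let F : (k : ℕ) → ((j : ℕ) → j < k → D) → D := fun k rec =>
    if h : k < g.length then ⟨g[k], hg _ (List.getElem_mem h)⟩ else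
    if h' : defI defs k < k ∧ defJ defs k < k then
      ⟨(rec _ h'.1).1 * (rec _ h'.2).1 * (rec _ h'.1).1, hD.conj _ (rec _ h'.1).2 _ (rec _ h'.2).2⟩
    else ⟨x0, hg _ hx0⟩
  let q : ℕ → D := (Nat.lt_wfRel.wf).fix F
  have hq : ∀ k, q k = F k fun j _ => q j := fun k => WellFounded.fix_eq _ F k
  refine ⟨fun k => (q k).1, fun i => (q i).2, fun i hi => ?_, fun k hk h1 h2 => ?_⟩
  · show (q i).1 = _
    rw [hq]; simp [F, hi]
  · show _ = (q k).1
    rw [hq k]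
    simp only [F]
    rw [dif_neg (by omega), dif_pos ⟨h1, h2⟩]

theorem steps_sound (hD : FS D) (hp : ∀ i, p i ∈ D) {X : ℕ → ℕ → ℕ → ℕ → ℕ → ℕ → Bool}
    (hX : XSound D R X) {len defs data : ℕ} {hyps : List (ℕ × ℕ × ℕ × ℕ)}
    (hdef : ∀ k, len ≤ k → defI defs k < k → defJ defs k < k →
        p (defI defs k) * p (defJ defs k) * p (defI defs k) = p k)
    (hh : ∀ x ∈ hyps, Holds R p x.1 x.2.1 x.2.2.1 x.2.2.2) {n : ℕ}
    (h : ∀ t < n, stepOK X len defs data hyps t = true) : ∀ t < n, HoldsC R p (fact data t) := by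
  intro t
  induction t using Nat.strong_induction_on with
  | _ t ih =>
  intro ht
  have ih' : ∀ s, s < t → HoldsC R p (fact data s) := fun s hs => ih s hs (by omega)
  have h := h t ht
  unfold stepOK at h
  generalize eRule (entry data t) = r at h
  generalize eP (entry data t) 48 = p1 at h
  generalize eP (entry data t) 68 = p2 at h
  generalize eP (entry data t) 88 = p3 at h
  generalize eP (entry data t) 108 = p4 at h
  generalize fact data t = c at h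
  simp only [stepAux, Bool.cond_eq_ite, Bool.ite_eq_true_distrib, Bool.and_eq_true,
    Bool.or_eq_true, Nat.blt_eq, Nat.ble_eq] at h
  split_ifs at h
  · obtain ⟨⟨⟨⟨h1, h2⟩, h3⟩, h4⟩, h5⟩ := h
    exact rule4_sound hD hp h5 (ih' _ h1) (ih' _ h2) (ih' _ h3) (ih' _ h4)
  · obtain ⟨⟨⟨⟨h1, h2⟩, h3⟩, h4⟩, h5⟩ := h
    exact hX p hp _ _ _ _ _ _ h5 (ih' _ h1) (ih' _ h2) (ih' _ h3) (ih' _ h4)
  · exact hypOK_sound h hh
  · obtain ⟨⟨⟨h1, h2⟩, h3⟩, h4⟩ := h
    obtain ⟨k0, k1, k2⟩ := isB_iff.1 h4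
    unfold HoldsC
    rw [k0]
    have := hdef _ h1 (k1 ▸ h2) (k2 ▸ h3)
    rw [← k1, ← k2] at this
    exact this
  · obtain ⟨k0, -, k2, k3⟩ := isF_iff.1 h
    unfold HoldsC
    rw [k0, k2, k3]
    exact self_conj hD hp _
  · obtain ⟨h1, h | ⟨h2, h | ⟨h3, h⟩⟩⟩ := h
    · exact rule1_sound hD hp h (ih' _ h1)
    · exact rule2_sound hD hp h (ih' _ h1) (ih' _ h2)
    · exact rule3_sound hD hp h (ih' _ h1) (ih' _ h2) (ih' _ h3)

def bnd (len : ℕ) : List (ℕ × ℕ × ℕ × ℕ) → Bool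
  | [] => true
  | x :: l => Nat.blt x.2.1 len && Nat.blt x.2.2.1 len && Nat.blt x.2.2.2 len && bnd len l

/-- all facts of a list hold -/
def AllH (R : G → G → G → Prop) (p : ℕ → G) : List (ℕ × ℕ × ℕ × ℕ) → Prop
  | [] => True
  | x :: l => Holds R p x.1 x.2.1 x.2.2.1 x.2.2.2 ∧ AllH R p l

theorem allH_iff {l : List (ℕ × ℕ × ℕ × ℕ)} :
    AllH R p l ↔ ∀ x ∈ l, Holds R p x.1 x.2.1 x.2.2.1 x.2.2.2 := by
  induction l with
  | nil => simp [AllH]
  | cons x l ih => simp [AllH, ih]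

theorem holds_congr {q : ℕ → G} {k i j l : ℕ} (hi : p i = q i) (hj : p j = q j) (hl : p l = q l) :
    Holds R p k i j l ↔ Holds R q k i j l := by
  unfold Holds; rw [hi, hj, hl]

theorem allH_congr {q : ℕ → G} {len : ℕ} (hpq : ∀ i, i < len → p i = q i) :
    ∀ {l : List (ℕ × ℕ × ℕ × ℕ)}, bnd len l = true → AllH R p l → AllH R q l
  | [], _, _ => trivial
  | x :: l, h, hl => by
    simp only [bnd, Bool.and_eq_true, Nat.blt_eq] at h
    obtain ⟨⟨⟨h1, h2⟩, h3⟩, h4⟩ := h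
    exact ⟨(holds_congr (hpq _ h1) (hpq _ h2) (hpq _ h3)).1 hl.1, allH_congr hpq h4 hl.2⟩

/-- the conclusions occur among the facts, at the given positions -/
def conclOK (data n : ℕ) : List (ℕ × ℕ × ℕ × ℕ) → List ℕ → Bool
  | [], _ => true
  | _ :: _, [] => false
  | x :: l, t :: ts => Nat.blt t n && isF (fact data t) x.1 x.2.1 x.2.2.1 x.2.2.2 && conclOK data n l ts

theorem conclOK_sound {data n : ℕ} (H : ∀ t < n, HoldsC R p (fact data t)) :
    ∀ {l : List (ℕ × ℕ × ℕ × ℕ)} {ts : List ℕ}, conclOK data n l ts = true → AllH R p l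
  | [], _, _ => trivial
  | _ :: _, [], h => by simp [conclOK] at h
  | x :: l, t :: ts, h => by
    simp only [conclOK, Bool.and_eq_true, Nat.blt_eq, isF_iff] at h
    obtain ⟨⟨h0, h1, h2, h3, h4⟩, h5⟩ := h
    refine ⟨?_, conclOK_sound H h5⟩
    have := H t h0
    unfold HoldsC at this
    rwa [h1, h2, h3, h4] at this

def check (X : ℕ → ℕ → ℕ → ℕ → ℕ → ℕ → Bool) (len defs data n : ℕ)
    (hyps : List (ℕ × ℕ × ℕ × ℕ)) : Bool :=
  bnd len hyps && Nat.ble n 1048576 && allRange (stepOK X len defs data hyps) n 20 0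

/-- raw form of soundness -/
theorem check_sound_raw (hD : FS D) {X : ℕ → ℕ → ℕ → ℕ → ℕ → ℕ → Bool} (hX : XSound D R X)
    (g : List G) (hg : ∀ x ∈ g, x ∈ D) (hne : g ≠ []) (len defs data n : ℕ) (hlen : g.length = len)
    (hyps : List (ℕ × ℕ × ℕ × ℕ)) (hh : AllH R (fun i => g.getD i 1) hyps)
    (h : check X len defs data n hyps = true) :
    ∃ p : ℕ → G, (∀ i, p i ∈ D) ∧ (∀ i, i < len → p i = g.getD i 1) ∧
      (∀ k, len ≤ k → defI defs k < k → defJ defs k < k →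
        p (defI defs k) * p (defJ defs k) * p (defI defs k) = p k) ∧
      ∀ t < n, HoldsC R p (fact data t) := by
  obtain ⟨p, hp, hp1, hp2⟩ := exists_points hD g hg hne defs
  subst hlen
  simp only [check, Bool.and_eq_true, Nat.ble_eq] at h
  obtain ⟨⟨h1, h2⟩, h3⟩ := h
  refine ⟨p, hp, hp1, hp2, steps_sound hD hp hX hp2 (hyps := hyps)
    (allH_iff.1 (allH_congr (fun i hi => (hp1 i hi).symm) h1 hh)) fun t ht => ?_⟩
  exact allRange_spec _ _ _ _ h3 t (Nat.zero_le _) (by omega) ht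

/-- conclusions about the named points -/
theorem check_sound (hD : FS D) {X : ℕ → ℕ → ℕ → ℕ → ℕ → ℕ → Bool} (hX : XSound D R X)
    (g : List G) (hg : ∀ x ∈ g, x ∈ D) (hne : g ≠ []) (len defs data n : ℕ) (hlen : g.length = len)
    (hyps concl : List (ℕ × ℕ × ℕ × ℕ)) (ts : List ℕ) (hh : AllH R (fun i => g.getD i 1) hyps)
    (h : (check X len defs data n hyps && conclOK data n concl ts && bnd len concl) = true) :
    AllH R (fun i => g.getD i 1) concl := by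
  simp only [Bool.and_eq_true] at h
  obtain ⟨p, -, hp1, -, hp3⟩ := check_sound_raw hD hX g hg hne len defs data n hlen hyps hh h.1.1
  exact allH_congr hp1 h.2 (conclOK_sound hp3 h.1.2)

/-- a contradiction is reached at step `t` -/
theorem check_false (hD : FS D) {X : ℕ → ℕ → ℕ → ℕ → ℕ → ℕ → Bool} (hX : XSound D R X)
    (g : List G) (hg : ∀ x ∈ g, x ∈ D) (hne : g ≠ []) (len defs data n : ℕ) (hlen : g.length = len)
    (hyps : List (ℕ × ℕ × ℕ × ℕ)) (t : ℕ) (hh : AllH R (fun i => g.getD i 1) hyps)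
    (h : (check X len defs data n hyps && Nat.blt t n &&
      isB (fact data t) 2 (fI (fact data t)) (fI (fact data t))) = true) : False := by
  simp only [Bool.and_eq_true, Nat.blt_eq, isB_iff] at h
  obtain ⟨p, -, -, -, hp3⟩ := check_sound_raw hD hX g hg hne len defs data n hlen hyps hh h.1.1
  have := hp3 t h.1.2
  unfold HoldsC at this
  rw [h.2.1, h.2.2.2] at this
  exact this rfl

def X0 : ℕ → ℕ → ℕ → ℕ → ℕ → ℕ → Bool := fun _ _ _ _ _ _ => false

theorem X0_sound : XSound D R X0 := fun _ _ _ _ _ _ _ _ h => by simp [X0] at h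

def R0 : G → G → G → Prop := fun _ _ _ => True

/-- extra rule for width one: any two points braid -/
def XB : ℕ → ℕ → ℕ → ℕ → ℕ → ℕ → Bool := fun _ c _ _ _ _ => Nat.beq (fK c) 1

theorem XB_sound (h : ∀ a ∈ D, ∀ b ∈ D, a * b * a = b * a * b) : XSound D R XB :=
  fun p hp _ c _ _ _ _ hc _ _ _ _ => by
    simp only [XB, Nat.beq_eq] at hc
    unfold HoldsC; rw [hc]; exact h _ (hp _) _ (hp _)

/-- extra rule: commuting is transitive -/
def XC : ℕ → ℕ → ℕ → ℕ → ℕ → ℕ → Bool := fun _ c a b _ _ =>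
  isF a 0 (fI a) (fJ a) (fJ a) && isF b 0 (fJ a) (fJ b) (fJ b) && isF c 0 (fI a) (fJ b) (fJ b)

theorem XC_sound (hD : FS D)
    (h : ∀ a ∈ D, ∀ b ∈ D, ∀ c ∈ D, Commute a b → Commute b c → Commute a c) : XSound D R XC :=
  fun p hp _ c a b _ _ hc ha hb _ _ => by
    simp only [XC, Bool.and_eq_true, isF_iff] at hc
    obtain ⟨⟨⟨h0, -, -, h1⟩, g0, g1, -, g2⟩, k0, k1, k2, k3⟩ := hc
    unfold HoldsC at *
    rw [h0, h1] at ha; rw [g0, g1, g2] at hb; rw [k0, k1, k2, k3]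
    simp only [Holds] at ha hb ⊢
    rw [← commute_iff_conj_eq (hD.sq _ (hp _))] at ha hb ⊢
    exact h _ (hp _) _ (hp _) _ (hp _) ha hb

/-- extra rule: the commuting graph has no triangles -/
def XT : ℕ → ℕ → ℕ → ℕ → ℕ → ℕ → Bool := fun _ c a b d e =>
  isF a 0 (fI a) (fJ a) (fJ a) && isF b 0 (fI a) (fJ b) (fJ b) && isB d 2 (fI a) (fJ a) &&
    isB e 2 (fI a) (fJ b) && isB c 1 (fJ a) (fJ b)

theorem XT_sound (hD : FS D)
    (h : ∀ a ∈ D, ∀ b ∈ D, ∀ c ∈ D, Commute a b → Commute a c → a ≠ b → a ≠ c →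
      b * c * b = c * b * c) : XSound D R XT :=
  fun p hp _ c a b d e hc ha hb hd he => by
    simp only [XT, Bool.and_eq_true, isF_iff, isB_iff] at hc
    obtain ⟨⟨⟨⟨⟨h0, -, -, h1⟩, g0, g1, -, g2⟩, m0, m1, m2⟩, n0, n1, n2⟩, k0, k1, k2⟩ := hc
    unfold HoldsC at *
    rw [h0, h1] at ha; rw [g0, g1, g2] at hb; rw [m0, m1, m2] at hd; rw [n0, n1, n2] at he
    rw [k0, k1, k2]
    simp only [Holds] at ha hb hd he ⊢
    rw [← commute_iff_conj_eq (hD.sq _ (hp _))] at ha hb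
    exact h _ (hp _) _ (hp _) _ (hp _) ha hb hd he

/-! tables of the action of the first `ng` points on the first `N` points -/

def tabAt (tab N g i : ℕ) : ℕ := Nat.land (Nat.shiftRight tab (Nat.mul 32 (Nat.add (Nat.mul g N) i))) 4095
def tabPtr (tab N g i : ℕ) : ℕ :=
  Nat.land (Nat.shiftRight tab (Nat.add (Nat.mul 32 (Nat.add (Nat.mul g N) i)) 12)) 1048575

def repAt (rp i : ℕ) : ℕ := Nat.land (Nat.shiftRight rp (Nat.mul 12 i)) 4095

def tabOK (data n tab rp N ng : ℕ) : Bool :=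
  Nat.ble ng 4096 && Nat.ble N 4096 && allRange (fun g => allRange (fun i => Nat.blt (tabAt tab N g i) N &&
    Nat.blt (tabPtr tab N g i) n && isF (fact data (tabPtr tab N g i)) 0 (repAt rp g) (repAt rp i)
      (repAt rp (tabAt tab N g i))) N 12 0) ng 12 0

theorem tabOK_sound {data n tab rp N ng : ℕ} (H : ∀ t < n, HoldsC R p (fact data t))
    (h : tabOK data n tab rp N ng = true) : ∀ g < ng, ∀ i < N, tabAt tab N g i < N ∧
      p (repAt rp g) * p (repAt rp i) * p (repAt rp g) = p (repAt rp (tabAt tab N g i)) := by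
  intro g hg i hi
  simp only [tabOK, Bool.and_eq_true, Nat.ble_eq] at h
  obtain ⟨⟨h1, h2⟩, h3⟩ := h
  have h4 := allRange_spec _ _ _ _ h3 g (Nat.zero_le _) (by omega) hg
  have h5 := allRange_spec _ _ _ _ h4 i (Nat.zero_le _) (by omega) hi
  simp only [Bool.and_eq_true, Nat.blt_eq, isF_iff] at h5
  obtain ⟨⟨k1, k2⟩, k3, k4, k5, k6⟩ := h5
  refine ⟨k1, ?_⟩
  have := H _ k2
  unfold HoldsC at this
  rwa [k3, k4, k5, k6] at this

def conclRep (data n rp : ℕ) : List (ℕ × ℕ × ℕ × ℕ) → List ℕ → Bool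
  | [], _ => true
  | _ :: _, [] => false
  | x :: l, t :: ts => Nat.blt t n &&
      isF (fact data t) x.1 (repAt rp x.2.1) (repAt rp x.2.2.1) (repAt rp x.2.2.2) &&
      conclRep data n rp l ts

theorem conclRep_sound {data n rp : ℕ} (H : ∀ t < n, HoldsC R p (fact data t)) :
    ∀ {l : List (ℕ × ℕ × ℕ × ℕ)} {ts : List ℕ}, conclRep data n rp l ts = true →
      AllH R (fun i => p (repAt rp i)) l
  | [], _, _ => trivial
  | _ :: _, [], h => by simp [conclRep] at h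
  | x :: l, t :: ts, h => by
    simp only [conclRep, Bool.and_eq_true, Nat.blt_eq, isF_iff] at h
    obtain ⟨⟨h0, h1, h2, h3, h4⟩, h5⟩ := h
    refine ⟨?_, conclRep_sound H h5⟩
    have := H t h0
    unfold HoldsC at this
    rwa [h1, h2, h3, h4] at this

theorem close_sound_ne (hD : FS D) {X : ℕ → ℕ → ℕ → ℕ → ℕ → ℕ → Bool} (hX : XSound D R X)
    (g : List G) (hg : ∀ x ∈ g, x ∈ D) (hne : g ≠ []) (len defs data n : ℕ) (hlen : g.length = len)
    (hyps : List (ℕ × ℕ × ℕ × ℕ)) (tab rp N ng : ℕ) (concl : List (ℕ × ℕ × ℕ × ℕ)) (ts : List ℕ)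
    (hh : AllH R (fun i => g.getD i 1) hyps)
    (h : (check X len defs data n hyps && tabOK data n tab rp N ng && Nat.ble len 4096 &&
      allRange (fun i => Nat.beq (repAt rp i) i) len 12 0 && conclRep data n rp concl ts) = true) :
    ∃ q : ℕ → G, (∀ i, q i ∈ D) ∧ (∀ i < len, q i = g.getD i 1) ∧
      (∀ g < ng, ∀ i < N, tabAt tab N g i < N ∧ q g * q i * q g = q (tabAt tab N g i)) ∧
      AllH R q concl := by
  simp only [Bool.and_eq_true, Nat.ble_eq] at h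
  obtain ⟨⟨⟨⟨h1, h2⟩, h3⟩, h4⟩, h5⟩ := h
  obtain ⟨p, hp, hp1, -, hp3⟩ := check_sound_raw hD hX g hg hne len defs data n hlen hyps hh h1
  refine ⟨fun i => p (repAt rp i), fun i => hp _, fun i hi => ?_, tabOK_sound hp3 h2,
    conclRep_sound hp3 h5⟩
  have := allRange_spec _ _ _ _ h4 i (Nat.zero_le _) (by omega) hi
  simp only [Nat.beq_eq] at this
  simp only [this]; exact hp1 i hi

theorem close_sound (hD : FS D) {X : ℕ → ℕ → ℕ → ℕ → ℕ → ℕ → Bool} (hX : XSound D R X)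
    (g : List G) (hg : ∀ x ∈ g, x ∈ D) (hne : g ≠ []) (len defs data n : ℕ) (hlen : g.length = len)
    (hyps : List (ℕ × ℕ × ℕ × ℕ)) (tab rp N ng : ℕ)
    (hh : AllH R (fun i => g.getD i 1) hyps)
    (h : (check X len defs data n hyps && tabOK data n tab rp N ng && Nat.ble len 4096 &&
      allRange (fun i => Nat.beq (repAt rp i) i) len 12 0) = true) :
    ∃ q : ℕ → G, (∀ i, q i ∈ D) ∧ (∀ i < len, q i = g.getD i 1) ∧
      (∀ g < ng, ∀ i < N, tabAt tab N g i < N ∧ q g * q i * q g = q (tabAt tab N g i)) := by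
  obtain ⟨q, h1, h2, h3, -⟩ := close_sound_ne hD hX g hg hne len defs data n hlen hyps tab rp N ng
    [] [] hh (by rw [h]; rfl)
  exact ⟨q, h1, h2, h3⟩

/-- action of a word in the generators on an index -/
def actW (tab N : ℕ) : List ℕ → ℕ → ℕ
  | [], i => i
  | g :: w, i => tabAt tab N g (actW tab N w i)

theorem actW_sound (hD : FS D) (hp : ∀ i, p i ∈ D) {tab N ng : ℕ}
    (H : ∀ g < ng, ∀ i < N, tabAt tab N g i < N ∧ p g * p i * p g = p (tabAt tab N g i)) :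
    ∀ (w : List ℕ), (∀ g ∈ w, g < ng) → ∀ i < N, actW tab N w i < N ∧
      (w.map p).prod * p i * ((w.map p).prod)⁻¹ = p (actW tab N w i)
  | [], _, i, hi => ⟨hi, by simp [actW]⟩
  | g :: w, hw, i, hi => by
    obtain ⟨h1, h2⟩ := actW_sound hD hp H w (fun x hx => hw x (by simp [hx])) i hi
    obtain ⟨h3, h4⟩ := H g (hw g (by simp)) _ h1
    refine ⟨h3, ?_⟩
    simp only [actW, List.map_cons, List.prod_cons, mul_inv_rev]
    rw [← h4, ← h2, inv_eq_of_mul_self (hD.sq _ (hp g))]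
    simp only [mul_assoc]

end Eng

end Cfsg.Agent.H50
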