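import Cfsg.Agent.H50.F3C

/-! Three elements of order three with braid relations. -/

set_option autoImplicit false

namespace Cfsg.Agent.H50.F3W

open Cfsg.Agent.H44 Cfsg.Agent.H50.F3C

variable {G : Type*} [Group G]

/-- The braid relation. -/
def Br (g h : G) : Prop := g * h * g = h * g * h

def gg (a b c : G) (i : ℕ) : G := [1, a, a⁻¹, b, b⁻¹, c, c⁻¹].getD i 1

theorem cube {a : G} (h : a * a * a = 1) : a * (a * (a * 1)) = 1 := by
  rw [mul_one, ← mul_assoc, h]

theorem br_one {x y w : G} (h : Br x y) (t : G)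
    (e : w = t⁻¹ * (x * y * x * (y * x * y)⁻¹) * t) : w = 1 := by
  rw [e, show x * y * x = y * x * y from h]
  group

theorem cm_one {x y w : G} (h : Commute x y) (t : G)
    (e : w = t⁻¹ * (x * y * (y * x)⁻¹) * t) : w = 1 := by
  rw [e, h.eq]
  group

theorem cm_of {x y : G} (h : x * y * (y * x)⁻¹ = 1) : Commute x y := mul_inv_eq_one.1 h

theorem mem_of {H : Subgroup G} {x y : G} (h : x ∈ H) (e : y = x) : y ∈ H := e ▸ h

theorem t1 {a b : G} (ha : a * a * a = 1) (hb : b * b * b = 1)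
    (h1 : Br a b)
    (h2 : Br a b⁻¹) :
    a = 1 := by
  have hg : Sat (gg a b 1) T1.R := by
    intro r hr
    simp only [T1.R, List.mem_cons, List.not_mem_nil, or_false] at hr
    rcases hr with rfl | rfl | rfl | rfl | rfl | rfl
    · change a * (a⁻¹ * 1) = 1
      exact by simp
    · change b * (b⁻¹ * 1) = 1
      exact by simp
    · change a * (a * (a * 1)) = 1
      exact cube ha
    · change b * (b * (b * 1)) = 1
      exact cube hb
    · change a * (b * (a * (b⁻¹ * (a⁻¹ * (b⁻¹ * 1))))) = 1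
      exact br_one h1 (1 : G) (by group)
    · change a * (b⁻¹ * (a * (b * (a⁻¹ * (b * 1))))) = 1
      exact br_one h2 (1 : G) (by group)
  have h := Subgroup.mem_bot.1 (T1.checked.mem_of_trW hg (H := ⊥) (fun s hs => absurd hs List.not_mem_nil) rfl rfl (w := [1]) (by decide) (by decide +kernel))
  change a * 1 = 1 at h
  rwa [mul_one] at h

theorem c40 {a b c : G} (ha : a * a * a = 1) (hb : b * b * b = 1) (hc : c * c * c = 1)
    (hab : Br a b)
    (h0 : Br a c)
    (h1 : Br b c)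
    (h2 : Br (a⁻¹ * b * a) c)
    (h3 : Br (a * b * a⁻¹) c) :
    Commute (a * b * a * b * a * b) c ∧ Commute (a * c * a * c * a * c) b := by
  have hg : Sat (gg a b c) C40.R := by
    intro r hr
    simp only [C40.R, List.mem_cons, List.not_mem_nil, or_false] at hr
    rcases hr with rfl | rfl | rfl | rfl | rfl | rfl | rfl | rfl | rfl | rfl | rfl
    · change a * (a⁻¹ * 1) = 1
      exact by simp
    · change b * (b⁻¹ * 1) = 1
      exact by simp
    · change c * (c⁻¹ * 1) = 1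
      exact by simp
    · change a * (a * (a * 1)) = 1
      exact cube ha
    · change b * (b * (b * 1)) = 1
      exact cube hb
    · change c * (c * (c * 1)) = 1
      exact cube hc
    · change a * (b * (a * (b⁻¹ * (a⁻¹ * (b⁻¹ * 1))))) = 1
      exact br_one hab (1 : G) (by group)
    · change a * (c * (a * (c⁻¹ * (a⁻¹ * (c⁻¹ * 1))))) = 1
      exact br_one h0 (1 : G) (by group)
    · change b * (c * (b * (c⁻¹ * (b⁻¹ * (c⁻¹ * 1))))) = 1
      exact br_one h1 (1 : G) (by group)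
    · change a⁻¹ * (b * (a * (c * (a⁻¹ * (b * (a * (c⁻¹ * (a⁻¹ * (b⁻¹ * (a * (c⁻¹ * 1))))))))))) = 1
      exact br_one h2 (1 : G) (by group)
    · change a * (b * (a⁻¹ * (c * (a * (b * (a⁻¹ * (c⁻¹ * (a * (b⁻¹ * (a⁻¹ * (c⁻¹ * 1))))))))))) = 1
      exact br_one h3 (1 : G) (by group)
  have h := Subgroup.mem_bot.1 (C40.checked.mem_of_trW hg (H := ⊥) (fun s hs => absurd hs List.not_mem_nil) rfl rfl (w := [1, 3, 1, 3, 1, 3, 5, 4, 2, 4, 2, 4, 2, 6]) (by decide) (by decide +kernel))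
  have h' := Subgroup.mem_bot.1 (C40.checked.mem_of_trW hg (H := ⊥) (fun s hs => absurd hs List.not_mem_nil) rfl rfl (w := [1, 5, 1, 5, 1, 5, 3, 6, 2, 6, 2, 6, 2, 4]) (by decide) (by decide +kernel))
  change a * (b * (a * (b * (a * (b * (c * (b⁻¹ * (a⁻¹ * (b⁻¹ * (a⁻¹ * (b⁻¹ * (a⁻¹ * (c⁻¹ * 1))))))))))))) = 1 at h
  change a * (c * (a * (c * (a * (c * (b * (c⁻¹ * (a⁻¹ * (c⁻¹ * (a⁻¹ * (c⁻¹ * (a⁻¹ * (b⁻¹ * 1))))))))))))) = 1 at h'
  exact ⟨cm_of (by rw [← h]; group), cm_of (by rw [← h']; group)⟩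

theorem n0 {a b c : G} (ha : a * a * a = 1) (hb : b * b * b = 1) (hc : c * c * c = 1)
    (hab : Br a b)
    (h0 : Br a c⁻¹)
    (h1 : Br b c)
    (h2 : Br (a⁻¹ * b * a) c)
    (h3 : Br (a * b * a⁻¹) c) :
    a = 1 := by
  have hg : Sat (gg a b c) N0.R := by
    intro r hr
    simp only [N0.R, List.mem_cons, List.not_mem_nil, or_false] at hr
    rcases hr with rfl | rfl | rfl | rfl | rfl | rfl | rfl | rfl | rfl | rfl | rfl
    · change a * (a⁻¹ * 1) = 1
      exact by simp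
    · change b * (b⁻¹ * 1) = 1
      exact by simp
    · change c * (c⁻¹ * 1) = 1
      exact by simp
    · change a * (a * (a * 1)) = 1
      exact cube ha
    · change b * (b * (b * 1)) = 1
      exact cube hb
    · change c * (c * (c * 1)) = 1
      exact cube hc
    · change a * (b * (a * (b⁻¹ * (a⁻¹ * (b⁻¹ * 1))))) = 1
      exact br_one hab (1 : G) (by group)
    · change a * (c⁻¹ * (a * (c * (a⁻¹ * (c * 1))))) = 1
      exact br_one h0 (1 : G) (by group)
    · change b * (c * (b * (c⁻¹ * (b⁻¹ * (c⁻¹ * 1))))) = 1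
      exact br_one h1 (1 : G) (by group)
    · change a⁻¹ * (b * (a * (c * (a⁻¹ * (b * (a * (c⁻¹ * (a⁻¹ * (b⁻¹ * (a * (c⁻¹ * 1))))))))))) = 1
      exact br_one h2 (1 : G) (by group)
    · change a * (b * (a⁻¹ * (c * (a * (b * (a⁻¹ * (c⁻¹ * (a * (b⁻¹ * (a⁻¹ * (c⁻¹ * 1))))))))))) = 1
      exact br_one h3 (1 : G) (by group)
  have h := Subgroup.mem_bot.1 (N0.checked.mem_of_trW hg (H := ⊥) (fun s hs => absurd hs List.not_mem_nil) rfl rfl (w := [1]) (by decide) (by decide +kernel))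
  change a * 1 = 1 at h
  rwa [mul_one] at h

theorem n1 {a b c : G} (ha : a * a * a = 1) (hb : b * b * b = 1) (hc : c * c * c = 1)
    (hab : Br a b)
    (h0 : Br a c)
    (h1 : Br b c⁻¹)
    (h2 : Br (a⁻¹ * b * a) c)
    (h3 : Br (a * b * a⁻¹) c) :
    a = 1 := by
  have hg : Sat (gg a b c) N1.R := by
    intro r hr
    simp only [N1.R, List.mem_cons, List.not_mem_nil, or_false] at hr
    rcases hr with rfl | rfl | rfl | rfl | rfl | rfl | rfl | rfl | rfl | rfl | rfl
    · change a * (a⁻¹ * 1) = 1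
      exact by simp
    · change b * (b⁻¹ * 1) = 1
      exact by simp
    · change c * (c⁻¹ * 1) = 1
      exact by simp
    · change a * (a * (a * 1)) = 1
      exact cube ha
    · change b * (b * (b * 1)) = 1
      exact cube hb
    · change c * (c * (c * 1)) = 1
      exact cube hc
    · change a * (b * (a * (b⁻¹ * (a⁻¹ * (b⁻¹ * 1))))) = 1
      exact br_one hab (1 : G) (by group)
    · change a * (c * (a * (c⁻¹ * (a⁻¹ * (c⁻¹ * 1))))) = 1
      exact br_one h0 (1 : G) (by group)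
    · change b * (c⁻¹ * (b * (c * (b⁻¹ * (c * 1))))) = 1
      exact br_one h1 (1 : G) (by group)
    · change a⁻¹ * (b * (a * (c * (a⁻¹ * (b * (a * (c⁻¹ * (a⁻¹ * (b⁻¹ * (a * (c⁻¹ * 1))))))))))) = 1
      exact br_one h2 (1 : G) (by group)
    · change a * (b * (a⁻¹ * (c * (a * (b * (a⁻¹ * (c⁻¹ * (a * (b⁻¹ * (a⁻¹ * (c⁻¹ * 1))))))))))) = 1
      exact br_one h3 (1 : G) (by group)
  have h := Subgroup.mem_bot.1 (N1.checked.mem_of_trW hg (H := ⊥) (fun s hs => absurd hs List.not_mem_nil) rfl rfl (w := [1]) (by decide) (by decide +kernel))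
  change a * 1 = 1 at h
  rwa [mul_one] at h

theorem n2 {a b c : G} (ha : a * a * a = 1) (hb : b * b * b = 1) (hc : c * c * c = 1)
    (hab : Br a b)
    (h0 : Br a c)
    (h1 : Br b c)
    (h2 : Br (a⁻¹ * b * a) c⁻¹)
    (h3 : Br (a * b * a⁻¹) c) :
    a = 1 := by
  have hg : Sat (gg a b c) N2.R := by
    intro r hr
    simp only [N2.R, List.mem_cons, List.not_mem_nil, or_false] at hr
    rcases hr with rfl | rfl | rfl | rfl | rfl | rfl | rfl | rfl | rfl | rfl | rfl
    · change a * (a⁻¹ * 1) = 1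
      exact by simp
    · change b * (b⁻¹ * 1) = 1
      exact by simp
    · change c * (c⁻¹ * 1) = 1
      exact by simp
    · change a * (a * (a * 1)) = 1
      exact cube ha
    · change b * (b * (b * 1)) = 1
      exact cube hb
    · change c * (c * (c * 1)) = 1
      exact cube hc
    · change a * (b * (a * (b⁻¹ * (a⁻¹ * (b⁻¹ * 1))))) = 1
      exact br_one hab (1 : G) (by group)
    · change a * (c * (a * (c⁻¹ * (a⁻¹ * (c⁻¹ * 1))))) = 1
      exact br_one h0 (1 : G) (by group)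
    · change b * (c * (b * (c⁻¹ * (b⁻¹ * (c⁻¹ * 1))))) = 1
      exact br_one h1 (1 : G) (by group)
    · change a⁻¹ * (b * (a * (c⁻¹ * (a⁻¹ * (b * (a * (c * (a⁻¹ * (b⁻¹ * (a * (c * 1))))))))))) = 1
      exact br_one h2 (1 : G) (by group)
    · change a * (b * (a⁻¹ * (c * (a * (b * (a⁻¹ * (c⁻¹ * (a * (b⁻¹ * (a⁻¹ * (c⁻¹ * 1))))))))))) = 1
      exact br_one h3 (1 : G) (by group)
  have h := Subgroup.mem_bot.1 (N2.checked.mem_of_trW hg (H := ⊥) (fun s hs => absurd hs List.not_mem_nil) rfl rfl (w := [1]) (by decide) (by decide +kernel))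
  change a * 1 = 1 at h
  rwa [mul_one] at h

theorem n3 {a b c : G} (ha : a * a * a = 1) (hb : b * b * b = 1) (hc : c * c * c = 1)
    (hab : Br a b)
    (h0 : Br a c)
    (h1 : Br b c)
    (h2 : Br (a⁻¹ * b * a) c)
    (h3 : Br (a * b * a⁻¹) c⁻¹) :
    a = 1 := by
  have hg : Sat (gg a b c) N3.R := by
    intro r hr
    simp only [N3.R, List.mem_cons, List.not_mem_nil, or_false] at hr
    rcases hr with rfl | rfl | rfl | rfl | rfl | rfl | rfl | rfl | rfl | rfl | rfl
    · change a * (a⁻¹ * 1) = 1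
      exact by simp
    · change b * (b⁻¹ * 1) = 1
      exact by simp
    · change c * (c⁻¹ * 1) = 1
      exact by simp
    · change a * (a * (a * 1)) = 1
      exact cube ha
    · change b * (b * (b * 1)) = 1
      exact cube hb
    · change c * (c * (c * 1)) = 1
      exact cube hc
    · change a * (b * (a * (b⁻¹ * (a⁻¹ * (b⁻¹ * 1))))) = 1
      exact br_one hab (1 : G) (by group)
    · change a * (c * (a * (c⁻¹ * (a⁻¹ * (c⁻¹ * 1))))) = 1
      exact br_one h0 (1 : G) (by group)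
    · change b * (c * (b * (c⁻¹ * (b⁻¹ * (c⁻¹ * 1))))) = 1
      exact br_one h1 (1 : G) (by group)
    · change a⁻¹ * (b * (a * (c * (a⁻¹ * (b * (a * (c⁻¹ * (a⁻¹ * (b⁻¹ * (a * (c⁻¹ * 1))))))))))) = 1
      exact br_one h2 (1 : G) (by group)
    · change a * (b * (a⁻¹ * (c⁻¹ * (a * (b * (a⁻¹ * (c * (a * (b⁻¹ * (a⁻¹ * (c * 1))))))))))) = 1
      exact br_one h3 (1 : G) (by group)
  have h := Subgroup.mem_bot.1 (N3.checked.mem_of_trW hg (H := ⊥) (fun s hs => absurd hs List.not_mem_nil) rfl rfl (w := [1]) (by decide) (by decide +kernel))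
  change a * 1 = 1 at h
  rwa [mul_one] at h

theorem z1 {a b c : G} (ha : a * a * a = 1) (hb : b * b * b = 1) (hc : c * c * c = 1)
    (hab : Br a b)
    (h0 : Br a c)
    (h1 : Br b c)
    (h2 : Br (a⁻¹ * b * a) c⁻¹)
    (h3 : Br (a * b * a⁻¹) c⁻¹)
    (hz : Commute (a * b * a * b * a * b) c) :
    a = 1 := by
  have hg : Sat (gg a b c) Z1.R := by
    intro r hr
    simp only [Z1.R, List.mem_cons, List.not_mem_nil, or_false] at hr
    rcases hr with rfl | rfl | rfl | rfl | rfl | rfl | rfl | rfl | rfl | rfl | rfl | rfl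
    · change a * (a⁻¹ * 1) = 1
      exact by simp
    · change b * (b⁻¹ * 1) = 1
      exact by simp
    · change c * (c⁻¹ * 1) = 1
      exact by simp
    · change a * (a * (a * 1)) = 1
      exact cube ha
    · change b * (b * (b * 1)) = 1
      exact cube hb
    · change c * (c * (c * 1)) = 1
      exact cube hc
    · change a * (b * (a * (b⁻¹ * (a⁻¹ * (b⁻¹ * 1))))) = 1
      exact br_one hab (1 : G) (by group)
    · change a * (c * (a * (c⁻¹ * (a⁻¹ * (c⁻¹ * 1))))) = 1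
      exact br_one h0 (1 : G) (by group)
    · change b * (c * (b * (c⁻¹ * (b⁻¹ * (c⁻¹ * 1))))) = 1
      exact br_one h1 (1 : G) (by group)
    · change a⁻¹ * (b * (a * (c⁻¹ * (a⁻¹ * (b * (a * (c * (a⁻¹ * (b⁻¹ * (a * (c * 1))))))))))) = 1
      exact br_one h2 (1 : G) (by group)
    · change a * (b * (a⁻¹ * (c⁻¹ * (a * (b * (a⁻¹ * (c * (a * (b⁻¹ * (a⁻¹ * (c * 1))))))))))) = 1
      exact br_one h3 (1 : G) (by group)
    · change a * (b * (a * (b * (a * (b * (c * (b⁻¹ * (a⁻¹ * (b⁻¹ * (a⁻¹ * (b⁻¹ * (a⁻¹ * (c⁻¹ * 1))))))))))))) = 1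
      exact cm_one hz (1 : G) (by group)
  have h := Subgroup.mem_bot.1 (Z1.checked.mem_of_trW hg (H := ⊥) (fun s hs => absurd hs List.not_mem_nil) rfl rfl (w := [1]) (by decide) (by decide +kernel))
  change a * 1 = 1 at h
  rwa [mul_one] at h

theorem z2 {a b c : G} (ha : a * a * a = 1) (hb : b * b * b = 1) (hc : c * c * c = 1)
    (hab : Br a b)
    (h0 : Br a c)
    (h1 : Br b c⁻¹)
    (h2 : Br (a⁻¹ * b * a) c)
    (h3 : Br (a * b * a⁻¹) c⁻¹)
    (hz : Commute (a * b * a * b * a * b) c) :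
    a = 1 := by
  have hg : Sat (gg a b c) Z2.R := by
    intro r hr
    simp only [Z2.R, List.mem_cons, List.not_mem_nil, or_false] at hr
    rcases hr with rfl | rfl | rfl | rfl | rfl | rfl | rfl | rfl | rfl | rfl | rfl | rfl
    · change a * (a⁻¹ * 1) = 1
      exact by simp
    · change b * (b⁻¹ * 1) = 1
      exact by simp
    · change c * (c⁻¹ * 1) = 1
      exact by simp
    · change a * (a * (a * 1)) = 1
      exact cube ha
    · change b * (b * (b * 1)) = 1
      exact cube hb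
    · change c * (c * (c * 1)) = 1
      exact cube hc
    · change a * (b * (a * (b⁻¹ * (a⁻¹ * (b⁻¹ * 1))))) = 1
      exact br_one hab (1 : G) (by group)
    · change a * (c * (a * (c⁻¹ * (a⁻¹ * (c⁻¹ * 1))))) = 1
      exact br_one h0 (1 : G) (by group)
    · change b * (c⁻¹ * (b * (c * (b⁻¹ * (c * 1))))) = 1
      exact br_one h1 (1 : G) (by group)
    · change a⁻¹ * (b * (a * (c * (a⁻¹ * (b * (a * (c⁻¹ * (a⁻¹ * (b⁻¹ * (a * (c⁻¹ * 1))))))))))) = 1
      exact br_one h2 (1 : G) (by group)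
    · change a * (b * (a⁻¹ * (c⁻¹ * (a * (b * (a⁻¹ * (c * (a * (b⁻¹ * (a⁻¹ * (c * 1))))))))))) = 1
      exact br_one h3 (1 : G) (by group)
    · change a * (b * (a * (b * (a * (b * (c * (b⁻¹ * (a⁻¹ * (b⁻¹ * (a⁻¹ * (b⁻¹ * (a⁻¹ * (c⁻¹ * 1))))))))))))) = 1
      exact cm_one hz (1 : G) (by group)
  have h := Subgroup.mem_bot.1 (Z2.checked.mem_of_trW hg (H := ⊥) (fun s hs => absurd hs List.not_mem_nil) rfl rfl (w := [1]) (by decide) (by decide +kernel))
  change a * 1 = 1 at h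
  rwa [mul_one] at h

theorem z3 {a b c : G} (ha : a * a * a = 1) (hb : b * b * b = 1) (hc : c * c * c = 1)
    (hab : Br a b)
    (h0 : Br a c)
    (h1 : Br b c⁻¹)
    (h2 : Br (a⁻¹ * b * a) c⁻¹)
    (h3 : Br (a * b * a⁻¹) c)
    (hz : Commute (a * b * a * b * a * b) c) :
    a = 1 := by
  have hg : Sat (gg a b c) Z3.R := by
    intro r hr
    simp only [Z3.R, List.mem_cons, List.not_mem_nil, or_false] at hr
    rcases hr with rfl | rfl | rfl | rfl | rfl | rfl | rfl | rfl | rfl | rfl | rfl | rfl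
    · change a * (a⁻¹ * 1) = 1
      exact by simp
    · change b * (b⁻¹ * 1) = 1
      exact by simp
    · change c * (c⁻¹ * 1) = 1
      exact by simp
    · change a * (a * (a * 1)) = 1
      exact cube ha
    · change b * (b * (b * 1)) = 1
      exact cube hb
    · change c * (c * (c * 1)) = 1
      exact cube hc
    · change a * (b * (a * (b⁻¹ * (a⁻¹ * (b⁻¹ * 1))))) = 1
      exact br_one hab (1 : G) (by group)
    · change a * (c * (a * (c⁻¹ * (a⁻¹ * (c⁻¹ * 1))))) = 1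
      exact br_one h0 (1 : G) (by group)
    · change b * (c⁻¹ * (b * (c * (b⁻¹ * (c * 1))))) = 1
      exact br_one h1 (1 : G) (by group)
    · change a⁻¹ * (b * (a * (c⁻¹ * (a⁻¹ * (b * (a * (c * (a⁻¹ * (b⁻¹ * (a * (c * 1))))))))))) = 1
      exact br_one h2 (1 : G) (by group)
    · change a * (b * (a⁻¹ * (c * (a * (b * (a⁻¹ * (c⁻¹ * (a * (b⁻¹ * (a⁻¹ * (c⁻¹ * 1))))))))))) = 1
      exact br_one h3 (1 : G) (by group)
    · change a * (b * (a * (b * (a * (b * (c * (b⁻¹ * (a⁻¹ * (b⁻¹ * (a⁻¹ * (b⁻¹ * (a⁻¹ * (c⁻¹ * 1))))))))))))) = 1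
      exact cm_one hz (1 : G) (by group)
  have h := Subgroup.mem_bot.1 (Z3.checked.mem_of_trW hg (H := ⊥) (fun s hs => absurd hs List.not_mem_nil) rfl rfl (w := [1]) (by decide) (by decide +kernel))
  change a * 1 = 1 at h
  rwa [mul_one] at h

theorem y00 {a b c : G} (ha : a * a * a = 1) (hb : b * b * b = 1) (hc : c * c * c = 1)
    (hab : Br a b)
    (h0 : Br a c)
    (h1 : Br b c⁻¹)
    (h2 : Br (a⁻¹ * b * a) c)
    (h3 : Br (a * b * a⁻¹) c⁻¹)
    (he : Br a (c * b * c⁻¹))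
    {H : Subgroup G} (s1 : (a * b * a * b * a * b) ∈ H) (s2 : (a * c * a * c * a * c) ∈ H)
    (s3 : (a * (c * b * c⁻¹) * a * (c * b * c⁻¹) * a * (c * b * c⁻¹)) ∈ H) :
    a ∈ H := by
  have hg : Sat (gg a b c) Y00.R := by
    intro r hr
    simp only [Y00.R, List.mem_cons, List.not_mem_nil, or_false] at hr
    rcases hr with rfl | rfl | rfl | rfl | rfl | rfl | rfl | rfl | rfl | rfl | rfl | rfl
    · change a * (a⁻¹ * 1) = 1
      exact by simp
    · change b * (b⁻¹ * 1) = 1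
      exact by simp
    · change c * (c⁻¹ * 1) = 1
      exact by simp
    · change a * (a * (a * 1)) = 1
      exact cube ha
    · change b * (b * (b * 1)) = 1
      exact cube hb
    · change c * (c * (c * 1)) = 1
      exact cube hc
    · change a * (b * (a * (b⁻¹ * (a⁻¹ * (b⁻¹ * 1))))) = 1
      exact br_one hab (1 : G) (by group)
    · change a * (c * (a * (c⁻¹ * (a⁻¹ * (c⁻¹ * 1))))) = 1
      exact br_one h0 (1 : G) (by group)
    · change b * (c⁻¹ * (b * (c * (b⁻¹ * (c * 1))))) = 1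
      exact br_one h1 (1 : G) (by group)
    · change a⁻¹ * (b * (a * (c * (a⁻¹ * (b * (a * (c⁻¹ * (a⁻¹ * (b⁻¹ * (a * (c⁻¹ * 1))))))))))) = 1
      exact br_one h2 (1 : G) (by group)
    · change a * (b * (a⁻¹ * (c⁻¹ * (a * (b * (a⁻¹ * (c * (a * (b⁻¹ * (a⁻¹ * (c * 1))))))))))) = 1
      exact br_one h3 (1 : G) (by group)
    · change a * (c * (b * (c⁻¹ * (a * (c * (b⁻¹ * (c⁻¹ * (a⁻¹ * (c * (b⁻¹ * (c⁻¹ * 1))))))))))) = 1
      exact br_one he (1 : G) (by group)
  have hS : ∀ s ∈ Y00.S, ev (gg a b c) s ∈ H := by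
    intro r hr
    simp only [Y00.S, List.mem_cons, List.not_mem_nil, or_false] at hr
    rcases hr with rfl | rfl | rfl
    · change a * (b * (a * (b * (a * (b * 1))))) ∈ H
      exact mem_of s1 (by group)
    · change a * (c * (a * (c * (a * (c * 1))))) ∈ H
      exact mem_of s2 (by group)
    · change a * (c * (b * (c⁻¹ * (a * (c * (b * (c⁻¹ * (a * (c * (b * (c⁻¹ * 1))))))))))) ∈ H
      exact mem_of s3 (by group)
  have h := (Y00.checked.mem_of_trW hg (H := H) hS rfl rfl (w := [1]) (by decide) (by decide +kernel))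
  change a * 1 ∈ H at h
  rwa [mul_one] at h

theorem y01 {a b c : G} (ha : a * a * a = 1) (hb : b * b * b = 1) (hc : c * c * c = 1)
    (hab : Br a b)
    (h0 : Br a c)
    (h1 : Br b c⁻¹)
    (h2 : Br (a⁻¹ * b * a) c)
    (h3 : Br (a * b * a⁻¹) c⁻¹)
    (he : Br a (c * b⁻¹ * c⁻¹))
    {H : Subgroup G} (s1 : (a * b * a * b * a * b) ∈ H) (s2 : (a * c * a * c * a * c) ∈ H)
    (s3 : (a * (c * b⁻¹ * c⁻¹) * a * (c * b⁻¹ * c⁻¹) * a * (c * b⁻¹ * c⁻¹)) ∈ H) :
    a ∈ H := by
  have hg : Sat (gg a b c) Y01.R := by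
    intro r hr
    simp only [Y01.R, List.mem_cons, List.not_mem_nil, or_false] at hr
    rcases hr with rfl | rfl | rfl | rfl | rfl | rfl | rfl | rfl | rfl | rfl | rfl | rfl
    · change a * (a⁻¹ * 1) = 1
      exact by simp
    · change b * (b⁻¹ * 1) = 1
      exact by simp
    · change c * (c⁻¹ * 1) = 1
      exact by simp
    · change a * (a * (a * 1)) = 1
      exact cube ha
    · change b * (b * (b * 1)) = 1
      exact cube hb
    · change c * (c * (c * 1)) = 1
      exact cube hc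
    · change a * (b * (a * (b⁻¹ * (a⁻¹ * (b⁻¹ * 1))))) = 1
      exact br_one hab (1 : G) (by group)
    · change a * (c * (a * (c⁻¹ * (a⁻¹ * (c⁻¹ * 1))))) = 1
      exact br_one h0 (1 : G) (by group)
    · change b * (c⁻¹ * (b * (c * (b⁻¹ * (c * 1))))) = 1
      exact br_one h1 (1 : G) (by group)
    · change a⁻¹ * (b * (a * (c * (a⁻¹ * (b * (a * (c⁻¹ * (a⁻¹ * (b⁻¹ * (a * (c⁻¹ * 1))))))))))) = 1
      exact br_one h2 (1 : G) (by group)
    · change a * (b * (a⁻¹ * (c⁻¹ * (a * (b * (a⁻¹ * (c * (a * (b⁻¹ * (a⁻¹ * (c * 1))))))))))) = 1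
      exact br_one h3 (1 : G) (by group)
    · change a * (c * (b⁻¹ * (c⁻¹ * (a * (c * (b * (c⁻¹ * (a⁻¹ * (c * (b * (c⁻¹ * 1))))))))))) = 1
      exact br_one he (1 : G) (by group)
  have hS : ∀ s ∈ Y01.S, ev (gg a b c) s ∈ H := by
    intro r hr
    simp only [Y01.S, List.mem_cons, List.not_mem_nil, or_false] at hr
    rcases hr with rfl | rfl | rfl
    · change a * (b * (a * (b * (a * (b * 1))))) ∈ H
      exact mem_of s1 (by group)
    · change a * (c * (a * (c * (a * (c * 1))))) ∈ H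
      exact mem_of s2 (by group)
    · change a * (c * (b⁻¹ * (c⁻¹ * (a * (c * (b⁻¹ * (c⁻¹ * (a * (c * (b⁻¹ * (c⁻¹ * 1))))))))))) ∈ H
      exact mem_of s3 (by group)
  have h := (Y01.checked.mem_of_trW hg (H := H) hS rfl rfl (w := [1]) (by decide) (by decide +kernel))
  change a * 1 ∈ H at h
  rwa [mul_one] at h

theorem y10 {a b c : G} (ha : a * a * a = 1) (hb : b * b * b = 1) (hc : c * c * c = 1)
    (hab : Br a b)
    (h0 : Br a c)
    (h1 : Br b c⁻¹)
    (h2 : Br (a⁻¹ * b * a) c⁻¹)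
    (h3 : Br (a * b * a⁻¹) c)
    (he : Br a (c * b * c⁻¹))
    {H : Subgroup G} (s1 : (a * b * a * b * a * b) ∈ H) (s2 : (a * c * a * c * a * c) ∈ H)
    (s3 : (a * (c * b * c⁻¹) * a * (c * b * c⁻¹) * a * (c * b * c⁻¹)) ∈ H) :
    a ∈ H := by
  have hg : Sat (gg a b c) Y10.R := by
    intro r hr
    simp only [Y10.R, List.mem_cons, List.not_mem_nil, or_false] at hr
    rcases hr with rfl | rfl | rfl | rfl | rfl | rfl | rfl | rfl | rfl | rfl | rfl | rfl
    · change a * (a⁻¹ * 1) = 1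
      exact by simp
    · change b * (b⁻¹ * 1) = 1
      exact by simp
    · change c * (c⁻¹ * 1) = 1
      exact by simp
    · change a * (a * (a * 1)) = 1
      exact cube ha
    · change b * (b * (b * 1)) = 1
      exact cube hb
    · change c * (c * (c * 1)) = 1
      exact cube hc
    · change a * (b * (a * (b⁻¹ * (a⁻¹ * (b⁻¹ * 1))))) = 1
      exact br_one hab (1 : G) (by group)
    · change a * (c * (a * (c⁻¹ * (a⁻¹ * (c⁻¹ * 1))))) = 1
      exact br_one h0 (1 : G) (by group)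
    · change b * (c⁻¹ * (b * (c * (b⁻¹ * (c * 1))))) = 1
      exact br_one h1 (1 : G) (by group)
    · change a⁻¹ * (b * (a * (c⁻¹ * (a⁻¹ * (b * (a * (c * (a⁻¹ * (b⁻¹ * (a * (c * 1))))))))))) = 1
      exact br_one h2 (1 : G) (by group)
    · change a * (b * (a⁻¹ * (c * (a * (b * (a⁻¹ * (c⁻¹ * (a * (b⁻¹ * (a⁻¹ * (c⁻¹ * 1))))))))))) = 1
      exact br_one h3 (1 : G) (by group)
    · change a * (c * (b * (c⁻¹ * (a * (c * (b⁻¹ * (c⁻¹ * (a⁻¹ * (c * (b⁻¹ * (c⁻¹ * 1))))))))))) = 1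
      exact br_one he (1 : G) (by group)
  have hS : ∀ s ∈ Y10.S, ev (gg a b c) s ∈ H := by
    intro r hr
    simp only [Y10.S, List.mem_cons, List.not_mem_nil, or_false] at hr
    rcases hr with rfl | rfl | rfl
    · change a * (b * (a * (b * (a * (b * 1))))) ∈ H
      exact mem_of s1 (by group)
    · change a * (c * (a * (c * (a * (c * 1))))) ∈ H
      exact mem_of s2 (by group)
    · change a * (c * (b * (c⁻¹ * (a * (c * (b * (c⁻¹ * (a * (c * (b * (c⁻¹ * 1))))))))))) ∈ H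
      exact mem_of s3 (by group)
  have h := (Y10.checked.mem_of_trW hg (H := H) hS rfl rfl (w := [1]) (by decide) (by decide +kernel))
  change a * 1 ∈ H at h
  rwa [mul_one] at h

theorem y11 {a b c : G} (ha : a * a * a = 1) (hb : b * b * b = 1) (hc : c * c * c = 1)
    (hab : Br a b)
    (h0 : Br a c)
    (h1 : Br b c⁻¹)
    (h2 : Br (a⁻¹ * b * a) c⁻¹)
    (h3 : Br (a * b * a⁻¹) c)
    (he : Br a (c * b⁻¹ * c⁻¹))
    {H : Subgroup G} (s1 : (a * b * a * b * a * b) ∈ H) (s2 : (a * c * a * c * a * c) ∈ H)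
    (s3 : (a * (c * b⁻¹ * c⁻¹) * a * (c * b⁻¹ * c⁻¹) * a * (c * b⁻¹ * c⁻¹)) ∈ H) :
    a ∈ H := by
  have hg : Sat (gg a b c) Y11.R := by
    intro r hr
    simp only [Y11.R, List.mem_cons, List.not_mem_nil, or_false] at hr
    rcases hr with rfl | rfl | rfl | rfl | rfl | rfl | rfl | rfl | rfl | rfl | rfl | rfl
    · change a * (a⁻¹ * 1) = 1
      exact by simp
    · change b * (b⁻¹ * 1) = 1
      exact by simp
    · change c * (c⁻¹ * 1) = 1
      exact by simp
    · change a * (a * (a * 1)) = 1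
      exact cube ha
    · change b * (b * (b * 1)) = 1
      exact cube hb
    · change c * (c * (c * 1)) = 1
      exact cube hc
    · change a * (b * (a * (b⁻¹ * (a⁻¹ * (b⁻¹ * 1))))) = 1
      exact br_one hab (1 : G) (by group)
    · change a * (c * (a * (c⁻¹ * (a⁻¹ * (c⁻¹ * 1))))) = 1
      exact br_one h0 (1 : G) (by group)
    · change b * (c⁻¹ * (b * (c * (b⁻¹ * (c * 1))))) = 1
      exact br_one h1 (1 : G) (by group)
    · change a⁻¹ * (b * (a * (c⁻¹ * (a⁻¹ * (b * (a * (c * (a⁻¹ * (b⁻¹ * (a * (c * 1))))))))))) = 1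
      exact br_one h2 (1 : G) (by group)
    · change a * (b * (a⁻¹ * (c * (a * (b * (a⁻¹ * (c⁻¹ * (a * (b⁻¹ * (a⁻¹ * (c⁻¹ * 1))))))))))) = 1
      exact br_one h3 (1 : G) (by group)
    · change a * (c * (b⁻¹ * (c⁻¹ * (a * (c * (b * (c⁻¹ * (a⁻¹ * (c * (b * (c⁻¹ * 1))))))))))) = 1
      exact br_one he (1 : G) (by group)
  have hS : ∀ s ∈ Y11.S, ev (gg a b c) s ∈ H := by
    intro r hr
    simp only [Y11.S, List.mem_cons, List.not_mem_nil, or_false] at hr
    rcases hr with rfl | rfl | rfl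
    · change a * (b * (a * (b * (a * (b * 1))))) ∈ H
      exact mem_of s1 (by group)
    · change a * (c * (a * (c * (a * (c * 1))))) ∈ H
      exact mem_of s2 (by group)
    · change a * (c * (b⁻¹ * (c⁻¹ * (a * (c * (b⁻¹ * (c⁻¹ * (a * (c * (b⁻¹ * (c⁻¹ * 1))))))))))) ∈ H
      exact mem_of s3 (by group)
  have h := (Y11.checked.mem_of_trW hg (H := H) hS rfl rfl (w := [1]) (by decide) (by decide +kernel))
  change a * 1 ∈ H at h
  rwa [mul_one] at h

end Cfsg.Agent.H50.F3W
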