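import Mathlib
import Cfsg.Agent.H50.Rank3

/-! The two planes of a Fischer space. -/

set_option autoImplicit false

namespace Cfsg.Agent.H50

open Cfsg LineSystem

variable {G : Type*} [Group G]

def ag9_tab : ℕ := 0x160080008c00000082001000830030007b002000790050008f00400087006000880070008d00000014007000740020007d0040006500500078001000860060005d0030008a00800084001000890020001200600080000000750030008e004000730070006c0080008b0050007a0030006200400081000000100050004a0070008500800072001000530020007e0060005a0020004c0050004f003000490070000e0040006f006000420080006600000047001000760050005b001000710040007c008000520060000a0030005e0000003600700045002000770040006100600070007000500010005c00800044000000030020002b0050001c00300067006000350030006a0080002a00200046000000150070001100500002001000240040003c007000170080003000500013006000230010001b0020000b0030000f00400001000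

theorem ag9 {D : Set G} (hD : FS D)  {p a b : G}
    (hp : p ∈ D) (ha : a ∈ D) (hb : b ∈ D)
    (h1 : ¬ Commute p a)
    (h2 : ¬ Commute p b)
    (h3 : ¬ Commute a b)
    (h4 : ¬ Commute a (p * b * p))
    : ∃ q : ℕ → G, (∀ i, q i ∈ D) ∧ (∀ i < 9, q i = ([p, a, b, (p * b * p), (p * a * p), (a * b * a), (p * (a * b * a) * p), (a * (p * b * p) * a), (p * (a * (p * b * p) * a) * p)] : List G).getD i 1) ∧
      (∀ g < 9, ∀ i < 9, Eng.tabAt ag9_tab 9 g i < 9 ∧ q g * q i * q g = q (Eng.tabAt ag9_tab 9 g i)) ∧
      Eng.AllH Eng.R0 q [(2, 0, 1, 0), (2, 0, 2, 0), (2, 0, 3, 0), (2, 0, 4, 0), (2, 0, 5, 0), (2, 0, 6, 0), (2, 0, 7, 0), (2, 0, 8, 0), (2, 1, 2, 0), (2, 1, 3, 0), (2, 1, 4, 0), (2, 1, 5, 0), (2, 1, 6, 0), (2, 1, 7, 0), (2, 1, 8, 0), (2, 2, 3, 0), (2, 2, 4, 0), (2, 2, 5, 0), (2, 2, 6, 0), (2, 2, 7, 0), (2, 2, 8, 0), (2, 3, 4, 0), (2, 3, 5, 0), (2, 3, 6, 0), (2, 3, 7, 0), (2, 3, 8, 0), (2, 4, 5, 0), (2, 4, 6, 0), (2, 4, 7, 0), (2, 4, 8, 0), (2, 5, 6, 0), (2, 5, 7, 0), (2, 5, 8, 0), (2, 6, 7, 0), (2, 6, 8, 0), (2, 7, 8, 0)] :=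
  Eng.close_sound_ne hD (R := Eng.R0) (X := Eng.X0) Eng.X0_sound [p, a, b, (p * b * p), (p * a * p), (a * b * a), (p * (a * b * a) * p), (a * (p * b * p) * a), (p * (a * (p * b * p) * a) * p)]
    (by simp only [List.forall_mem_cons]; exact ⟨hp, ha, hb, (hD.conj _ hp _ hb), (hD.conj _ hp _ ha), (hD.conj _ ha _ hb), (hD.conj _ hp _ (hD.conj _ ha _ hb)), (hD.conj _ ha _ (hD.conj _ hp _ hb)), (hD.conj _ hp _ (hD.conj _ ha _ (hD.conj _ hp _ hb))), by simp⟩) (by simp) 9 0x0
    0xe000770005a000420500100080200000e000710004f0006f05001000c01800046000710006a0001505000002001c000440004f000700005c05000001c0200004c00036000660006f0500140000180004200053000660004905002000001c0004500066000360005205000801c018000490002b000660004205001c00002000013000650002300017050018004020000000000000061000640a001800801c000420005d000530006206002000c014000230006200017000130500040200180004f000610004c0004205000c014020000500004c000610005c0500040180200004400035000610002b050000018014000440005d0002b000610500000140180000000013000600005f1200000180160000000000000130005f0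a0018000014000240005e000110001505001001401c000170002b000360005e06002001400c0005a0005c0000e000420500080100200001c000460005c0002b05000c0200140002b000470001c0005c05001400c020000020005b000350001505000400c01c0000f0005b000170001b0500100200080002b000170005b0004506001402000c0000b000530000f0001305000c0100180004500046000520003605000801801c0003600047000450005205001c00801800002000500002a000110500040080140000f00050000130000b05001001800c0003600013000500001c06001c0180080000000000000000004f03001800c010000000003c000130006d0f000001c01a00000000420004c000570f0000020016000170004a00023000130500200040180000000042000490002f0f000002001e00017000490001300023050020018004000000001700001000680f0000020002000000001500046000270f000001c002000130004200011000460600180200040000100046000230000f0500000040100001100045000240001505001401001c000000003600045000040c000001c009000000001300001000600f00000180020002400044000150001105001001c01400013000360002b0004406001801c008000000002b00044000220f0000014002000000002b00044000210c000001400100001000440001b0000b05000000800c0003500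036000020001505000c00401c00017000360000f0001b0500200100080000000000000000003603000401c00c0001b00035000170000f050008020010000000000000000000550e000001800a00000000170000b000560f000002000e000000000000000000560e000000801e00000000150002a000510f000001c00a000000001b00013000510f000000801a000000000000000000510e000001400e0002a0002b0000200011050008004014000130002b0000f0000b05001801000c000000001c0002b000180f000000c0160000000000000000002b0300040140080000b0002a000130000f05000c018010000000001300023000480f00000180060000000017000230004b0f0000020006000110001b000150002405001401c0100000000015000240001f0f000001c012000150001c000240001105001c010014000150000b000110002405001c014010000000001100024000070f00000140120002300024000010000f050004000010000000000000000000240300000100040001b0001c000010000b05000800000c0000000000000000001c03000000c00800000000170001b000370f000002000a00017000150001b0000f050020008010000000000f0001b000220f000001000a0000000000000000003d0e00000200120000000000000000003e0e000002001a000000001300017000390f0000018022000000000f00017000380f000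00100220000000000000000001703001c020000000000000000000000380e000001c006000000000000000000390e000001c016000000001100015000200f000001401e000000000200015000220f000000401e00000000150000d0000c12000001c00e0000000000000150000c0a001c00400c0000000000000000001503000c01c004000000000000000000310e0000018012000000000000000000320e000001800e000000000b000130002f0f000000c01a000000000f000130002d0f000001001a000000000000000000130300140180000000000000000000002c0e00000080160000000000000000002d0e00000140060000000002000110001a0f00000040160000000011000090000812000001400a000000000000011000080a001400400800000000000000000011030008014004000000000000000000260e0000010002000000000000000000270e000001000e000000000b0000f000090f000000c01200000000010000f000180f0000000012000000000f000050000412000001000600000000000000f000040a00100000040000000000000000000f0300040100000000000000000000000d0e000000400e0000000000000000000c09000000400d0000000000000000001d0e000000800e0000000000000000001e0e000000c00200000000010000b000190f000000000e000000000b000070000612000000c00a00000000000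000b000060a000c0000080000000000000000000b03000800c000000000000000000000090e000000400a000000000000000000070e000000000a000000000000000000050e00000000060000000000000000000000002001c000000000000000000000000200200200200000000000000000000000001c00c0040000000000000000000002001c01c01c0000000000000000000000001801400000000000000000000000020018018018000000000000000000000000140080040000000000000000000002001401401400000000000000000000000010004000000000000000000000000200100100100000000000000000000000000000c0060000000000000000000000000000c0050000000000000000000000000c0080000000000000000000000002000c00c00c00000000000000000000000000008006000000000000000000000000000080050000000000000000000000000000800200000000000000000000000000008001000000000000000000000000000040020000000000000000000000000000400100000000000000000000020008008008000000000000000000000200040040040000000000000000000002000000000000000000000000000000020000000000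
    144 rfl [(1, 0, 1, 0), (2, 0, 1, 0), (1, 0, 2, 0), (2, 0, 2, 0), (1, 1, 2, 0), (2, 1, 2, 0), (0, 0, 2, 3), (1, 1, 3, 0), (2, 1, 3, 0), (0, 0, 1, 4), (0, 1, 2, 5), (0, 0, 5, 6), (0, 1, 3, 7), (0, 0, 7, 8)] ag9_tab 0x8007006005004003002001000 9 9 _ [5, 7, 31, 41, 96, 99, 104, 105, 9, 13, 37, 46, 78, 59, 77, 29, 65, 44, 89, 86, 67, 40, 84, 51, 55, 88, 72, 52, 75, 64, 127, 58, 109, 110, 63, 107]
    ⟨hD.br _ hp _ ha h1, ne_of_not_commute h1, hD.br _ hp _ hb h2, ne_of_not_commute h2, hD.br _ ha _ hb h3, ne_of_not_commute h3, rfl, hD.br _ ha _ (hD.conj _ hp _ hb) h4, ne_of_not_commute h4, rfl, rfl, rfl, rfl, rfl, trivial⟩ (by decide +kernel)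

def da6_tab : ℕ := 0xe0050003d00000041002000420030003700100038004000400000000c004000260030003c001000330020003f0050002f0020001e0040000a0030002a00500028000000340010003b0030003000100032005000030020001b00400013000000360050001a002000150000000d004000020010000b003000230040000f00500027001000080020001600300001000

theorem da6 {D : Set G} (hD : FS D)  {a p b : G}
    (ha : a ∈ D) (hp : p ∈ D) (hb : b ∈ D)
    (h1 : ¬ Commute a p)
    (h2 : ¬ Commute p b)
    (h3 : Commute a b)
    (h4 : a ≠ b)
    : ∃ q : ℕ → G, (∀ i, q i ∈ D) ∧ (∀ i < 6, q i = ([a, p, b, (p * a * p), (p * b * p), (a * (p * b * p) * a)] : List G).getD i 1) ∧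
      (∀ g < 6, ∀ i < 6, Eng.tabAt da6_tab 6 g i < 6 ∧ q g * q i * q g = q (Eng.tabAt da6_tab 6 g i)) ∧
      Eng.AllH Eng.R0 q [(2, 0, 1, 0), (2, 0, 2, 0), (2, 0, 3, 0), (2, 0, 4, 0), (2, 0, 5, 0), (2, 1, 2, 0), (2, 1, 3, 0), (2, 1, 4, 0), (2, 1, 5, 0), (2, 2, 3, 0), (2, 2, 4, 0), (2, 2, 5, 0), (2, 3, 4, 0), (2, 3, 5, 0), (2, 4, 5, 0)] :=
  Eng.close_sound_ne hD (R := Eng.R0) (X := Eng.X0) Eng.X0_sound [a, p, b, (p * a * p), (p * b * p), (a * (p * b * p) * a)]
    (by simp only [List.forall_mem_cons]; exact ⟨ha, hp, hb, (hD.conj _ hp _ ha), (hD.conj _ hp _ hb), (hD.conj _ ha _ (hD.conj _ hp _ hb)), by simp⟩) (by simp) 6 0x0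
    0xa0003b0002f0002a05000c0080140002f000320000a0002a05000800c0140001300015000320001b05000001401000000000000000f0003e0a00140000100000000000000000003109000001000100028000300001e0002a05000001001400002000300001a0000d050004008010000160000f000300001306000c014008000000000000000000390e0000014012000000001e0002a0001c0f00000100160001e0001b000280002a0500100000140002700026000270000f0500040040140000f0001e0000f00027050014014004000000000f00027000210f00000140060000200027000150000b05000400000c0001a0001b000020000d0500080040100000f000160001b0001306001400c00800000000130001b000100c00000000110000000000000000001b030004010008000080001a0000f0001605000801400c000000000f000010002d0f0000014002000000000d00015000290f0000010002000000000000000000290e000000c00a000000000f00016000200f000001400e0000f0000d000080001605001400800c000000000800016000070f000000800e0001500016000020000b05000000400c0000000000000000001603000400c0000000b000130000b0000d05000c00c010000000000000000000240e000001400a00000000080000f000220f00000080160000000000000000000f030010014000000000000000000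0001c0e00000080120000000000000000001d0e000001000e0000000000000000001f0e000001000600000000020000d000120f00000040120000d000080000d0000b05001001000c000000000b0000d000140f000000c012000000000d000070000612000001000a00000000000000d000060a00100040080000000000000000000d030008010004000000000000000000180e000000c00600000000020000b000050f000000400e000000000b000110001012000000c00200000000000000b000100a000c0040000000000000000000000b03000000c004000000000000000000090e000000000a00000000000000000008040000000008000000000000000000070e000000400a000000000000000000050e000000000600000000000000000004090000000005000000000000000000000000140100000000000000000000000002001401401400000000000000000000000010008004000000000000000000000200100100100000000000000000000000000c0000040000000000000000000002000c00c00c00000000000000000000000000008002000000000000000000000000080080000000000000000000000000000000800600000000000000000000000000008005000000000000000000000000000040020000000000000000000000000000400100000000000000000000020008008008000000000000000000000200040040040000000000000000000002000000000000000000000000000000020000000000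
    67 rfl [(1, 0, 1, 0), (2, 0, 1, 0), (1, 1, 2, 0), (2, 1, 2, 0), (0, 0, 2, 2), (2, 0, 2, 0), (0, 1, 0, 3), (0, 1, 2, 4), (0, 0, 4, 5)] da6_tab 0x5004003002001000 6 6 _ [5, 9, 23, 45, 46, 7, 25, 32, 53, 44, 28, 37, 33, 43, 58]
    ⟨hD.br _ ha _ hp h1, ne_of_not_commute h1, hD.br _ hp _ hb h2, ne_of_not_commute h2, (commute_iff_conj_eq (hD.sq _ ha)).1 h3, h4, rfl, rfl, rfl, trivial⟩ (by decide +kernel)


theorem inj_of_allH {q : ℕ → G} {N : ℕ} {l : List (ℕ × ℕ × ℕ × ℕ)} (h : Eng.AllH Eng.R0 q l)
    (hl : ((List.range N).all fun j => (List.range j).all fun i => l.contains (2, i, j, 0)) = true) :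
    ∀ i < N, ∀ j < N, q i = q j → i = j := by
  simp only [List.all_eq_true, List.mem_range, List.contains_iff_mem] at hl
  intro i hi j hj e
  rcases lt_trichotomy i j with h1 | h1 | h1
  · exact absurd e (Eng.allH_iff.1 h _ (hl j hj i h1))
  · exact h1
  · exact absurd e.symm (Eng.allH_iff.1 h _ (hl i hi j h1))

theorem mem_lines_iff {D : Set G} (hD : FS D) {l : Set D} : l ∈ threeTranspositionLines D ↔
    ∃ x y : D, ¬ Commute (x : G) y ∧ ∀ z : D, z ∈ l ↔ ((z : G) = x ∨ (z : G) = y ∨ (z : G) = y * x * y) := by
  unfold threeTranspositionLines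
  refine exists_congr fun x => exists_congr fun y => and_congr_right fun _ => ?_
  rw [inv_eq_of_mul_self (hD.sq _ y.2), Set.ext_iff]
  rfl

/-- a line is determined by any two of its points -/
theorem line_eq {D : Set G} (hD : FS D) {l : Set D} (hl : l ∈ threeTranspositionLines D) {x y : D}
    (hx : x ∈ l) (hy : y ∈ l) (hxy : x ≠ y) : ¬ Commute (x : G) y ∧
      ∀ z : D, z ∈ l ↔ ((z : G) = x ∨ (z : G) = y ∨ (z : G) = y * x * y) := by
  obtain ⟨a, b, hab, h⟩ := (mem_lines_iff hD).1 hl
  have ha := hD.sq _ a.2
  have hb := hD.sq _ b.2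
  have hbr := hD.br _ a.2 _ b.2 hab
  have hxy' : (x : G) ≠ y := fun e => hxy (Subtype.ext e)
  have n1 : ¬ Commute (a : G) (b * a * b) := by
    rw [← hbr]; intro hc
    exact hab ((commute_iconj_iff ha).1 (by rwa [ha, one_mul]))
  have n2 : ¬ Commute (b : G) (b * a * b) := by
    intro hc
    exact hab ((commute_iconj_iff hb).1 (by rwa [hb, one_mul]) : Commute (b : G) a).symm
  have e1 : (b * a * b : G) * a * (b * a * b) = b := by
    rw [← hbr]; simp only [mul_assoc, mul_mul_cancel_of_mul_self ha]
    simp only [← mul_assoc]; rw [mul_assoc (a : G), mul_assoc (a : G), mul_assoc (a : G), ← hbr]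
    simp only [← mul_assoc, ha, one_mul]; rw [mul_assoc, ha, mul_one]
  have e2 : (a : G) * (b * a * b) * a = b := by rw [← hbr, iconj_iconj ha]
  have e3 : (b * a * b : G) * b * (b * a * b) = a := by
    simp only [mul_assoc, mul_mul_cancel_of_mul_self hb]
    simp only [← mul_assoc]; rw [mul_assoc (b : G), mul_assoc (b : G), mul_assoc (b : G), hbr]
    simp only [← mul_assoc, hb, one_mul]; rw [mul_assoc, hb, mul_one]
  have e4 : (b : G) * (b * a * b) * b = a := iconj_iconj hb
  rcases (h x).1 hx with e | e | e <;> rcases (h y).1 hy with e' | e' | e' <;>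
    first
    | exact absurd (e.trans e'.symm) hxy'
    | (rw [e, e']; refine ⟨by first | assumption | exact fun c => hab c.symm | exact fun c => n1 c.symm | exact fun c => n2 c.symm, fun z => ?_⟩
       refine (h z).trans ?_
       first
       | rfl
       | (simp only [hbr, e1, e2, e3, e4]; tauto))

theorem iso_of_model {D : Set G} (hD : FS D) {Y : Type*} (M : Set (Set Y)) (op : Y → Y → Y)
    (Q : Y → G) (hQ : ∀ y, Q y ∈ D) (inj : Function.Injective Q)
    (hop : ∀ x y, Q x * Q y * Q x = Q (op x y))
    (hM : ∀ l, l ∈ M ↔ ∃ x y, op x y ≠ y ∧ ∀ z, z ∈ l ↔ (z = x ∨ z = y ∨ z = op y x))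
    (S : Set D) (hS : ∀ z : D, z ∈ S ↔ ∃ y, Q y = z) :
    Isomorphic (restrict (threeTranspositionLines D) S) M := by
  let f : Y → S := fun y => ⟨⟨Q y, hQ y⟩, (hS _).2 ⟨y, rfl⟩⟩
  have hf : Function.Bijective f := by
    refine ⟨fun a b h => inj (congrArg (fun z : S => ((z : D) : G)) h), fun z => ?_⟩
    obtain ⟨y, hy⟩ := (hS _).1 z.2
    exact ⟨y, Subtype.ext (Subtype.ext hy)⟩
  let e := Equiv.ofBijective f hf
  have hc : ∀ x y, Commute (Q x) (Q y) ↔ op x y = y := fun x y => by
    rw [commute_iff_conj_eq (hD.sq _ (hQ x)), hop, inj.eq_iff]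
  have he : ∀ y, (((e y : S) : D) : G) = Q y := fun y => rfl
  refine ⟨e.symm, fun l => ?_⟩
  rw [hM]
  constructor
  · rintro ⟨m, hm, hmS, rfl⟩
    obtain ⟨x, y, hxy, h⟩ := (mem_lines_iff hD).1 hm
    obtain ⟨x', hx'⟩ := (hS _).1 (hmS ((h x).2 (Or.inl rfl)))
    obtain ⟨y', hy'⟩ := (hS _).1 (hmS ((h y).2 (Or.inr (Or.inl rfl))))
    refine ⟨x', y', by rwa [Ne, ← hc, hx', hy'], fun z => ?_⟩
    rw [Equiv.image_symm_eq_preimage, Set.mem_preimage, Set.mem_ofPred_eq, h, he, ← hx', ← hy', hop,
      inj.eq_iff, inj.eq_iff, inj.eq_iff]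
  · rintro ⟨x, y, hxy, h⟩
    refine ⟨{z | (z : G) = Q x ∨ (z : G) = Q y ∨ (z : G) = Q y * Q x * Q y},
      (mem_lines_iff hD).2 ⟨⟨Q x, hQ x⟩, ⟨Q y, hQ y⟩, by rwa [hc], fun z => Iff.rfl⟩, ?_, ?_⟩
    · rintro z (hz | hz | hz)
      · exact (hS _).2 ⟨x, hz.symm⟩
      · exact (hS _).2 ⟨y, hz.symm⟩
      · exact (hS _).2 ⟨op y x, by rw [hz, hop]⟩
    · ext z
      obtain ⟨w, rfl⟩ := e.surjective z
      have := h w
      rw [Equiv.image_symm_eq_preimage, Set.mem_preimage] at this
      rw [this]
      simp only [Set.mem_ofPred_eq, he, hop, inj.eq_iff]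

theorem span_eq_range {D : Set G} (hD : FS D) {N : ℕ} (q : ℕ → G) (hq : ∀ i, q i ∈ D)
    (hop : ∀ i < N, ∀ j < N, ∃ k < N, q i * q j * q i = q k) {A : Set D}
    (hA : ∀ z ∈ A, ∃ i < N, q i = z)
    (hgen : ∀ T : Set G, (∀ z ∈ A, (z : G) ∈ T) → (∀ x ∈ T, ∀ y ∈ T, x * y * x ∈ T) → ∀ i < N, q i ∈ T)
    (z : D) : z ∈ span (threeTranspositionLines D) A ↔ ∃ i < N, q i = z := by
  constructor
  · intro hz
    refine hz {z | ∃ i < N, q i = z} ⟨hA, ?_⟩
    rintro l hl x ⟨i, hi, ei⟩ y ⟨j, hj, ej⟩ hxy hx hy w hw
    rcases ((line_eq hD hl hx hy hxy).2 w).1 hw with e | e | e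
    · exact ⟨i, hi, ei.trans e.symm⟩
    · exact ⟨j, hj, ej.trans e.symm⟩
    · obtain ⟨k, hk, ek⟩ := hop j hj i hi
      exact ⟨k, hk, by rw [← ek, e, ei, ej]⟩
  · rintro ⟨i, hi, e⟩ T ⟨h1, h2⟩
    obtain ⟨w, hw, e'⟩ := hgen (Subtype.val '' T) (fun z hz => ⟨z, h1 hz, rfl⟩) (by
      rintro _ ⟨x, hx, rfl⟩ _ ⟨y, hy, rfl⟩
      by_cases hc : Commute (x : G) y
      · exact ⟨y, hy, ((commute_iff_conj_eq (hD.sq _ x.2)).1 hc).symm⟩
      · refine ⟨⟨_, hD.conj _ x.2 _ y.2⟩, h2 {z | (z : G) = y ∨ (z : G) = x ∨ (z : G) = x * y * x}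
          ((mem_lines_iff hD).2 ⟨y, x, fun c => hc c.symm, fun _ => Iff.rfl⟩) x hx y hy
          (fun e => hc (e ▸ Commute.refl _)) (Or.inr (Or.inl rfl)) (Or.inl rfl)
          (Or.inr (Or.inr rfl)), rfl⟩) i hi
    have : w = z := Subtype.ext (e'.trans e)
    exact this ▸ hw

def agIdx (v : Fin 2 → ZMod 3) : ℕ :=
  ([0, 2, 3, 1, 6, 8, 4, 7, 5] : List ℕ).getD (3 * (v 0).val + (v 1).val) 0

theorem mem_ag_iff (l : Set (Fin 2 → ZMod 3)) : l ∈ affinePlaneThree ↔
    ∃ x y : Fin 2 → ZMod 3, -x - y ≠ y ∧ ∀ z, z ∈ l ↔ (z = x ∨ z = y ∨ z = -y - x) := by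
  have h3 : ∀ c : ZMod 3, c = 0 ∨ c = 1 ∨ c = 2 := by decide
  have h30 : (3 : ZMod 3) = 0 := rfl
  constructor
  · rintro ⟨v, w, hw, rfl⟩
    refine ⟨v, v + w, fun h => hw ?_, fun z => ?_⟩
    · ext i; have := congrFun h i; simp only [Pi.sub_apply, Pi.neg_apply, Pi.add_apply] at this
      simp only [Pi.zero_apply]
      linear_combination this + (v i + w i) * h30
    · simp only [Set.mem_ofPred_eq]
      have e : -(v + w) - v = v + (2 : ZMod 3) • w := by
        ext i; simp only [Pi.sub_apply, Pi.neg_apply, Pi.add_apply, Pi.smul_apply, smul_eq_mul]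
        linear_combination (-v i - w i) * h30
      rw [e]
      constructor
      · rintro ⟨c, rfl⟩
        rcases h3 c with rfl | rfl | rfl <;> simp
      · rintro (rfl | rfl | rfl)
        exacts [⟨0, by simp⟩, ⟨1, by simp⟩, ⟨2, rfl⟩]
  · rintro ⟨x, y, hxy, h⟩
    refine ⟨x, y - x, fun e => hxy ?_, Set.ext fun z => ?_⟩
    · rw [sub_eq_zero] at e; subst e
      ext i; simp only [Pi.sub_apply, Pi.neg_apply]; linear_combination (-y i) * h30
    · rw [h]
      have e : -y - x = x + (2 : ZMod 3) • (y - x) := by
        ext i; simp only [Pi.sub_apply, Pi.neg_apply, Pi.add_apply, Pi.smul_apply, smul_eq_mul]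
        linear_combination (-y i) * h30
      rw [e]
      simp only [Set.mem_ofPred_eq]
      constructor
      · rintro (rfl | rfl | rfl)
        exacts [⟨0, by simp⟩, ⟨1, by simp⟩, ⟨2, rfl⟩]
      · rintro ⟨c, rfl⟩
        rcases h3 c with rfl | rfl | rfl <;> simp

/-- coordinates for the affine plane generated by three points -/
theorem exists_ag {D : Set G} (hD : FS D) {p a b : G} (hp : p ∈ D) (ha : a ∈ D) (hb : b ∈ D)
    (h1 : ¬ Commute p a) (h2 : ¬ Commute p b) (h3 : ¬ Commute a b)
    (h4 : ¬ Commute a (p * b * p)) : ∃ Q : (Fin 2 → ZMod 3) → G, (∀ y, Q y ∈ D) ∧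
      Function.Injective Q ∧ (∀ x y, Q x * Q y * Q x = Q (-x - y)) ∧ Q 0 = p ∧ Q ![1, 0] = a ∧
      Q ![0, 1] = b ∧ ∀ T : Set G, p ∈ T → a ∈ T → b ∈ T → (∀ x ∈ T, ∀ y ∈ T, x * y * x ∈ T) →
        ∀ y, Q y ∈ T := by
  obtain ⟨q, hq, hq0, htab, hne⟩ := ag9 hD hp ha hb h1 h2 h3 h4
  have inj := inj_of_allH (N := 9) hne (by decide)
  have k1 : ∀ v, agIdx v < 9 := by decide
  have k2 : ∀ v w, agIdx v = agIdx w → v = w := by decide
  have k3 : ∀ v w, Eng.tabAt ag9_tab 9 (agIdx v) (agIdx w) = agIdx (-v - w) := by decide +kernel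
  refine ⟨fun v => q (agIdx v), fun _ => hq _, fun v w h => k2 _ _ (inj _ (k1 _) _ (k1 _) h),
    fun v w => by simp only [← k3]; exact (htab _ (k1 _) _ (k1 _)).2, hq0 0 (by norm_num),
    hq0 1 (by norm_num), hq0 2 (by norm_num), fun T tp ta tb hT y => ?_⟩
  have : ∀ i < 9, q i ∈ T := by
    intro i hi
    rw [hq0 i hi]
    interval_cases i <;> simp only [List.getD_cons_zero, List.getD_cons_succ] <;>
      apply_rules
  exact this _ (k1 _)

def daPt (k : ℕ) : DualAffinePoint :=
  ([⟨{0, 1}, by decide⟩, ⟨{1, 2}, by decide⟩, ⟨{2, 3}, by decide⟩, ⟨{0, 2}, by decide⟩,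
    ⟨{1, 3}, by decide⟩] : List DualAffinePoint).getD k ⟨{0, 3}, by decide⟩

def daIdx (s : DualAffinePoint) : ℕ :=
  if s = daPt 0 then 0 else if s = daPt 1 then 1 else if s = daPt 2 then 2 else
    if s = daPt 3 then 3 else if s = daPt 4 then 4 else 5

def daOp (s t : DualAffinePoint) : DualAffinePoint := daPt (Eng.tabAt da6_tab 6 (daIdx s) (daIdx t))

theorem mem_da_iff (l : Set DualAffinePoint) : l ∈ dualAffinePlaneTwo ↔
    ∃ x y, daOp x y ≠ y ∧ ∀ z, z ∈ l ↔ (z = x ∨ z = y ∨ z = daOp y x) := by
  constructor
  · rintro ⟨i, rfl⟩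
    simp only [Set.mem_ofPred_eq]
    revert i; decide +kernel
  · rintro ⟨x, y, hxy, h⟩
    have : ∀ x y, daOp x y ≠ y → ∃ i : Fin 4, ∀ z : DualAffinePoint,
        (z = x ∨ z = y ∨ z = daOp y x) ↔ i ∉ z.val := by decide +kernel
    obtain ⟨i, hi⟩ := this x y hxy
    exact ⟨i, Set.ext fun z => (h z).trans (hi z)⟩

theorem fischerSpace_of_FS {D : Set G} (hD : FS D) : IsFischerSpace (threeTranspositionLines D) := by
  refine ⟨fun l hl m hm x y hxy h1 h2 h3 h4 => Set.ext fun z => ?_, fun l hl => ?_, ?_⟩
  · rw [(line_eq hD hl h1 h2 hxy).2, (line_eq hD hm h3 h4 hxy).2]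
  · obtain ⟨x, y, hxy, h⟩ := (mem_lines_iff hD).1 hl
    have hbr := hD.br _ x.2 _ y.2 hxy
    rw [Set.ncard_eq_three]
    refine ⟨x, y, ⟨_, hD.conj _ y.2 _ x.2⟩, fun e => hxy (e ▸ Commute.refl _), fun e => hxy ?_,
      fun e => hxy ?_, Set.ext fun z => ?_⟩
    · have : (x : G) = y * x * y := congrArg Subtype.val e
      exact ((commute_iff_conj_eq (hD.sq _ y.2)).2 this.symm).symm
    · have : (y : G) = y * x * y := congrArg Subtype.val e
      exact (commute_iff_conj_eq (hD.sq _ x.2)).2 (hbr.trans this.symm)
    · rw [h]; simp [Subtype.ext_iff]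
  · rintro l hl m hm hlm ⟨p, hpl, hpm⟩
    have aux : ∀ l ∈ threeTranspositionLines D, p ∈ l → ∃ a ∈ l, a ≠ p := by
      intro l hl hp
      obtain ⟨x, y, hxy, h⟩ := (mem_lines_iff hD).1 hl
      by_cases hx : x = p
      · exact ⟨y, (h y).2 (Or.inr (Or.inl rfl)), fun e => hxy (by rw [hx, e])⟩
      · exact ⟨x, (h x).2 (Or.inl rfl), hx⟩
    obtain ⟨a, hal, hap⟩ := aux l hl hpl
    obtain ⟨ha1, ha2⟩ := line_eq hD hl hal hpl hap
    have s4 : ∀ b ∈ m, b ≠ p → Commute (a : G) b →
        Isomorphic (restrict (threeTranspositionLines D) (span (threeTranspositionLines D) (l ∪ m)))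
          dualAffinePlaneTwo := by
      intro b hbm hbp hab
      obtain ⟨hb1, hb2⟩ := line_eq hD hm hbm hpm hbp
      have hne : (a : G) ≠ b := fun e => hlm (Set.ext fun z => by rw [ha2, hb2, e])
      obtain ⟨q, hq, hq0, htab, hne⟩ := da6 hD a.2 p.2 b.2 ha1 (fun c => hb1 c.symm) hab hne
      have inj := inj_of_allH (N := 6) hne (by decide)
      have k1 : ∀ v, daIdx v < 6 := by decide +kernel
      have k2 : ∀ v w, daIdx v = daIdx w → v = w := by decide +kernel
      have k3 : ∀ k < 6, daIdx (daPt k) = k := by decide +kernel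
      refine iso_of_model hD _ daOp (fun v => q (daIdx v)) (fun _ => hq _)
        (fun v w h => k2 _ _ (inj _ (k1 _) _ (k1 _) h)) (fun v w => ?_) mem_da_iff _ fun z => ?_
      · obtain ⟨t1, t2⟩ := htab _ (k1 v) _ (k1 w)
        simp only [daOp]; rw [k3 _ t1, t2]
      · rw [span_eq_range hD q hq (N := 6) (fun i hi j hj => ⟨_, htab i hi j hj⟩)]
        · exact ⟨fun ⟨i, hi, e⟩ => ⟨daPt i, by simp only [k3 i hi, e]⟩, fun ⟨y, e⟩ => ⟨_, k1 y, e⟩⟩
        · rintro z (hz | hz)
          · rcases (ha2 z).1 hz with e | e | e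
            exacts [⟨0, by norm_num, by rw [hq0 0 (by norm_num), e]; rfl⟩,
              ⟨1, by norm_num, by rw [hq0 1 (by norm_num), e]; rfl⟩,
              ⟨3, by norm_num, by rw [hq0 3 (by norm_num), e]; rfl⟩]
          · rcases (hb2 z).1 hz with e | e | e
            exacts [⟨2, by norm_num, by rw [hq0 2 (by norm_num), e]; rfl⟩,
              ⟨1, by norm_num, by rw [hq0 1 (by norm_num), e]; rfl⟩,
              ⟨4, by norm_num, by rw [hq0 4 (by norm_num), e]; rfl⟩]
        · intro T hA hT i hi
          have ta := hA a (Or.inl hal)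
          have tp := hA p (Or.inl hpl)
          have tb := hA b (Or.inr hbm)
          clear hA
          rw [hq0 i hi]
          interval_cases i <;> simp only [List.getD_cons_zero, List.getD_cons_succ] <;>
            apply_rules
    obtain ⟨b, hbm, hbp⟩ := aux m hm hpm
    obtain ⟨hb1, hb2⟩ := line_eq hD hm hbm hpm hbp
    by_cases hab : Commute (a : G) b
    · exact Or.inl (s4 b hbm hbp hab)
    by_cases hab' : Commute (a : G) (p * b * p)
    · refine Or.inl (s4 ⟨_, hD.conj _ p.2 _ b.2⟩ ((hb2 _).2 (Or.inr (Or.inr rfl))) (fun e => ?_) hab')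
      have : (p : G) * b * p = p := congrArg Subtype.val e
      rw [← hD.br _ b.2 _ p.2 hb1] at this
      exact hb1 ((commute_iff_conj_eq (hD.sq _ b.2)).2 this)
    right
    obtain ⟨Q, hQ, inj, hop, q0, q1, q2, hgen⟩ := exists_ag hD p.2 a.2 b.2 (fun c => ha1 c.symm)
      (fun c => hb1 c.symm) hab hab'
    refine iso_of_model hD _ (fun x y => -x - y) Q hQ inj hop mem_ag_iff _ fun z => ?_
    let en : ℕ → (Fin 2 → ZMod 3) := fun i => ![((i / 3 : ℕ) : ZMod 3), (i : ZMod 3)]
    have k : ∀ v, ∃ i < 9, en i = v := by decide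
    rw [span_eq_range hD (fun i => Q (en i)) (fun _ => hQ _) (N := 9)]
    · exact ⟨fun ⟨i, _, e⟩ => ⟨_, e⟩, fun ⟨y, e⟩ => by
        obtain ⟨i, hi, rfl⟩ := k y; exact ⟨i, hi, e⟩⟩
    · intro i _ j _
      obtain ⟨m, hm, e⟩ := k (-en i - en j)
      exact ⟨m, hm, by rw [hop, e]⟩
    · have : ∀ z : D, (∃ y, Q y = z) → ∃ i < 9, Q (en i) = z := fun z ⟨y, e⟩ => by
        obtain ⟨i, hi, rfl⟩ := k y; exact ⟨i, hi, e⟩
      rintro z (hz | hz)
      · rcases (ha2 z).1 hz with e | e | e
        exacts [this z ⟨_, q1.trans e.symm⟩, this z ⟨_, q0.trans e.symm⟩,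
          this z ⟨_, by rw [e, ← q0, ← q1, hop]⟩]
      · rcases (hb2 z).1 hz with e | e | e
        exacts [this z ⟨_, q2.trans e.symm⟩, this z ⟨_, q0.trans e.symm⟩,
          this z ⟨_, by rw [e, ← q0, ← q2, hop]⟩]
    · intro T hA hT i _
      exact hgen T (hA p (Or.inl hpl)) (hA a (Or.inl hal)) (hA b (Or.inr hbm)) hT _

end Cfsg.Agent.H50
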