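import Mathlib
import Cfsg.Agent.H14.RkDefs
import Cfsg.Agent.H15.CS4
import Cfsg.Agent.H15.Even3
import Cfsg.Agent.S0143

/-! The configuration with two heads and class sizes `a, a', c, c', m`. -/

set_option autoImplicit false

namespace Cfsg.Agent.H50.Rk

open Subgroup Cfsg.Agent.H92 Cfsg.Agent.H14.Rk Cfsg.Agent.H15

universe u

variable {G : Type u} [Group G] [Finite G]

theorem exists_cent {D : Subgroup G} {r : ℕ} (hr : r.Prime) (h : r ∣ Nat.card D) :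
    ∃ u ∈ D, orderOf u = r ∧ ¬ r ∣ Ce[u].relIndex D := by
  obtain ⟨z, -, h1, h2⟩ := exists_central_of_not_dvd (L := ⊤) hr h (by rw [index_top]; exact hr.not_dvd_one)
  exact ⟨z, z.2, (orderOf_coe z).trans h1, by rwa [top_inf_eq, cs_subgroup] at h2⟩

theorem exists_conj_in {K : Subgroup G} {w x : G} (hw : w ∈ K) (hx : x ∈ K) {q : ℕ} (hq : q.Prime)
    (h : ¬ q ∣ Ce[w].relIndex K) (ho : orderOf x = q) : ∃ g ∈ K, Commute (g * w * g⁻¹) x := by
  obtain ⟨g, hg⟩ := exists_conj_mem_C (w := (⟨w, hw⟩ : K)) (x := ⟨x, hx⟩) hq (by rwa [cs_subgroup])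
    ⟨1, by rw [pow_one, ← ho]; exact (orderOf_coe (⟨x, hx⟩ : K)).symm⟩
  exact ⟨g, g.2, congrArg Subtype.val (mem_C.1 hg)⟩

variable [IsSimpleGroup G]

theorem one_lt_cs (hG : ¬ IsMulCommutative G) {g : G} (hg : g ≠ 1) : 1 < cs[g] :=
  one_lt_cs_iff.2 fun h => hg (by rwa [center_eq_bot_of_simple hG, mem_bot] at h)

/-- non-identity elements with coprime class sizes do not commute -/
theorem f1 (hG : ¬ IsMulCommutative G) {u v : G} (hu : u ≠ 1) (hv : v ≠ 1) (h : cs[u].Coprime cs[v]) :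
    ¬ Commute u v := fun c => by
  have : normalClosure {u} ≤ Ce[v] := by
    refine (closure_le _).2 fun y hy => ?_
    obtain ⟨w, hw, hy'⟩ := Group.mem_conjugatesOfSet_iff.1 hy
    obtain rfl : u = w := hw.symm
    obtain ⟨g, rfl⟩ := isConj_iff.1 hy'
    obtain ⟨k, hk, l, hl, rfl⟩ := H1.factorization_of_coprime_index h.symm g
    rw [show k * l * u * (k * l)⁻¹ = k * (l * u * l⁻¹) * k⁻¹ by group, (mem_C.1 hl).eq, mul_inv_cancel_right]
    exact mul_mem (mul_mem hk (mem_C.2 c)) (inv_mem hk)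
  rcases (inferInstance : (normalClosure {u}).Normal).eq_bot_or_eq_top with e | e
  · exact hu (mem_bot.1 (e ▸ subset_normalClosure rfl))
  · exact (one_lt_cs hG hv).ne' (index_eq_one.2 (top_le_iff.1 (e ▸ this)))

theorem two_symm {a c : ℕ} (h : Two G a c) : Two G c a :=
  ⟨h.cop.symm, h.ec, h.ea, fun g hg => (h.cover g hg).symm⟩

theorem two_one_lt (hG : ¬ IsMulCommutative G) {a c : ℕ} (h : Two G a c) : 1 < a :=
  let ⟨_, hx, e⟩ := h.ea; e ▸ one_lt_cs hG hx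

theorem two_head (hG : ¬ IsMulCommutative G) {a c : ℕ} (h : Two G a c) {g : G} (hg : g ≠ 1) (d : cs[g] ∣ a) :
    cs[g] = a := (h.cover g hg).elim (Nat.dvd_antisymm d) fun e =>
  absurd (h.cop.symm.eq_one_of_dvd (e.trans d)) (two_one_lt hG (two_symm h)).ne'

theorem two_prime (hG : ¬ IsMulCommutative G) {a c : ℕ} (h : Two G a c) :
    ∃ (x : G) (q : ℕ), q.Prime ∧ orderOf x = q ∧ cs[x] = a ∧ q ∣ c := by
  obtain ⟨x, hx, e⟩ := h.ea
  obtain ⟨y, hy, e'⟩ := h.ec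
  obtain ⟨q, hq, d⟩ := Nat.exists_prime_and_dvd (fun k => hx (orderOf_eq_one_iff.1 k) : orderOf x ≠ 1)
  obtain ⟨w, hw, o⟩ := exists_orderOf_prime_mem (H := zpowers x) hq (by rwa [Nat.card_zpowers])
  have w1 := ne_one_of_ord hq o
  have ew := two_head hG h w1 (e ▸ cs_dvd_of_mem_zpowers hw)
  refine ⟨w, q, hq, o, ew, by_contra fun n => ?_⟩
  obtain ⟨g, hg⟩ := exists_conj_mem_C (w := y) (x := w) hq (e' ▸ n) ⟨1, by rw [o, pow_one]⟩
  exact f1 hG w1 (by simpa using hy) (by rw [cs_conj, ew, e']; exact h.cop) (mem_C'.1 hg)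

/-- the data of the configuration -/
structure Cx (G : Type u) [Group G] (a c a' c' m : ℕ) (x y : G) (q p : ℕ) : Prop where
  nc : ¬ IsMulCommutative G
  two : Two G a c
  n1 : ¬ c ∣ a'
  n2 : ¬ a ∣ c'
  d1 : a ∣ a'
  d2 : c ∣ c'
  dm : a * c ∣ m
  five : ∀ g : G, g ≠ 1 → cs[g] = a ∨ cs[g] = a' ∨ cs[g] = c ∨ cs[g] = c' ∨ cs[g] = m
  hq : q.Prime
  hp : p.Prime
  ox : orderOf x = q
  oy : orderOf y = p
  cx : cs[x] = a
  cy : cs[y] = c
  qc : q ∣ c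
  pa : p ∣ a

namespace Cx

variable {a c a' c' m : ℕ} {x y : G} {q p : ℕ} (h : Cx G a c a' c' m x y q p)
include h

omit [Finite G] [IsSimpleGroup G] in
theorem symm : Cx G c a c' a' m y x p q :=
  ⟨h.nc, ⟨h.two.cop.symm, h.two.ec, h.two.ea, fun g hg => (h.two.cover g hg).symm⟩, h.n2, h.n1, h.d2, h.d1,
    mul_comm a c ▸ h.dm, fun g hg => by have := h.five g hg; tauto, h.hp, h.hq, h.oy, h.ox, h.cy, h.cx, h.pa, h.qc⟩

theorem x1 : x ≠ 1 := ne_one_of_ord h.hq h.ox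

omit [Finite G] [IsSimpleGroup G] in
theorem qa : ¬ q ∣ a := fun d => h.hq.one_lt.ne' (Nat.eq_one_of_dvd_coprimes h.two.cop d h.qc)

omit [Finite G] [IsSimpleGroup G] in
theorem pq : p ≠ q := fun e => h.qa (e ▸ h.pa)

theorem nxy : ¬ Commute x y := f1 h.nc h.x1 h.symm.x1 (by rw [h.cx, h.cy]; exact h.two.cop)

theorem index_D : (Ce[x] ⊓ Ce[y]).index = a * c := by
  rw [index_inf_of_coprime (by rw [h.cx, h.cy]; exact h.two.cop), h.cx, h.cy]

theorem alpha {u : G} {r : ℕ} (hr : r.Prime) (o : orderOf u = r) (n : r ≠ q) (hu : u ∈ Ce[x] ⊓ Ce[y]) :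
    (Ce[u] ⊓ Ce[x]).index = m ∧ (cs[u] = a' ∨ cs[u] = c') := by
  have u1 := ne_one_of_ord hr o
  have co : (orderOf u).Coprime (orderOf x) := by rw [o, h.ox]; exact (Nat.coprime_primes hr h.hq).2 n
  have cm := mem_C.1 hu.1
  have d1 := cs_dvd_cs_mul cm co
  have d2 := cs_dvd_cs_mul' cm co
  have k := h.five _ (mul_ne_one_of_coprime co u1)
  have n1 : cs[u] ≠ cs[u * x] := fun e => by
    rw [C_mul_of_coprime cm co] at e
    have := eq_of_le_of_index_eq inf_le_left e.symm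
    exact h.nxy (mem_C'.1 (this.ge (mem_C'.2 (mem_C.1 hu.2))).2)
  have n2 : cs[u] ≠ a := fun e => f1 h.nc u1 h.symm.x1 (by rw [e, h.cy]; exact h.two.cop) (mem_C.1 hu.2)
  have n3 : cs[u] ≠ c := fun e => f1 h.nc u1 h.x1 (by rw [e, h.cx]; exact h.two.cop.symm) cm
  have n4 : ¬ cs[u] ∣ a := fun e => n2 (two_head h.nc h.two u1 e)
  have n5 : ¬ a ∣ c := fun e => h.n2 (e.trans h.d2)
  have n6 : ¬ m ∣ a' := fun e => h.n1 (((dvd_mul_left c a).trans h.dm).trans e)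
  have n7 : ¬ c' ∣ a' := fun e => h.n1 (h.d2.trans e)
  rw [h.cx] at d2
  rw [← C_mul_of_coprime cm co]
  rcases k with k | k | k | k | k
  · exact absurd (k ▸ d1) n4
  · rw [k] at d1 n1
    rcases h.five u u1 with l | l | l | l | l
    exacts [absurd l n2, absurd l n1, absurd l n3, absurd (l ▸ d1) n7, absurd (l ▸ d1) n6]
  · exact absurd (k ▸ d2) n5
  · exact absurd (k ▸ d2) h.n2
  · rw [k] at n1
    exact ⟨k, by have := h.five u u1; tauto⟩

theorem m_eq (hm : m ∣ Nat.card G) : m = a * c := by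
  obtain ⟨μ, rfl⟩ := h.dm
  have ac : 0 < a * c := h.index_D ▸ Nat.pos_of_ne_zero index_ne_zero_of_finite
  by_contra n
  obtain ⟨r, hr, d⟩ := Nat.exists_prime_and_dvd (fun e => n (by rw [e, mul_one]) : μ ≠ 1)
  rw [← index_mul_card (Ce[x] ⊓ Ce[y]), h.index_D] at hm
  obtain ⟨u, hu, o, k⟩ := exists_cent hr (d.trans (Nat.dvd_of_mul_dvd_mul_left ac hm))
  have : a * c * μ ∣ (Ce[u] ⊓ (Ce[x] ⊓ Ce[y])).index := by
    by_cases e : r = q
    · rw [← (h.symm.alpha hr o (e ▸ h.pq.symm) (inf_comm Ce[x] Ce[y] ▸ hu)).1]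
      exact index_dvd_of_le (inf_le_inf_left _ inf_le_right)
    · rw [← (h.alpha hr o e hu).1]
      exact index_dvd_of_le (inf_le_inf_left _ inf_le_left)
  rw [← relIndex_mul_index (inf_le_right : Ce[u] ⊓ (Ce[x] ⊓ Ce[y]) ≤ _), inf_relIndex_right, h.index_D,
    mul_comm _ (a * c)] at this
  exact k (d.trans (Nat.dvd_of_mul_dvd_mul_left ac this))

theorem card_alpha (e : m = a * c) {u : G} {r : ℕ} (hr : r.Prime) (o : orderOf u = r) (n : r ≠ q)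
    (hu : u ∈ Ce[x] ⊓ Ce[y]) {w : G} (hw : w ∈ Ce[u] ⊓ Ce[x]) : orderOf w ∣ Nat.card ↥(Ce[x] ⊓ Ce[y]) := by
  have e1 := index_mul_card (Ce[u] ⊓ Ce[x])
  rw [(h.alpha hr o n hu).1, e, ← h.index_D, ← index_mul_card (Ce[x] ⊓ Ce[y])] at e1
  rw [← Nat.eq_of_mul_eq_mul_left (Nat.pos_of_ne_zero index_ne_zero_of_finite) e1]
  exact orderOf_dvd_natCard _ hw

theorem q_dvd (e : m = a * c) (hD : Nat.card ↥(Ce[x] ⊓ Ce[y]) ≠ 1) : q ∣ Nat.card ↥(Ce[x] ⊓ Ce[y]) := by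
  obtain ⟨r, hr, d⟩ := Nat.exists_prime_and_dvd hD
  by_cases k : r = q
  · exact k ▸ d
  · obtain ⟨u, hu, o⟩ := exists_orderOf_prime_mem hr d
    exact h.ox ▸ h.card_alpha e hr o k hu ⟨mem_C_comm.1 hu.1, self_mem_C x⟩

theorem gamma (e : m = a * c) {u : G} {r : ℕ} (hr : r.Prime) (o : orderOf u = r) (n : r ≠ q)
    (hu : u ∈ Ce[x] ⊓ Ce[y]) : cs[u] = c' := by
  obtain ⟨k1, k2⟩ := h.alpha hr o n hu
  refine k2.resolve_left fun k2 => ?_
  rw [← relIndex_mul_index (inf_le_left : Ce[u] ⊓ Ce[x] ≤ _), inf_relIndex_left, k2, e] at k1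
  obtain ⟨t, rfl⟩ := h.d1
  have : Ce[x].relIndex Ce[u] ∣ c := Nat.dvd_of_mul_dvd_mul_left (two_one_lt h.nc h.two).le
    ⟨t, by rw [← k1]; ring⟩
  obtain ⟨g, -, c⟩ := exists_conj_in (mem_C_comm.1 hu.1) (mem_C_comm.1 hu.2) h.hp
    (fun d => h.symm.qa (d.trans this)) h.oy
  exact f1 h.nc (by simpa using h.x1) h.symm.x1 (by rw [cs_conj, h.cx, h.cy]; exact h.two.cop) c

theorem false {w : G} (w1 : w ≠ 1) (hw : cs[w] = m) : False := by
  have e := h.m_eq (hw ▸ cs_dvd_card w)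
  have e' : m = c * a := e.trans (mul_comm a c)
  have hD : Nat.card ↥(Ce[x] ⊓ Ce[y]) ≠ 1 := fun k => by
    have e1 := index_mul_card (Ce[x] ⊓ Ce[y])
    rw [k, h.index_D, ← e, ← cs_mul_card w, hw] at e1
    have := Nat.eq_of_mul_eq_mul_left (hw ▸ cs_pos w) e1
    exact w1 (mem_bot.1 (card_eq_one.1 this.symm ▸ self_mem_C w))
  have dq := h.q_dvd e hD
  have dp := h.symm.q_dvd e' (inf_comm Ce[x] Ce[y] ▸ hD)
  rw [inf_comm] at dp
  obtain ⟨u, hu, o⟩ := exists_orderOf_prime_mem h.hp dp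
  have c1 : c' ∣ a * c := by
    rw [← h.gamma e h.hp o h.pq hu, ← e, ← (h.alpha h.hp o h.pq hu).1]
    exact index_dvd_of_le inf_le_left
  obtain ⟨s, hs, sa, sp⟩ : ∃ s : ℕ, s.Prime ∧ s ∣ a ∧ s ≠ p := by
    rcases pow_or_two_primes (two_one_lt h.nc h.two) with ⟨r, hr, -, k, e⟩ | k
    · haveI : Fact (Nat.card G).Prime := ⟨S0143.result r k hr x h.x1 (h.cx.trans e)⟩
      haveI := isCyclic_of_prime_card (α := G) rfl
      exact absurd IsCyclic.isMulCommutative h.nc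
    · exact k p h.hp h.pa
  have sc : ¬ s ∣ c := fun d => hs.one_lt.ne' (Nat.eq_one_of_dvd_coprimes h.two.cop sa d)
  obtain ⟨z, hz, oz, k⟩ := exists_central_of_not_dvd (L := Ce[y]) hs (sa.trans (h.cx ▸ cs_dvd_card x)) (h.cy ▸ sc)
  have co : (orderOf y).Coprime (orderOf z) := by rw [oz, h.oy]; exact (Nat.coprime_primes h.hp hs).2 sp.symm
  have d : (Ce[y] ⊓ Ce[z]).index ∣ a * c := by
    rw [← C_mul_of_coprime (mem_C'.1 hz) co] at k ⊢
    rcases h.five _ (mul_ne_one_of_coprime co h.symm.x1) with l | l | l | l | l <;> rw [l] at k ⊢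
    exacts [absurd sa k, absurd (sa.trans h.d1) k, dvd_mul_left c a, c1, e ▸ dvd_rfl]
  rw [← relIndex_mul_index (inf_le_left : Ce[y] ⊓ Ce[z] ≤ _), inf_relIndex_left, h.cy] at d
  obtain ⟨v, hv, ov⟩ := exists_orderOf_prime_mem h.hq dq
  obtain ⟨g, hg, cv⟩ := exists_conj_in hz hv.2 h.hq (fun k => h.qa (k.trans
    (Nat.dvd_of_mul_dvd_mul_right (two_one_lt h.nc h.symm.two).le d))) ov
  have ds := h.symm.card_alpha e' h.hq ov h.pq.symm (inf_comm Ce[x] Ce[y] ▸ hv)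
    ⟨mem_C.2 cv, (Ce[y]).mul_mem (mul_mem hg hz) (inv_mem hg)⟩
  rw [orderOf_conj, oz, inf_comm] at ds
  obtain ⟨t, ht, ot⟩ := exists_orderOf_prime_mem hs ds
  have k1 := h.gamma e hs ot (fun k => sc (k ▸ h.qc)) ht
  have k2 := h.symm.gamma e' hs ot sp (inf_comm Ce[x] Ce[y] ▸ ht)
  exact h.n2 (k1 ▸ k2 ▸ h.d1)

end Cx

theorem t111 : T111Stmt.{u} := by
  intro G _ _ _ hG a c a' c' m h n1 n2 d1 d2 dm ⟨w, w1, hw⟩ five
  obtain ⟨x, q, hq, ox, cx, qc⟩ := two_prime hG h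
  obtain ⟨y, p, hp, oy, cy, pa⟩ := two_prime hG (two_symm h)
  exact Cx.false ⟨hG, h, n1, n2, d1, d2, dm, five, hq, hp, ox, oy, cx, cy, qc, pa⟩ w1 hw

end Cfsg.Agent.H50.Rk
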