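import Cfsg.Agent.H46.SSz
import Cfsg.Agent.H43.SuzO
import Cfsg.Agent.H42.Auts

/-!
# Project S95: the automorphism group of the sporadic Suzuki group as a permutation group

Letters of the master alphabet: `1..36` are `sz 1..36`, `37` is the outer automorphism `ω`,
`41..78` are `β 1..38`, `81..93` are `KiSuz.ν 1..13`.
-/

set_option autoImplicit false
set_option maxRecDepth 200000
set_option linter.style.longLine false

namespace Cfsg.Agent.H50.SzA

open Subgroup Equiv Cfsg.Agent.H44 Cfsg.Agent.H59 Cfsg.Agent.H46.S95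
open Cfsg.Agent.H43 hiding allL allL_iff anyL anyL_iff
open Cfsg.Agent.H59.Sz (β L4 P1 EH Hs)
open Cfsg.Agent.H46.S95.Sz (Γ sz)

local notation "ΓP" => H59.Sz.Γ

noncomputable def om : Net := (Net.cons (nat_lit 1) (nat_lit 0x5011045110105414451455005544111501015050004550054510154555045500500045445555005401110105045145041105555054040505055400405010040100044500455405404040414014150055015440001414511504154414011010045400400111551015000514105504500155014141144154505515040100014010014511045550440451401501400040004115554100554000100454144440041041501000545511440155054405551545440405015041444010050015005450105004105010554015410444001150104144400411514405000000110011050) (Net.cons (nat_lit 2) (nat_lit 0x3100311203213113200213310101122322300310012230231231303000032013300121211002213200020112103313211330300310020110302221000220000322323203113133232223111231101023333032033233232000031030212332032103301313101012031332322210113033001003110332330223200003302320201010101012001222321031110220120330112022331001020120020102122332211333110121310102223001010002020231102011100222002020023010230000030033220211011331110111300210101200230311000300320000)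 (Net.cons (nat_lit 4) (nat_lit 0x1080c0009070707030e020f0e0e0f080d0c07010d070301030f0c080306020c0e0a0d0c030f090601010c0d01020a06090e0405090b070305000807040104030c0104000303000005070a090c0d03060f0004030109010804080e020e00040a010608060b09040f0a0f040d0708040901060c0005070f060a0d0309070604060401080e010d0903070d000b0500000106030d0104040308040c0306080b0b0809050a090b080a09070506030e0909080a080c0c0a0007070a0c0e0004010303060e03050a0e0f050800090204020d0006060601030e070800020808040200) (Net.cons (nat_lit 8) (nat_lit 0x64004600030008006900f40020000d007d001200040002006800b90059000a00fa009500ab0051002400760058000500b400100082001600fc008000d100ec006d002a00de006000dd007600f5001400ad0031000d001e00f90071000800d900a80017004c00c8004200200041005900880018003f00890055006b0010002d001800850018000100c6006400340065004700eb007800ed00b5004a000400db005c002e002d00a50064004c000400460086001a00d60035000700bf00c600e300fb0021008e008f000200540091004a007400360012002e000500600000) (Net.cons (nat_lit 16) (nat_lit 0x6000028aa000097c6000058ee0000fe6f000089ae000045350000deea0000547a0000ab1d000018660000eb1a00004b33000085a30000b5b7000070550000146200002630000016ca0000c9260000b73e000004c100007c0a0000190a0000463e00004a9200005b740000e02b0000e1ae000070ca0000de030000e60e000041530000f71c0000387a00008a3b00009279000002ce0000e22e000055ed0000368700006c260000c24900009e01000090510000007f000042420000ad1e0000b4c1000084ae0000680200004c8e00000227000050260000a46200002240)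 (Net.cons (nat_lit 32) (nat_lit 0x1ec108000000003c0d8fae000000005d46c98c00000000c1af6e6000000000d0f8499700000000a80ab14600000000d5413a7c0000000027e6ac8200000000917d5c5500000000292c32b100000000ac8e6964000000003f83e8a000000000a9240089000000004d321fa4000000003dcc902200000000d632a2c300000000db52f54a000000000dbe08b10000000058dfa6bf00000000904a28c6000000009454a100000000004421322a0000000080e313ad0000000080b0ce88000000000618263b0000000030403f8100000000d6102c92000000001c000000) (Net.cons (nat_lit 64) (nat_lit 0x2e0f4f0e04b4020000000000000000396bacd145657c0100000000000000002b7221bc79c9889800000000000000004782c3a74336cefc00000000000000000606b0c8b26f3245000000000000000005a814506007bc150000000000000000fac5ee4d1063dd600000000000000000945101c4820064080000000000000000046d28a03fefa321000000000000000078008d40880d60ac0000000000000000b61f342282e10f1600000000000000001bb291d232a9438a000000000000000080d050b1a120816000000000000000000200000000000000) (Net.cons (nat_lit 128) (nat_lit 0x159fb7c97622ae57d4400db3da155000000000000000000000000000000000ca855443681e022c24854174046e2f0500000000000000000000000000000000f9203c0fcd0083a10c80129ac751244100000000000000000000000000000000632a47c0200808db014c910b64800ed3000000000000000000000000000000004066a609c4010c41e1120088118006e1000000000000000000000000000000002a869070164cc700a1101038d1a1b0860000000000000000000000000000000066000000000000000000000000000000)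 (Net.cons (nat_lit 256) (nat_lit 0x30ae594aac820d403d8df22192b6d3510ea01c556341357874200d9c771c8c1000000000000000000000000000000000000000000000000000000000000000000024b1c49a108814701062141c901800067c2ccb00aa048802000220602221d00000000000000000000000000000000000000000000000000000000000000000001460420122020000800020000420040800200050403402082000822000003) (Net.cons (nat_lit 512) (nat_lit 0x1010400100780e80632e0066a42180000049148000880888281000008230240000000000000000000000000000000000000000000000000000000000000000000000000000000000000000000000000000000000000000000000000000000084094556205a0238149d912e1c4d460d10a2a2096f9c4f403cfa3ec83bd34a432b80000000000000000000000000000000000000000000000000000000000000) (Net.cons (nat_lit 1024) (nat_lit 0x1013500900580e80632e0067a6258058404994a0028c888828100344823024c4094576205a0238169f913e1c6d470d10a2a21d7f9ccf413cfa3ec8bbd34a432b80020000002000000000000000000040000000000000000000000000000000) (Net.cons (nat_lit 512) (nat_lit 0x33fee7ebdedcffaf3c6db63b7feb7cbffefedddfafb7d7fb8adbbbf6a9a7ab00000000000000000000000000000000000000000000000000000000000000000000000000000000000000000000000000000000000000000000000000000000a52f6dfe69fe0e3957ffddaf0dcd468d5eefe6c9ff9e6f41bcfabfeb3bd36b402badc405201706a000180106220042300280020005150364208201882a0804d8)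 (Net.cons (nat_lit 256) (nat_lit 0x74286a66bb8084d3980b35a266655503c884f50d7f7c437737f7649e9e3d5d700000000000000000000000000000000000000000000000000000000000000000d2c2d2f6db09e945b9e2e8da111411d7a70560e6a262a0d3e325ca13c6416a8600000000000000000000000000000000000000000000000000000000000000000ed1c656be1af394900cb2a2ae0c7ca8f1b233220de403f91b5c8cd05df7c8ac) (Net.cons (nat_lit 128) (nat_lit 0x29c271541cd501b847a2a5467aa65b00000000000000000000000000000000a0db0ce6edd772a18bf5a415d85493dc00000000000000000000000000000000a4c2b3dfdf4ee389b230fabe8d10bafc00000000000000000000000000000000c518214820c04853c35e39203a818ec900000000000000000000000000000000eac52b11ec030ac9a53000015bcbc3f3000000000000000000000000000000004a47a4410e07d79ab7d182e5e9eb2cde00000000000000000000000000000000ea61f2501b806e707e23a2f3be627d18) (Net.cons (nat_lit 64) (nat_lit 0x361896df9294f80000000000000000871d3678cc0fc887000000000000000012283f5868cd392a0000000000000000fde1441cc25ece70000000000000000091463a488867b4ca00000000000000002e0a9297d767f80100000000000000006e660065112bdd6d0000000000000000e49386809bc67480000000000000000036af860a17e7e72400000000000000009682054c9345660c0000000000000000927f789aba290d3e0000000000000000937011a221e1030b00000000000000003e72fcc9f398c7c300000000000000004e42727438e05629)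 (Net.cons (nat_lit 32) (nat_lit 0x1b4cd5000000008acd77da0000000068067b8d00000000a311fc41000000007ebc899b0000000003ab3c6f00000000e480be560000000029e8c0cd000000009a755775000000002aee9231000000009ccab17500000000419ae40200000000a9a40081000000005d3afd2e000000003f4ed1aa00000000d076a64e00000000ef52d978000000003d3ec833000000007adfa6bf0000000090c8204f0000000096d4b10a0000000060a3e2aa0000000082f30b8d000000000054daa00000000025f8361b0000000036806fa10000000052fcf812000000001c269088) (Net.cons (nat_lit 16) (nat_lit 0x2200005a16000006c00000f4c300005162000097e000005d38000046800000cdc300000b1b0000a5440000ba3a0000e3980000f9830000bdb90000583a000018ea0000af1a0000b7c00000d5a300008328000010c50000e918000045100000523c00004e1a000071fe0000e221000002aa0000f46b0000e7220000e28a000047530000ea3400003a7200008ab9000092510000c2ee0000ec860000456d00003485000048860000c0790000fea10000b4d10000027f0000c4e20000293e0000b4e1000084ae0000ae9200006cae000084870000b6860000c2c200008048) (Net.cons (nat_lit 8) (nat_lit 0x650024007a0044006c00f400040042007100300046002300ce00c10036004e00e700b000970051002a007a005d002100ae00390089001100b800a600d500cc0067002700fd00a600f8005200f1003900ab00b1002b003f0064002d008d00d000aa0037004c00ce00420022004100d900af0018003500ac007000670038001f001e0095001b000100c60066001600c5004700eb007800ed0097006a000400f9005e000e000d00050064004e002400460086003a00d600350085001f00cc00e300db0021002e00af0000007400bb004a007600b60012000e002700c00002)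 (Net.cons (nat_lit 4) (nat_lit 0x1090c000f0501030907070f040a0d020f0e040309070301010f0f080605000c0f0b0d0e030f0d050d000c08040a0506090807070a08070305000805040506030c0104000703000401070a090c0d01060d020703010b030b06000e030f080508010608060b0b060d080f060d05080609010e080005070f060a0d030b070604040403080e010d0903050d020b0702020106030d0104040308040c0306080b0b0a0b050a0b09080a0b030706030e0909080a080c0c0a0007050e0c0e0006010301060e03050a0e0d0508000b0204020d0004060601010e07080602080a040002) (Net.cons (nat_lit 2) (nat_lit 0x13110311203203103300222310100122322311311012330231230313001232211300121211002213311120112113213211330300310022110312220100220100322332203113133232223113332101023333032032332232000031020212332032101301313101112031332322210113033001003110332330223200003303320201010301012001222321031110220120330112022331021021120020102122332211333110121310102223001010002020231102011100222002020023010230000030033220211011331110111300210101200230311000300320000) (Net.cons (nat_lit 1) (nat_lit 0x5010045110105414451455055544105501015050004550454514154555051500500045445555005401110105045145041105555054040505055401405014040101044500455405404040414014155055015440001414511504154414011050045400400111551015000514105504500155014141144154505515041100014010014511045550440451401501400040004115554100554000100455144440041041501000545511440155054405551545550405015041444010050015005450105004005010554015410444041150104144400411514405000000110011050)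 Net.nil)))))))))))))))))))))

theorem om_ok : Net.ok 1782 om = true := by decide +kernel

/-- The outer automorphism as a permutation. -/
noncomputable def ωp : Perm (Fin 1782) := om.toPerm 1782

/-- The full labelling. -/
noncomputable def L11 : ℕ := lab 1782 11

theorem det11 (G : Subgroup (Perm (Fin 1782))) : Det 1782 11 L11 G := by
  unfold L11; exact det_lab Sz.h_hk G

/-- The model data for `Γ`. -/
noncomputable abbrev D4 (E : List Net) (code : List ℕ) : MD := ⟨1782, 4, L4, P1, E, code⟩

/-- The model data for `MulAut Γ`: the code `2 * E.length` is the outer automorphism. -/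
noncomputable abbrev DA (E : List Net) (code : List ℕ) : MD :=
  ⟨1782, 11, L11, P1, E ++ [om], code⟩

theorem okE_app {E E' : List Net} (h : okE 1782 E = true) (h' : okE 1782 E' = true) :
    okE 1782 (E ++ E') = true :=
  okE_iff.2 fun o ho => (List.mem_append.1 ho).elim (okE_iff.1 h o) (okE_iff.1 h' o)

theorem getN_app (E : List Net) (o : Net) (i : ℕ) :
    getN (E ++ [o]) i = if i = E.length then o else getN E i := by
  induction E generalizing i with
  | nil => cases i <;> rfl
  | cons a E ih =>
    cases i with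
    | zero => rfl
    | succ i => simp only [List.cons_append, getN_cons_succ, ih, List.length_cons, Nat.succ.injEq]

section env

variable {E : List Net} (code : List ℕ)

theorem okP (hE : okE 1782 E = true) :
    (DA E code).Ok (MonoidHom.id _) (gp 1782 (E ++ [om]) code) :=
  ⟨Sz.h_hn, okE_app hE (okE_cons.2 ⟨om_ok, okE_nil _⟩), by dsimp only; exact det11 _, fun _ _ h => h,
    fun _ => rfl⟩

/-- The letters in `Γ`. -/
noncomputable def γE (h : grp 1782 E ≤ ΓP) (x : ℕ) : Γ := ⟨gp 1782 E code x, h (gp_mem _ _ _ _)⟩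

theorem ok4 (hE : okE 1782 E = true) (h : grp 1782 E ≤ ΓP) :
    (D4 E code).Ok (Subgroup.subtype ΓP) (γE code h) :=
  ⟨Sz.h_hn, hE, Sz.det4.mono h, subtype_injective _, fun _ => rfl⟩

theorem gp_app {x : ℕ} (hx : nth 0 code x / 2 ≠ E.length) :
    gp 1782 (E ++ [om]) code x = gp 1782 E code x := by
  simp only [gp, letterG, getN_app, if_neg hx]

theorem gp_om {x : ℕ} (hx : nth 0 code x = 2 * E.length) : gp 1782 (E ++ [om]) code x = ωp := by
  simp [gp, letterG, getN_app, hx, ωp]

end env

theorem gp_eq {E E' : List Net} {c c' xs ys : List ℕ}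
    (h1 : xs.map (fun x => getN E (nth 0 c x / 2)) = ys.map fun x => getN E' (nth 0 c' x / 2))
    (h2 : xs.map (fun x => nth 0 c x % 2) = ys.map fun x => nth 0 c' x % 2) :
    xs.map (gp 1782 E c) = ys.map (gp 1782 E' c') := by
  induction xs generalizing ys with
  | nil => cases ys with
    | nil => rfl
    | cons => cases h2
  | cons x xs ih => cases ys with
    | nil => cases h2
    | cons y ys =>
      simp only [List.map_cons, List.cons.injEq] at h1 h2 ⊢
      exact ⟨by simp only [gp, letterG, h1.1, h2.1], ih h1.2 h2.2⟩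

/-- The networks of the master alphabet. -/
noncomputable def EM : List Net := EH ++ (SzO.EG ++ KiSuz.EG)

/-- The codes of the master alphabet. -/
def code : List ℕ := [200, 0, 2, 4, 6, 8, 10, 11, 12, 13, 14, 16, 200, 200, 18, 19, 20, 21, 22, 24, 26, 28, 30, 31, 32, 33, 34, 35, 36, 37, 38, 40, 42, 39, 44, 46, 48, 142, 200, 200, 200, 50, 52, 54, 56, 58, 60, 62, 64, 65, 66, 68, 70, 72, 74, 76, 78, 80, 82, 84, 86, 88, 90, 91, 92, 93, 94, 96, 98, 100, 102, 104, 106, 108, 110, 112, 114, 116, 118, 200, 200, 120, 122, 124, 126, 128, 130, 132, 134, 136, 138, 139, 140, 141]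

theorem EM_ok : okE 1782 EM = true := okE_app Sz.EH_ok (okE_app SzO.EG_ok KiSuz.EG_ok)

theorem EM_le : grp 1782 EM ≤ ΓP := by
  rw [EM, grp_append, grp_append]
  exact sup_le Sz.EH_le (sup_le SzO.EG_le KiSuz.EG_le)

theorem EM_len : EM.length = 71 := rfl

/-- The master alphabet in `Γ`. -/
noncomputable def γ : ℕ → Γ := γE code EM_le

/-- The master alphabet in the symmetric group. -/
noncomputable def π : ℕ → Perm (Fin 1782) := gp 1782 (EM ++ [om]) code

/-- The model data for `γ`. -/
noncomputable abbrev D0 : MD := D4 EM code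

/-- The model data for `π` and `μ`. -/
noncomputable abbrev DM : MD := DA EM code

theorem ok0 : D0.Ok (Subgroup.subtype ΓP) γ := ok4 code EM_ok EM_le

theorem okπ : DM.Ok (MonoidHom.id _) π := okP code EM_ok

theorem γ_sz (x : ℕ) (h : x ≤ 36 := by decide) : γ x = sz x := Subtype.ext
  (List.map_inj_left.1 (gp_eq (E := EM) (E' := EH) (c := code) (c' := Sz.code) (xs := List.range 37)
    (ys := List.range 37) rfl (by decide +kernel))
    x (List.mem_range.2 (by omega)))

theorem γ_β (x : ℕ) (h : x ≤ 38 := by decide) : γ (40 + x) = β x := Subtype.ext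
  (List.map_inj_left.1 ((List.map_map ..).symm.trans (gp_eq (E := EM) (E' := SzO.EG) (c := code)
    (c' := SzO.code) (xs := (List.range 39).map (40 + ·))
    (ys := List.range 39) rfl (by decide +kernel))) x (List.mem_range.2 (by omega)))

theorem γ_ki (x : ℕ) (h : 1 ≤ x ∧ x ≤ 13 := by decide) : γ (80 + x) = KiSuz.ν x := Subtype.ext
  (List.map_inj_left.1 ((List.map_map ..).symm.trans (gp_eq (E := EM) (E' := KiSuz.EG) (c := code)
    (c' := KiSuz.code) (xs := (List.range' 1 13).map (80 + ·))
    (ys := List.range' 1 13) rfl (by decide +kernel))) x (List.mem_range'_1.2 (by omega)))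

theorem γ_one : γ 1 = β 1 := (γ_sz 1).trans (Subtype.ext (Sz.nu1.trans (Sz.val 1).symm))

theorem code_ne {x : ℕ} (h : x ≠ 37) : nth 0 code x / 2 ≠ EM.length := by
  by_cases hx : x < 94
  · exact (by decide +kernel : ∀ x < 94, x ≠ 37 → nth 0 code x / 2 ≠ 71) x hx h
  · rw [nth_eq_getD, List.getD_eq_default _ _ (not_lt.1 hx)]; decide

theorem π_γ {x : ℕ} (h : x ≠ 37) : π x = γ x := gp_app code (code_ne h)

theorem π_ω : π 37 = ωp := gp_om code rfl

theorem ev_π {l : List ℕ} (h : 37 ∉ l) : ev π l = (ev γ l : Γ) :=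
  (ev_congr fun _ hx => π_γ (ne_of_mem_of_not_mem hx h)).trans (map_ev (Subgroup.subtype ΓP) γ l).symm

theorem ωp_sq : ωp * ωp = 1 := by
  simpa only [ev_cons, ev_nil, mul_one, π_ω] using okπ.eq (l := [37, 37]) (r := []) (by decide +kernel)

theorem ωp_inv : ωp⁻¹ = ωp := inv_eq_of_mul_eq_one_right ωp_sq

theorem ωp_norm : ωp ∈ normalizer (ΓP : Set (Perm (Fin 1782))) := by
  have e : wgen π ([41, 42, 43, 44, 45, 46, 47].map fun x => [x]) = ΓP := le_antisymm
    (wgen_le_grp (E := EM ++ [om]) (code := code) [41, 42, 43, 44, 45, 46, 47] rfl (by decide +kernel))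
    (grp_le_wgen' (E := EM ++ [om]) (code := code) [41, 42, 43, 44, 45, 46, 47] rfl (by decide +kernel))
  rw [← e, ← π_ω, ← ev_single π 37]
  exact Ki.le_norm (q := DM.eqW) (fun _ _ => okπ.eq) (K := [[37]])
    (W := [[[41], [42], [43], [44], [45], [47], [46]]]) (by decide +kernel) (mem_wgen π _ (by decide))

theorem ωp_conj {g : Perm (Fin 1782)} (h : g ∈ ΓP) : ωp * g * ωp ∈ ΓP := by
  simpa only [ωp_inv] using (mem_normalizer_iff.1 ωp_norm g).1 h

/-- The outer automorphism: it fixes `β 1, …, β 5` and exchanges `β 6`, `β 7`. -/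
noncomputable def ω : MulAut Γ := normalizerMonoidHom ΓP ⟨ωp, ωp_norm⟩

theorem ω_coe (g : Γ) : (ω g : Perm (Fin 1782)) = ωp * g * ωp := by
  rw [← congrArg (ωp * g * ·) ωp_inv]; rfl

theorem ω_ω (g : Γ) : ω (ω g) = g := Subtype.ext (by
  rw [ω_coe, ω_coe, ← mul_assoc, ← mul_assoc, ωp_sq, one_mul, mul_assoc, ωp_sq, mul_one])

theorem ω_sq : ω * ω = 1 := MulEquiv.ext ω_ω

theorem ω_eq (l r : List ℕ)
    (h : (!(l ++ r).contains 37 && DM.eqW (37 :: l ++ [37]) r) = true := by decide +kernel) :
    ω (ev γ l) = ev γ r := Subtype.ext (by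
  simp only [Bool.and_eq_true, Bool.not_eq_true', List.contains_eq_mem, decide_eq_false_iff_not,
    List.mem_append, not_or] at h
  rw [ω_coe, ← ev_π h.1.1, ← ev_π h.1.2, ← okπ.eq h.2, ev_append, ev_cons, ev_single, π_ω])

/-- The values of `ω` on the letters. -/
def Wω : List (ℕ × List ℕ) := [(1, [1]), (2, [2]), (3, [4, 2, 1]), (4, [3, 2, 1]), (5, [31, 3, 31]), (6, [3, 4, 8]), (7, [9, 4, 3]), (8, [3, 6, 5]), (9, [7, 4, 3]), (10, [11, 2, 1]), (11, [10, 2, 1]), (12, []), (13, []), (14, [14]), (15, [15]), (16, [16, 35]), (17, [35, 17]), (18, [35, 18]), (19, [35, 19, 2, 1]), (20, [20]), (21, [21]), (22, [4, 17, 27, 16, 3]), (23, [3, 18, 26, 18, 3]), (24, [24, 15, 9, 30, 17]), (25, [33, 34, 7, 5, 22]), (26, [26, 8, 7, 5]), (27, [15, 20, 6, 3]), (28, [34, 8, 24, 23]), (29, [22, 25, 9, 34]), (30, [31, 30, 31, 6, 3]), (31, [31]), (32, [32]), (33, [33, 21, 9, 6, 4]), (34, [9, 6, 34, 8, 7]), (35, [35]), (36, [36, 35, 1]), (41, [41]), (42, [42]), (43, [43]), (44, [44]), (45, [45]), (46, [47]), (47, [46]), (48, [48]), (49, [49]),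 (81, [89, 81, 81, 84, 81, 83]), (82, [81, 92, 92, 83, 81, 83]), (83, [93, 83, 91, 85, 83]), (84, [82, 93, 81, 85, 81]), (85, [85]), (86, [86]), (87, [87]), (88, [88]), (89, [89]), (90, [92, 87, 92, 92, 82, 82]), (91, [90, 82, 83, 83, 82]), (92, [88, 85, 93, 88, 85]), (93, [84, 91, 91, 87, 83])]

theorem ω_γ : ∀ p ∈ Wω, ω (γ p.1) = ev γ p.2 := fun p hp => ev_single γ p.1 ▸ ω_eq [p.1] p.2
  (allL_iff.1 (by decide +kernel : allL (fun p : ℕ × List ℕ => !([p.1] ++ p.2).contains 37 &&
    DM.eqW (37 :: [p.1] ++ [37]) p.2) Wω = true) p hp)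

theorem ω_fix (x : ℕ) (h : Wω.contains (x, [x]) = true := by decide) : ω (γ x) = γ x :=
  (ω_γ (x, [x]) (by simpa using h)).trans (ev_single γ x)

theorem ω_z : ω (β 1) = β 1 := γ_one ▸ ω_fix 1

theorem ω_b : ω (β 5) = β 5 := γ_β 5 ▸ ω_fix 45

/-- An element of `C(z)` as an element of `Hs`. -/
noncomputable def toH (g : Γ) (h : g * γ 1 = γ 1 * g) : Hs := ⟨g, g.2, mem_centralizer_singleton_iff.2 (by
  rw [← Sz.nu1]; exact congrArg Subtype.val (γ_sz 1 ▸ h)) ⟩

/-- The inclusion of `Hs` in `Γ`. -/
noncomputable def ofH : Hs →* Γ := inclusion inf_le_left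

theorem ofH_inj : Function.Injective ofH := inclusion_injective _

theorem ofH_toH (g : Γ) (h : g * γ 1 = γ 1 * g) : ofH (toH g h) = g := rfl

theorem ofH_ν (x : ℕ) (h : x ≤ 36 := by decide) : ofH (Sz.ν x) = γ x := (γ_sz x h).symm

theorem ofH_ev {l : List ℕ} (h : l.all (· ≤ 36) = true) : ofH (ev Sz.ν l) = ev γ l :=
  (map_ev ofH _ l).trans (ev_congr fun x hx => ofH_ν x (by simpa using List.all_eq_true.1 h x hx))

theorem ofH_wgen {S : List (List ℕ)} (h : S.all (·.all (· ≤ 36)) = true) {ξ : Hs}
    (hξ : ξ ∈ wgen Sz.ν S) : ofH ξ ∈ wgen γ S :=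
  (wgen_le (K := (wgen γ S).comap ofH)).2 (fun s hs => by
    rw [mem_comap, ofH_ev (List.all_eq_true.1 h s hs)]; exact mem_wgen γ s hs) hξ

theorem toH_comm {g : Γ} {xs : List ℕ} (h1 : g * γ 1 = γ 1 * g) (hx : xs.all (· ≤ 36) = true)
    (h : ∀ x ∈ xs, g * γ x = γ x * g) : ∀ x ∈ xs, toH g h1 * Sz.ν x = Sz.ν x * toH g h1 :=
  fun x hx' => ofH_inj (by
    rw [map_mul, map_mul, ofH_ν x (by simpa using List.all_eq_true.1 hx x hx')]; exact h x hx')

theorem γ_mem (x : ℕ) (h : x ≤ 36 := by decide) : γ x ∈ Cz (β 1) := mem_Cz.2 (by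
  rw [← γ_one, ← ofH_ν x h, ← ofH_ν 1, ← map_mul, Sz.cen, map_mul])

/-- `C(z)` is generated by four letters. -/
theorem Cz_eq : Cz (β 1) = wgen γ [[22], [24], [26], [28]] := le_antisymm (fun g hg =>
    ofH_wgen (ξ := toH g (γ_one ▸ mem_Cz.1 hg)) rfl (Sz.top.ge (mem_top _)))
  (wgen_le.2 fun _ hs => ev_mem fun x hx => γ_mem x
    ((by decide : ∀ s ∈ [[22], [24], [26], [28]], ∀ x ∈ s, x ≤ 36) _ hs x hx))

/-- The centraliser of `Q`. -/
theorem mem_z {g : Γ} (h : ∀ x ∈ [1, 2, 3, 4, 5, 20, 21], g * γ x = γ x * g) : g ∈ zpowers (β 1) :=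
  wgen_le.2 (fun s hs => by rw [List.mem_singleton.1 hs, ev_single, γ_one]; exact mem_zpowers _)
    (ofH_wgen (S := [[1]]) rfl (Sz.cq _ (toH_comm (h 1 (by decide)) rfl h)))

theorem eq_one {g : Γ} (h : ∀ x, g * x = x * g) : g = 1 := by
  have h2 : orderOf (β 1) = 2 := Sz.ord_a
  obtain ⟨k, hk, e⟩ := Finset.mem_image.1 (mem_zpowers_iff_mem_range_orderOf.1 (mem_z fun x _ => h _))
  rw [h2, Finset.mem_range] at hk
  interval_cases k
  · exact e.symm
  · exact absurd (by simpa only [ev_cons, ev_nil, mul_one, ← e, pow_one] using h (β 2))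
      (Sz.neX [1, 2] [2, 1])

theorem conj_inj : Function.Injective (MulAut.conj : Γ →* MulAut Γ) :=
  (injective_iff_map_eq_one _).2 fun _ h => eq_one fun x =>
    mul_inv_eq_iff_eq_mul.1 (DFunLike.congr_fun h x)

theorem not_fix (g : Γ) (h : ∀ x ∈ [1, 2, 19, 16], g * ω (γ x) * g⁻¹ = γ x) : False := by
  have k : ∀ x ∈ [1, 2, 19], g * (ev γ [8, 24, 16])⁻¹ * γ x = γ x * (g * (ev γ [8, 24, 16])⁻¹) := by
    intro x hx
    obtain ⟨w, hw, e⟩ : ∃ w, (x, w) ∈ Wω ∧ D0.eqW ([8, 24, 16] ++ w) (x :: [8, 24, 16]) = true := by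
      simp only [List.mem_cons, List.not_mem_nil, or_false] at hx
      rcases hx with rfl | rfl | rfl
      exacts [⟨[1], by decide, by decide +kernel⟩, ⟨[2], by decide, by decide +kernel⟩,
        ⟨[35, 19, 2, 1], by decide, by decide +kernel⟩]
    have e1 := ok0.eq e
    have e2 := h x (List.mem_append_left [16] hx)
    rw [ev_append, ev_cons γ x, ← ω_γ _ hw] at e1
    calc _ = g * ((ev γ [8, 24, 16])⁻¹ * (γ x * ev γ [8, 24, 16])) * (ev γ [8, 24, 16])⁻¹ := by group
      _ = g * ω (γ x) * g⁻¹ * (g * (ev γ [8, 24, 16])⁻¹) := by rw [← e1]; group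
      _ = _ := by rw [e2]
  obtain ⟨w, hw, e⟩ := Sz.cj_cov _ (Sz.cj _ (toH_comm (k 1 (by decide)) rfl k))
  obtain ⟨h1, h2⟩ := Bool.and_eq_true_iff.1 (allL_iff.1 (by decide +kernel : allL (fun w : List ℕ =>
    w.all (· ≤ 36) && D0.neW (w ++ [8, 24, 16] ++ [16, 35]) (16 :: (w ++ [8, 24, 16]))) Sz.Wj = true) w hw)
  replace e := congrArg ofH e
  rw [ofH_toH, ofH_ev h1, mul_inv_eq_iff_eq_mul, ← ev_append] at e
  refine ok0.ne h2 ?_
  rw [ev_append, ev_cons γ 16 (_ ++ _), ← e, ← ω_γ (16, [16, 35]) (by decide)]
  exact mul_inv_eq_iff_eq_mul.1 (h 16 (by decide))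

theorem ω_out : ¬ H46.S95.Inn ω := fun ⟨g, e⟩ => not_fix g⁻¹ fun x _ => by
  rw [e, MulAut.conj_apply]; group

theorem aut_cases (α : MulAut Γ) : ∃ g, α = MulAut.conj g ∨ α = MulAut.conj g * ω := by
  by_cases h : α ∈ Cfsg.Inn Γ
  · exact let ⟨g, e⟩ := h; ⟨g, .inl e.symm⟩
  obtain ⟨g, e⟩ : α * ω⁻¹ ∈ Cfsg.Inn Γ := by
    rw [← QuotientGroup.eq_one_iff, QuotientGroup.mk_mul, QuotientGroup.mk_inv, mul_inv_eq_one]
    exact ((Nat.card_eq_two_iff' (1 : Cfsg.Out Γ)).1
      ((H42.card_Out_congr Sz.e0).symm.trans SuzO.card_out)).unique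
      (mt (QuotientGroup.eq_one_iff _).1 h)
      (mt (QuotientGroup.eq_one_iff _).1 fun ⟨g, e⟩ => ω_out ⟨g, e.symm⟩)
  exact ⟨g, .inr (by rw [e, inv_mul_cancel_right])⟩

theorem out_cases {α : MulAut Γ} (h : ¬ H46.S95.Inn α) : ∃ g, α = MulAut.conj g * ω :=
  let ⟨g, e⟩ := aut_cases α; ⟨g, e.resolve_left fun e => h ⟨g, e⟩⟩

theorem not_inn (g : Γ) : ¬ H46.S95.Inn (MulAut.conj g * ω) := fun h =>
  ω_out ((Inn.conj g).of_mul_left h)

theorem ω_conj (g : Γ) : ω * MulAut.conj g = MulAut.conj (ω g) * ω := by ext x; simp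

theorem out2 : Sz.Out2 := fun a b => by
  refine or_iff_not_imp_left.2 fun ha => or_iff_not_imp_left.2 fun hb => ?_
  obtain ⟨g, rfl⟩ := out_cases ha
  obtain ⟨k, rfl⟩ := out_cases hb
  exact ⟨g * ω k, by rw [mul_assoc, ← mul_assoc ω, ω_conj, mul_assoc, ω_sq, mul_one, map_mul]⟩

theorem cl : Sz.CL := fun a h => by
  obtain ⟨g, rfl | rfl⟩ := aut_cases a
  · exact ⟨g, mem_z fun x hx => mul_inv_eq_iff_eq_mul.1 (h _ (γ_mem x
      ((by decide : ∀ x ∈ [1, 2, 3, 4, 5, 20, 21], x ≤ 36) x hx))), rfl⟩
  · exact (not_fix g fun x hx => h _ (γ_mem x ((by decide : ∀ x ∈ [1, 2, 19, 16], x ≤ 36) x hx))).elim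

/-- The automorphism group as a permutation group. -/
noncomputable def Γh : Subgroup (Perm (Fin 1782)) := ΓP ⊔ zpowers ωp

theorem Γh_le : Γh ≤ normalizer (ΓP : Set (Perm (Fin 1782))) :=
  sup_le le_normalizer (zpowers_le.2 ωp_norm)

theorem ωp_mem : ωp ∈ Γh := mem_sup_right (mem_zpowers _)

/-- The action of `Γh` on `Γ`. -/
noncomputable def κ : Γh →* MulAut Γ := (normalizerMonoidHom ΓP).comp (inclusion Γh_le)

theorem κ_coe (x : Γh) (g : Γ) : (κ x g : Perm (Fin 1782)) = x * g * x⁻¹ := rfl

theorem κ_conj (g : Γ) : κ ⟨g, mem_sup_left g.2⟩ = MulAut.conj g := rfl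

theorem κ_ω : κ ⟨ωp, ωp_mem⟩ = ω := rfl

theorem Γh_cases {x : Perm (Fin 1782)} (h : x ∈ Γh) : x ∈ ΓP ∨ x * ωp ∈ ΓP := by
  rw [Γh, ← closure_eq ΓP, zpowers_eq_closure, ← Subgroup.closure_union] at h
  refine Ki.cl_induct (P := fun x => x ∈ ΓP ∨ x * ωp ∈ ΓP) (.inl (one_mem _)) ?_ x h
  rintro a (ha | rfl) y (hy | hy)
  · exact .inl (mul_mem ha hy)
  · exact .inr (by rw [mul_assoc]; exact mul_mem ha hy)
  · exact .inr (ωp_conj hy)
  · exact .inl (by simpa only [mul_assoc, ωp_sq, mul_one] using ωp_conj hy)

theorem κ_bij : Function.Bijective κ := by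
  refine ⟨(injective_iff_map_eq_one _).2 fun x e => ?_, fun a => ?_⟩
  · rcases Γh_cases x.2 with h | h
    · exact Subtype.ext (congrArg (fun g : Γ => g.1)
        (conj_inj ((κ_conj ⟨x, h⟩).symm.trans (e.trans (map_one _).symm))))
    · refine (ω_out ⟨⟨_, h⟩, ?_⟩).elim
      rw [← κ_conj, ← one_mul ω, ← e, ← κ_ω, ← map_mul]; rfl
  · obtain ⟨g, rfl | rfl⟩ := aut_cases a
    exacts [⟨_, κ_conj g⟩, ⟨_, (map_mul κ _ _).trans (congrArg₂ (· * ·) (κ_conj g) κ_ω)⟩]

/-- The faithful action of `MulAut Γ` on the 1782 points. -/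
noncomputable def ι : MulAut Γ →* Perm (Fin 1782) :=
  Γh.subtype.comp (MulEquiv.ofBijective κ κ_bij).symm.toMonoidHom

theorem ι_inj : Function.Injective ι :=
  (subtype_injective _).comp (MulEquiv.ofBijective κ κ_bij).symm.injective

theorem ι_κ (x : Γh) : ι (κ x) = x :=
  congrArg Subtype.val ((MulEquiv.ofBijective κ κ_bij).symm_apply_apply x)

theorem ι_conj (g : Γ) : ι (MulAut.conj g) = g := by rw [← κ_conj, ι_κ]

theorem ι_ω : ι ω = ωp := by rw [← κ_ω, ι_κ]

theorem ι_act (a : MulAut Γ) (g : Γ) : (a g : Perm (Fin 1782)) = ι a * g * (ι a)⁻¹ := by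
  obtain ⟨x, rfl⟩ := κ_bij.2 a
  rw [ι_κ, κ_coe]; rfl

theorem card_aut : Nat.card (MulAut Γ) = 2 * 448345497600 := by
  have h := (Cfsg.Inn Γ).card_mul_index
  rw [← Nat.card_congr (MonoidHom.ofInjective conj_inj).toEquiv, Sz.card_Γ, index,
    (H42.card_Out_congr Sz.e0).symm.trans SuzO.card_out] at h
  rw [← h]

/-- `a x = y` as an equation in `MulAut Γ`. -/
theorem act_iff {a : MulAut Γ} {x y : Γ} :
    a x = y ↔ a * MulAut.conj x = MulAut.conj y * a := by
  have e : a * MulAut.conj x = MulAut.conj (a x) * a := by ext z; simp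
  rw [e, mul_left_inj, conj_inj.eq_iff]

section env

variable {E : List Net} (code : List ℕ)

theorem app_le (h : grp 1782 E ≤ ΓP) : grp 1782 (E ++ [om]) ≤ Γh := by
  rw [grp_append]
  exact sup_le (h.trans le_sup_left) (grp_cons_le ωp_mem (grp_le_iff.2 (by simp)))

/-- The letters in `MulAut Γ`. -/
noncomputable def μE (h : grp 1782 E ≤ ΓP) (x : ℕ) : MulAut Γ :=
  κ ⟨gp 1782 (E ++ [om]) code x, app_le h (gp_mem _ _ _ _)⟩

theorem okA (hE : okE 1782 E = true) (h : grp 1782 E ≤ ΓP) : (DA E code).Ok ι (μE code h) :=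
  ⟨Sz.h_hn, (okP code hE).ok, (okP code hE).det, ι_inj, fun _ => ι_κ _⟩

theorem μE_conj (h : grp 1782 E ≤ ΓP) {x : ℕ} (hx : nth 0 code x / 2 ≠ E.length) :
    μE code h x = MulAut.conj (γE code h x) :=
  ι_inj (by rw [ι_conj, μE, ι_κ]; exact gp_app code hx)

theorem μE_om (h : grp 1782 E ≤ ΓP) {x : ℕ} (hx : nth 0 code x = 2 * E.length) :
    μE code h x = ω := ι_inj (by rw [ι_ω, μE, ι_κ]; exact gp_om code hx)

end env

/-- The master alphabet in `MulAut Γ`. -/
noncomputable def μ : ℕ → MulAut Γ := μE code EM_le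

theorem okμ : DM.Ok ι μ := okA code EM_ok EM_le

theorem μ_γ {x : ℕ} (h : x ≠ 37) : μ x = MulAut.conj (γ x) := μE_conj code EM_le (code_ne h)

theorem μ_ω : μ 37 = ω := μE_om code EM_le rfl

theorem ev_μ {l : List ℕ} (h : 37 ∉ l) : ev μ l = MulAut.conj (ev γ l) :=
  (ev_congr fun _ hx => μ_γ (ne_of_mem_of_not_mem hx h)).trans (map_ev MulAut.conj γ l).symm

theorem act_ev {w l r : List ℕ} (hl : 37 ∉ l) (hr : 37 ∉ r) :
    ev μ w (ev γ l) = ev γ r ↔ ev μ (w ++ l) = ev μ (r ++ w) := by
  rw [act_iff, ev_append, ev_append, ev_μ hl, ev_μ hr]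

end Cfsg.Agent.H50.SzA
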